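import Mathlib

/-! Over a finite field, all non-singular Hermitian matrices are congruent to the identity. -/

set_option autoImplicit false

namespace Cfsg.Agent.H58.HermCongr

open Matrix

variable {F : Type*} [Field F] (σ : F ≃+* F) {n : ℕ} (H : Matrix (Fin n) (Fin n) F)

/-- The sesquilinear form of `H`. -/
def form (u v : Fin n → F) : F := u ⬝ᵥ H *ᵥ fun i => σ (v i)

theorem add_left (u v w : Fin n → F) : form σ H (u + v) w = form σ H u w + form σ H v w :=
  add_dotProduct _ _ _

theorem smul_left (c : F) (u w : Fin n → F) : form σ H (c • u) w = c * form σ H u w :=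
  smul_dotProduct c _ _

theorem sub_left (u v w : Fin n → F) : form σ H (u - v) w = form σ H u w - form σ H v w :=
  sub_dotProduct _ _ _

theorem zero_left (w : Fin n → F) : form σ H 0 w = 0 := zero_dotProduct _

theorem add_right (u v w : Fin n → F) : form σ H u (v + w) = form σ H u v + form σ H u w := by
  unfold form
  rw [show (fun i => σ ((v + w) i)) = (fun i => σ (v i)) + fun i => σ (w i) from funext fun i => map_add σ _ _,
    mulVec_add, dotProduct_add]

theorem smul_right (c : F) (u w : Fin n → F) : form σ H u (c • w) = σ c * form σ H u w := by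
  unfold form
  rw [show (fun i => σ ((c • w) i)) = σ c • fun i => σ (w i) from funext fun i => map_mul σ _ _,
    mulVec_smul, dotProduct_smul, smul_eq_mul]

theorem sub_right (u v w : Fin n → F) : form σ H u (v - w) = form σ H u v - form σ H u w := by
  rw [eq_sub_iff_add_eq, ← add_right, sub_add_cancel]

variable {σ H}

theorem swap (h2 : ∀ x, σ (σ x) = x) (hH : (H.map σ)ᵀ = H) (u v : Fin n → F) :
    σ (form σ H u v) = form σ H v u := by
  unfold form
  have h : σ (u ⬝ᵥ H *ᵥ fun i => σ (v i)) = (fun i => σ (u i)) ⬝ᵥ (H.map σ) *ᵥ v := by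
    simp only [dotProduct, mulVec, map_sum, map_mul, Matrix.map_apply, h2]
  rw [h, dotProduct_mulVec, ← mulVec_transpose, hH, dotProduct_comm]

/-- An orthonormal family. -/
def ON {k : ℕ} (σ : F ≃+* F) (H : Matrix (Fin n) (Fin n) F) (f : Fin k → Fin n → F) : Prop :=
  ∀ i j, form σ H (f i) (f j) = if i = j then 1 else 0

theorem exists_ON (h2 : ∀ x, σ (σ x) = x) (hne : ∃ x, σ x ≠ x) (hN : ∀ a, σ a = a → ∃ x, x * σ x = a)
    (hH : (H.map σ)ᵀ = H) (W : Submodule F (Fin n → F))
    (hW : ∀ u ∈ W, (∀ v ∈ W, form σ H u v = 0) → u = 0) :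
    ∃ (k : ℕ) (f : Fin k → Fin n → F), ON σ H f ∧ Submodule.span F (Set.range f) = W := by
  induction hd : Module.finrank F W using Nat.strong_induction_on generalizing W with
  | h d ih =>
  by_cases hbot : W = ⊥
  · exact ⟨0, Fin.elim0, fun i => i.elim0, by simp [hbot]⟩
  obtain ⟨u, huW, hu0⟩ := W.exists_mem_ne_zero_of_ne_bot hbot
  obtain ⟨a, ha⟩ : ∃ a : F, a + σ a ≠ 0 := by
    by_contra hc
    push Not at hc
    obtain ⟨x, hx⟩ := hne
    have h1 := hc 1
    rw [map_one] at h1
    apply hx
    have h3 := hc x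
    linear_combination h3 - x * h1
  obtain ⟨w, hwW, hw⟩ : ∃ w ∈ W, form σ H w w ≠ 0 := by
    by_contra hcon
    push Not at hcon
    refine hu0 (hW u huW fun v hv => ?_)
    by_contra huv
    apply ha
    have h1 := hcon _ (W.add_mem (W.smul_mem (a / form σ H u v) huW) hv)
    rw [add_left, add_right, add_right, hcon _ (W.smul_mem _ huW), hcon v hv, ← swap h2 hH (_ • u) v,
      smul_left, div_mul_cancel₀ a huv, zero_add, add_zero] at h1
    exact h1
  obtain ⟨l, hl⟩ := hN (form σ H w w)⁻¹ (by rw [map_inv₀, swap h2 hH])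
  have hv : form σ H (l • w) (l • w) = 1 := by
    rw [smul_left, smul_right, ← mul_assoc, hl, inv_mul_cancel₀ hw]
  set v := l • w with hvdef
  have hvW : v ∈ W := W.smul_mem l hwW
  let P : Submodule F (Fin n → F) :=
    { carrier := {x | form σ H x v = 0}
      add_mem' := fun {a b} ha hb => by
        show form σ H (a + b) v = 0
        rw [add_left, ha, hb, add_zero]
      zero_mem' := zero_left σ H v
      smul_mem' := fun c x hx => by
        show form σ H (c • x) v = 0
        rw [smul_left, hx, mul_zero] }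
  have hsplit : ∀ x ∈ W, x - form σ H x v • v ∈ W ⊓ P := by
    intro x hx
    refine ⟨W.sub_mem hx (W.smul_mem _ hvW), ?_⟩
    show form σ H _ v = 0
    rw [sub_left, smul_left, hv, mul_one, sub_self]
  have hW' : ∀ u ∈ W ⊓ P, (∀ x ∈ W ⊓ P, form σ H u x = 0) → u = 0 := by
    intro u hu h
    refine hW u hu.1 fun x hx => ?_
    have h1 := h _ (hsplit x hx)
    rwa [sub_right, smul_right, show form σ H u v = 0 from hu.2, mul_zero, sub_zero] at h1
  have hlt : Module.finrank F ↥(W ⊓ P) < d := by
    rw [← hd]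
    refine Submodule.finrank_lt_finrank_of_lt (lt_of_le_of_ne inf_le_left fun h => ?_)
    have : v ∈ W ⊓ P := by rw [h]; exact hvW
    exact one_ne_zero (hv.symm.trans this.2)
  obtain ⟨k, f, hf, hspan⟩ := ih _ hlt _ hW' rfl
  have hfv : ∀ i, form σ H (f i) v = 0 := fun i =>
    ((hspan ▸ Submodule.subset_span ⟨i, rfl⟩ : f i ∈ W ⊓ P)).2
  refine ⟨k + 1, Fin.cons v f, ?_, ?_⟩
  · intro i j
    refine Fin.cases ?_ (fun i => ?_) i <;> refine Fin.cases ?_ (fun j => ?_) j
    · simpa using hv
    · simpa [(Fin.succ_ne_zero j).symm, ← swap h2 hH (f j) v] using hfv j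
    · simpa [Fin.succ_ne_zero i] using hfv i
    · simpa using hf i j
  rw [Fin.range_cons, Submodule.span_insert, hspan]
  refine le_antisymm (sup_le ((Submodule.span_singleton_le_iff_mem _ _).2 hvW) inf_le_left) ?_
  intro x hx
  rw [← add_sub_cancel (form σ H x v • v) x]
  exact Submodule.add_mem_sup (Submodule.smul_mem _ _ (Submodule.mem_span_singleton_self v)) (hsplit x hx)

theorem exists_congr_one (h2 : ∀ x, σ (σ x) = x) (hne : ∃ x, σ x ≠ x) (hN : ∀ a, σ a = a → ∃ x, x * σ x = a)
    (H : GL (Fin n) F) (hH : ((H : Matrix (Fin n) (Fin n) F).map σ)ᵀ = H) :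
    ∃ B : GL (Fin n) F, (H : Matrix (Fin n) (Fin n) F) = B * ((B : Matrix (Fin n) (Fin n) F).map σ)ᵀ := by
  obtain ⟨k, f, hf, hspan⟩ := exists_ON h2 hne hN hH ⊤ fun u _ hu => by
    have h1 : ∀ w, u ⬝ᵥ (H : Matrix (Fin n) (Fin n) F) *ᵥ w = 0 := fun w => by
      simpa [form] using hu (fun i => σ.symm (w i)) trivial
    funext i
    have h3 := h1 (((H⁻¹ : GL (Fin n) F) : Matrix (Fin n) (Fin n) F) *ᵥ Pi.single i 1)
    rw [mulVec_mulVec, ← Units.val_mul, mul_inv_cancel, Units.val_one, one_mulVec] at h3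
    simpa using h3
  have hli : LinearIndependent F f := by
    rw [Fintype.linearIndependent_iff]
    intro c hc j
    have h1 : form σ (H : Matrix (Fin n) (Fin n) F) (∑ i, c i • f i) (f j) = c j := by
      rw [show form σ (H : Matrix (Fin n) (Fin n) F) (∑ i, c i • f i) (f j) =
        ∑ i, c i * form σ (H : Matrix (Fin n) (Fin n) F) (f i) (f j) from by
          unfold form
          rw [sum_dotProduct]
          simp only [smul_dotProduct, smul_eq_mul]]
      simp [hf _ j]
    rw [hc, zero_left] at h1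
    exact h1.symm
  have hk : k = n := by
    have := finrank_span_eq_card hli
    rw [hspan] at this
    simpa using this.symm
  subst hk
  let M : Matrix (Fin k) (Fin k) F := fun i j => f i j
  have hM : IsUnit M := Matrix.linearIndependent_rows_iff_isUnit.mp hli
  refine ⟨hM.unit⁻¹, ?_⟩
  have h1 : M * (H : Matrix (Fin k) (Fin k) F) * (M.map σ)ᵀ = 1 := by
    ext i j
    rw [Matrix.one_apply, ← hf i j]
    rw [Matrix.mul_assoc, Matrix.mul_apply]
    exact Finset.sum_congr rfl fun a _ => congrArg (M i a * ·) (Matrix.mul_apply (M := (H : Matrix (Fin k) (Fin k) F)))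
  have hinv : ((hM.unit⁻¹ : GL (Fin k) F) : Matrix (Fin k) (Fin k) F) * M = 1 := hM.val_inv_mul
  have hinv' : (M.map σ)ᵀ * (((hM.unit⁻¹ : GL (Fin k) F) : Matrix (Fin k) (Fin k) F).map σ)ᵀ = 1 := by
    rw [← Matrix.transpose_mul, ← Matrix.map_mul, hinv, Matrix.map_one _ (map_zero σ) (map_one σ),
      Matrix.transpose_one]
  generalize (((hM.unit⁻¹ : GL (Fin k) F) : Matrix (Fin k) (Fin k) F)) = N at hinv hinv' ⊢
  calc (H : Matrix (Fin k) (Fin k) F) = (N * M) * H * ((M.map σ)ᵀ * (N.map σ)ᵀ) := by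
        rw [hinv, hinv', one_mul, mul_one]
    _ = N * (M * H * (M.map σ)ᵀ) * (N.map σ)ᵀ := by simp only [mul_assoc]
    _ = _ := by rw [h1, mul_one]

end Cfsg.Agent.H58.HermCongr
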