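import Cfsg.Agent.H58.Amalgam

/-!
Consequences of the characteristic `p` hypothesis on an amalgam pair.
-/

set_option autoImplicit false
set_option linter.unusedSectionVars false

namespace Cfsg.Agent.H58

variable {X : Type*} [Group X] {p : ℕ} [Fact p.Prime]

/-- `T` is a Sylow `p`-subgroup of the finite subgroup `H`, stated by orders. -/
def IsSylIn (p : ℕ) (T H : Subgroup X) : Prop :=
  T ≤ H ∧ Nat.card T = p ^ (Nat.card H).factorization p

theorem IsSylIn.isPGroup {T H : Subgroup X} (h : IsSylIn p T H) : IsPGroup p T :=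
  IsPGroup.of_card h.2

theorem isSylIn_map_subtype {H : Subgroup X} [Finite H] (S : Sylow p H) :
    IsSylIn p ((S : Subgroup H).map H.subtype) H := by
  refine ⟨Subgroup.map_subtype_le _, ?_⟩
  rw [Subgroup.card_map_of_injective H.subtype_injective]
  exact S.card_eq_multiplicity

theorem IsSylIn.exists_sylow {T H : Subgroup X} [Finite H] (h : IsSylIn p T H) :
    ∃ S : Sylow p H, (S : Subgroup H).map H.subtype = T := by
  refine ⟨Sylow.ofCard (T.subgroupOf H) ?_, ?_⟩
  · rw [Nat.card_congr (Subgroup.subgroupOfEquivOfLe h.1).toEquiv]; exact h.2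
  · rw [Sylow.coe_ofCard, Subgroup.subgroupOf_map_subtype, inf_eq_left.2 h.1]

theorem IsSylIn.map_conj {T H : Subgroup X} (h : IsSylIn p T H) (g : X) :
    IsSylIn p (T.map (MulAut.conj g).toMonoidHom) (H.map (MulAut.conj g).toMonoidHom) := by
  refine ⟨Subgroup.map_mono h.1, ?_⟩
  rw [Subgroup.card_map_of_injective (MulAut.conj g).injective,
    Subgroup.card_map_of_injective (MulAut.conj g).injective]
  exact h.2

theorem map_conj_eq_self {H : Subgroup X} {g : X} (hg : g ∈ Subgroup.normalizer (H : Set X)) :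
    H.map (MulAut.conj g).toMonoidHom = H := by
  ext x
  rw [mem_map_conj, Subgroup.mem_normalizer_iff.1 (inv_mem hg) x, inv_inv]

theorem mem_normalizer_of_map_conj_eq {H : Subgroup X} {g : X}
    (h : H.map (MulAut.conj g).toMonoidHom = H) : g ∈ Subgroup.normalizer (H : Set X) := by
  rw [Subgroup.mem_normalizer_iff]
  intro x
  conv_rhs => rw [← h, mem_map_conj]
  simp [mul_assoc]

theorem map_conj_map_conj (H : Subgroup X) (a b : X) :
    (H.map (MulAut.conj b).toMonoidHom).map (MulAut.conj a).toMonoidHom =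
      H.map (MulAut.conj (a * b)).toMonoidHom := by
  ext x
  simp only [mem_map_conj]
  simp [mul_assoc]

theorem exists_conj_of_isSylIn {T T' H : Subgroup X} [Finite H] (h : IsSylIn p T H) (h' : IsSylIn p T' H) :
    ∃ k ∈ H, T.map (MulAut.conj k).toMonoidHom = T' := by
  obtain ⟨S, rfl⟩ := h.exists_sylow
  obtain ⟨S', rfl⟩ := h'.exists_sylow
  obtain ⟨k, rfl⟩ := MulAction.exists_smul_eq H S S'
  refine ⟨k, k.2, ?_⟩
  ext x
  rw [mem_map_conj]
  simp only [Subgroup.mem_map, Sylow.coe_subgroup_smul, Subgroup.mem_pointwise_smul_iff_inv_smul_mem]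
  constructor
  · rintro ⟨a, ha, he⟩
    refine ⟨k * a * k⁻¹, ?_, ?_⟩
    · simpa [mul_assoc] using ha
    · have he' : (a : X) = (k : X)⁻¹ * x * k := he
      simp [he', mul_assoc]
  · rintro ⟨a, ha, rfl⟩
    exact ⟨_, ha, by simp [mul_assoc]⟩

theorem IsSylIn.le_of_normalized {T H N : Subgroup X} [Finite H] (h : IsSylIn p T H) (hNH : N ≤ H)
    (hN : IsPGroup p N) (hn : H ≤ Subgroup.normalizer (N : Set X)) : N ≤ T := by
  obtain ⟨S, rfl⟩ := h.exists_sylow
  have : (N.subgroupOf H).Normal := Subgroup.normal_subgroupOf_of_le_normalizer hn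
  have hp : IsPGroup p (N.subgroupOf H) := hN.of_equiv (Subgroup.subgroupOfEquivOfLe hNH).symm
  have hle : N.subgroupOf H ≤ (S : Subgroup H) :=
    le_sup_right.trans (S.is_maximal' (S.isPGroup'.to_sup_of_normal_right hp) le_sup_left).le
  have := Subgroup.map_mono (f := H.subtype) hle
  rwa [Subgroup.subgroupOf_map_subtype, inf_eq_left.2 hNH] at this

theorem pCore_le_sylow {G : Type*} [Group G] [Finite G] (S : Sylow p G) : Cfsg.pCore p G ≤ (S : Subgroup G) :=
  sSup_le fun N hN => by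
    have := hN.1
    exact le_sup_right.trans (S.is_maximal' (S.isPGroup'.to_sup_of_normal_right hN.2) le_sup_left).le

theorem pCore_isPGroup {G : Type*} [Group G] [Finite G] : IsPGroup p (Cfsg.pCore p G) :=
  (Classical.arbitrary (Sylow p G)).isPGroup'.to_le (pCore_le_sylow _)

theorem pCoreOf_le (H : Subgroup X) : Cfsg.pCoreOf p H ≤ H := Subgroup.map_subtype_le _

omit [Fact p.Prime] in
theorem pCore_normal {G : Type*} [Group G] : (Cfsg.pCore p G).Normal := by
  constructor
  intro n hn g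
  have : (Cfsg.pCore p G).map (MulAut.conj g).toMonoidHom ≤ Cfsg.pCore p G := by
    rw [Cfsg.pCore, sSup_eq_iSup, Subgroup.map_iSup]
    refine iSup_le fun N => ?_
    rw [Subgroup.map_iSup]
    refine iSup_le fun hN => ?_
    refine le_trans ?_ (le_iSup₂_of_le N hN le_rfl)
    have := hN.1
    exact fun x hx => by
      obtain ⟨a, ha, rfl⟩ := hx
      exact this.conj_mem a ha g
  exact this ⟨n, hn, by simp⟩

theorem pCoreOf_isPGroup (H : Subgroup X) [Finite H] : IsPGroup p (Cfsg.pCoreOf p H) :=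
  pCore_isPGroup.map _

theorem le_normalizer_pCoreOf (H : Subgroup X) : H ≤ Subgroup.normalizer (Cfsg.pCoreOf p H : Set X) := by
  intro h hh
  apply mem_normalizer_of_map_conj_eq
  apply le_antisymm
  · rintro _ ⟨_, ⟨a, ha, rfl⟩, rfl⟩
    exact ⟨_, (pCore_normal (p := p)).conj_mem a ha ⟨h, hh⟩, by simp⟩
  · rintro _ ⟨a, ha, rfl⟩
    refine (mem_map_conj _ _ _).2 ⟨_, (pCore_normal (p := p)).conj_mem a ha ⟨h, hh⟩⁻¹, ?_⟩
    simp [mul_assoc]

theorem IsSylIn.pCoreOf_le {T H : Subgroup X} [Finite H] (h : IsSylIn p T H) : Cfsg.pCoreOf p H ≤ T :=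
  h.le_of_normalized (H58.pCoreOf_le H) (pCoreOf_isPGroup H) (le_normalizer_pCoreOf H)

theorem le_pCoreOf {H N : Subgroup X} (hNH : N ≤ H) (hN : IsPGroup p N)
    (hn : H ≤ Subgroup.normalizer (N : Set X)) : N ≤ Cfsg.pCoreOf p H := by
  have h1 : N.subgroupOf H ≤ Cfsg.pCore p H :=
    le_sSup ⟨Subgroup.normal_subgroupOf_of_le_normalizer hn,
      hN.of_equiv (Subgroup.subgroupOfEquivOfLe hNH).symm⟩
  have := Subgroup.map_mono (f := H.subtype) h1
  rwa [Subgroup.subgroupOf_map_subtype, inf_eq_left.2 hNH] at this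

theorem pCoreOf_map_conj (H : Subgroup X) [Finite H] (g : X) :
    Cfsg.pCoreOf p (H.map (MulAut.conj g).toMonoidHom) =
      (Cfsg.pCoreOf p H).map (MulAut.conj g).toMonoidHom := by
  have key : ∀ (K : Subgroup X) [Finite K] (a : X),
      (Cfsg.pCoreOf p K).map (MulAut.conj a).toMonoidHom ≤
        Cfsg.pCoreOf p (K.map (MulAut.conj a).toMonoidHom) := by
    intro K _ a
    refine le_pCoreOf (Subgroup.map_mono (H58.pCoreOf_le K)) ((pCoreOf_isPGroup K).map _) ?_
    rintro _ ⟨k, hk, rfl⟩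
    apply mem_normalizer_of_map_conj_eq
    rw [map_conj_map_conj]
    have : (MulAut.conj a).toMonoidHom k * a = a * k := by simp
    rw [this, ← map_conj_map_conj, map_conj_eq_self (le_normalizer_pCoreOf K hk)]
  have hfin : Finite (H.map (MulAut.conj g).toMonoidHom : Subgroup X) :=
    Finite.of_equiv _ (H.equivMapOfInjective _ (MulAut.conj g).injective).toEquiv
  refine le_antisymm ?_ (key H g)
  have h2 := key (H.map (MulAut.conj g).toMonoidHom) g⁻¹
  rw [map_conj_map_conj, inv_mul_cancel] at h2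
  have h3 : H.map (MulAut.conj (1 : X)).toMonoidHom = H := by ext x; rw [mem_map_conj]; simp
  rw [h3] at h2
  have h4 := Subgroup.map_mono (f := (MulAut.conj g).toMonoidHom) h2
  rw [map_conj_map_conj, mul_inv_cancel] at h4
  convert h4 using 1
  ext x; rw [mem_map_conj]; simp

/-- `Ω₁(Z(T))`. -/
def omegaCenter (p : ℕ) (T : Subgroup X) : Subgroup X :=
  Cfsg.omegaOne p (T ⊓ Subgroup.centralizer (T : Set X))

omit [Fact p.Prime] in
theorem mem_omegaCenter_of {T : Subgroup X} {x : X} (h1 : x ∈ T) (h2 : ∀ t ∈ T, t * x = x * t)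
    (h3 : x ^ p = 1) : x ∈ omegaCenter p T :=
  Subgroup.subset_closure ⟨⟨h1, Subgroup.mem_centralizer_iff.2 h2⟩, h3⟩

omit [Fact p.Prime] in
theorem omegaCenter_le (T : Subgroup X) : omegaCenter p T ≤ T ⊓ Subgroup.centralizer (T : Set X) :=
  (Subgroup.closure_le _).2 fun _ hx => hx.1

omit [Fact p.Prime] in
theorem omegaCenter_map_conj_le (T : Subgroup X) (g : X) :
    (omegaCenter p T).map (MulAut.conj g).toMonoidHom ≤
      omegaCenter p (T.map (MulAut.conj g).toMonoidHom) := by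
  rw [omegaCenter, Cfsg.omegaOne, MonoidHom.map_closure, Subgroup.closure_le]
  rintro _ ⟨x, ⟨⟨h1, h2⟩, h3⟩, rfl⟩
  refine mem_omegaCenter_of ⟨x, h1, rfl⟩ ?_ ?_
  · rintro _ ⟨t, ht, rfl⟩
    rw [← map_mul, ← map_mul, Subgroup.mem_centralizer_iff.1 h2 t ht]
  · rw [← map_pow, h3, map_one]

theorem omegaCenter_le_sylowCenterClosure {T H : Subgroup X} [Finite H] (h : IsSylIn p T H) :
    omegaCenter p T ≤ Cfsg.sylowCenterClosure p H := by
  obtain ⟨S, rfl⟩ := h.exists_sylow
  exact le_iSup_of_le S le_rfl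

theorem sylowCenterClosure_le {H K : Subgroup X} [Finite H]
    (h : ∀ T : Subgroup X, IsSylIn p T H → omegaCenter p T ≤ K) : Cfsg.sylowCenterClosure p H ≤ K :=
  iSup_le fun S => h _ (isSylIn_map_subtype S)

theorem le_normalizer_sylowCenterClosure (H : Subgroup X) [Finite H] :
    H ≤ Subgroup.normalizer (Cfsg.sylowCenterClosure p H : Set X) := by
  have key : ∀ g ∈ H, (Cfsg.sylowCenterClosure p H).map (MulAut.conj g).toMonoidHom ≤
      Cfsg.sylowCenterClosure p H := by
    intro g hg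
    rw [Subgroup.map_le_iff_le_comap]
    refine sylowCenterClosure_le fun T hT => ?_
    rw [← Subgroup.map_le_iff_le_comap]
    refine (omegaCenter_map_conj_le T g).trans (omegaCenter_le_sylowCenterClosure ?_)
    have := hT.map_conj g
    rwa [map_conj_eq_self (Subgroup.le_normalizer hg)] at this
  intro g hg
  refine mem_normalizer_of_map_conj_eq (le_antisymm (key g hg) fun x hx => ?_)
  have := key g⁻¹ (H.inv_mem hg) ⟨x, hx, rfl⟩
  rw [mem_map_conj]
  simpa [mul_assoc] using this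

variable {M₁ M₂ : Subgroup X}

theorem finite_stabilizer (h : Cfsg.IsCharPAmalgamPair p M₁ M₂) (δ : Cfsg.CosetVertex M₁ M₂) :
    Finite (MulAction.stabilizer X δ) := by
  obtain ⟨-, h1, h2, -⟩ := h
  rcases δ with q | q <;> induction q using QuotientGroup.induction_on with | _ x => ?_
  · rw [stabilizer_inl]
    exact Finite.of_equiv _ (M₁.equivMapOfInjective _ (MulAut.conj x).injective).toEquiv
  · rw [stabilizer_inr]
    exact Finite.of_equiv _ (M₂.equivMapOfInjective _ (MulAut.conj x).injective).toEquiv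

theorem finite_edgeStabilizer (h : Cfsg.IsCharPAmalgamPair p M₁ M₂) (δ μ : Cfsg.CosetVertex M₁ M₂) :
    Finite (Cfsg.edgeStabilizer δ μ) :=
  have := finite_stabilizer h δ
  Finite.of_injective _ (Subgroup.inclusion_injective (inf_le_left :
    Cfsg.edgeStabilizer δ μ ≤ MulAction.stabilizer X δ))

theorem factorization_inf (h : Cfsg.IsCharPAmalgamPair p M₁ M₂) :
    (Nat.card ↥(M₁ ⊓ M₂)).factorization p = (Nat.card M₁).factorization p ∧
      (Nat.card ↥(M₁ ⊓ M₂)).factorization p = (Nat.card M₂).factorization p := by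
  obtain ⟨-, h1, h2, -, -, hs, -⟩ := h
  have : Finite ↥(M₁ ⊓ M₂) :=
    Finite.of_injective _ (Subgroup.inclusion_injective (inf_le_left : M₁ ⊓ M₂ ≤ M₁))
  have e := hs (Classical.arbitrary _) (Classical.arbitrary _) (Classical.arbitrary _)
  simp only [Sylow.card_eq_multiplicity] at e
  have hp : 2 ≤ p := (Fact.out : p.Prime).two_le
  exact ⟨Nat.pow_right_injective hp e.1, Nat.pow_right_injective hp e.2⟩

/-- A Sylow `p`-subgroup of an edge stabiliser is one of both vertex stabilisers. -/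
theorem IsSylIn.of_edge (h : Cfsg.IsCharPAmalgamPair p M₁ M₂) {δ μ : Cfsg.CosetVertex M₁ M₂}
    (hμ : (Cfsg.cosetGraph M₁ M₂).Adj δ μ) {T : Subgroup X}
    (hT : IsSylIn p T (Cfsg.edgeStabilizer δ μ)) :
    IsSylIn p T (MulAction.stabilizer X δ) ∧ IsSylIn p T (MulAction.stabilizer X μ) := by
  obtain ⟨e1, e2⟩ := factorization_inf h
  refine ⟨⟨hT.1.trans inf_le_left, ?_⟩, ⟨hT.1.trans inf_le_right, ?_⟩⟩ <;>
  · obtain ⟨x, ⟨rfl, rfl⟩ | ⟨rfl, rfl⟩⟩ := (adj_iff _ _).1 hμ <;>
    · rw [hT.2]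
      simp only [Cfsg.edgeStabilizer, stabilizer_inl, stabilizer_inr]
      first
        | rw [← Subgroup.map_inf _ _ _ (MulAut.conj x).injective,
            Subgroup.card_map_of_injective (MulAut.conj x).injective,
            Subgroup.card_map_of_injective (MulAut.conj x).injective]
        | rw [inf_comm, ← Subgroup.map_inf _ _ _ (MulAut.conj x).injective,
            Subgroup.card_map_of_injective (MulAut.conj x).injective,
            Subgroup.card_map_of_injective (MulAut.conj x).injective]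
      first
        | exact congrArg (p ^ ·) e1
        | exact congrArg (p ^ ·) e2
        | (rw [inf_comm]; exact congrArg (p ^ ·) e1)
        | (rw [inf_comm]; exact congrArg (p ^ ·) e2)

theorem vertexQ_le_neighbourKernel (h : Cfsg.IsCharPAmalgamPair p M₁ M₂) (δ : Cfsg.CosetVertex M₁ M₂) :
    Cfsg.vertexQ p δ ≤ Cfsg.neighbourKernel δ := by
  intro g hg
  have hδ := finite_stabilizer h δ
  rw [mem_neighbourKernel]
  refine ⟨pCoreOf_le _ hg, fun μ hμ => ?_⟩
  have := finite_edgeStabilizer h δ μ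
  obtain ⟨S⟩ := (inferInstance : Nonempty (Sylow p ↥(Cfsg.edgeStabilizer δ μ)))
  have hS := isSylIn_map_subtype S
  exact (hS.1 ((IsSylIn.of_edge h hμ hS).1.pCoreOf_le hg)).2

theorem centralizer_vertexQ_le (h : Cfsg.IsCharPAmalgamPair p M₁ M₂) (δ : Cfsg.CosetVertex M₁ M₂) :
    MulAction.stabilizer X δ ⊓ Subgroup.centralizer (Cfsg.vertexQ p δ : Set X) ≤ Cfsg.vertexQ p δ := by
  obtain ⟨-, h1, h2, -, -, -, c1, c2⟩ := h
  have key : ∀ (M : Subgroup X) [Finite M], Subgroup.centralizer (Cfsg.pCore p M : Set M) ≤ Cfsg.pCore p M →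
      ∀ x : X, M.map (MulAut.conj x).toMonoidHom ⊓
        Subgroup.centralizer (Cfsg.pCoreOf p (M.map (MulAut.conj x).toMonoidHom) : Set X) ≤
          Cfsg.pCoreOf p (M.map (MulAut.conj x).toMonoidHom) := by
    intro M _ c x
    rw [pCoreOf_map_conj]
    rintro _ ⟨⟨m, hm, rfl⟩, hc⟩
    refine ⟨m, ⟨⟨m, hm⟩, c ?_, rfl⟩, rfl⟩
    rw [Subgroup.mem_centralizer_iff]
    intro a ha
    apply Subtype.ext
    apply (MulAut.conj x).injective
    simpa using Subgroup.mem_centralizer_iff.1 hc _ ⟨a, ⟨a, ha, rfl⟩, rfl⟩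
  rcases δ with q | q <;> induction q using QuotientGroup.induction_on with | _ x => ?_
  · simp only [Cfsg.vertexQ, stabilizer_inl]; exact key M₁ c1 x
  · simp only [Cfsg.vertexQ, stabilizer_inr]; exact key M₂ c2 x

theorem vertexZ_le_vertexQ (h : Cfsg.IsCharPAmalgamPair p M₁ M₂) (δ : Cfsg.CosetVertex M₁ M₂) :
    Cfsg.vertexZ p δ ≤ Cfsg.vertexQ p δ := by
  have := finite_stabilizer h δ
  refine sylowCenterClosure_le fun T hT x hx => centralizer_vertexQ_le h δ ⟨?_, ?_⟩
  · exact hT.1 ((omegaCenter_le T hx).1)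
  · exact Subgroup.centralizer_le (fun a ha => hT.pCoreOf_le ha) (omegaCenter_le T hx).2

theorem vertexZ_le_stabilizer (h : Cfsg.IsCharPAmalgamPair p M₁ M₂) (δ : Cfsg.CosetVertex M₁ M₂) :
    Cfsg.vertexZ p δ ≤ MulAction.stabilizer X δ :=
  (vertexZ_le_vertexQ h δ).trans (pCoreOf_le _)

theorem vertexZ_le_neighbourKernel_of_dist_lt {δ μ : Cfsg.CosetVertex M₁ M₂}
    (hd : (Cfsg.cosetGraph M₁ M₂).dist δ μ < Cfsg.criticalDistance p M₁ M₂) :
    Cfsg.vertexZ p δ ≤ Cfsg.neighbourKernel μ := by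
  by_contra hc
  exact absurd (Nat.sInf_le (s := {n : ℕ | ∃ δ μ : Cfsg.CosetVertex M₁ M₂,
    (Cfsg.cosetGraph M₁ M₂).dist δ μ = n ∧ ¬ Cfsg.vertexZ p δ ≤ Cfsg.neighbourKernel μ})
      ⟨δ, μ, rfl, hc⟩) (not_le.2 hd)

theorem criticalDistance_pos (h : Cfsg.IsCharPAmalgamPair p M₁ M₂) {α α' : Cfsg.CosetVertex M₁ M₂}
    (hc : Cfsg.IsCriticalPair p α α') : 0 < Cfsg.criticalDistance p M₁ M₂ := by
  by_contra h0
  have e : (Cfsg.cosetGraph M₁ M₂).dist α α' = 0 := by rw [hc.2]; omega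
  obtain rfl := (connected h.1.1).dist_eq_zero_iff.1 e
  exact hc.1 ((vertexZ_le_vertexQ h α).trans (vertexQ_le_neighbourKernel h α))

theorem exists_adj_dist_pred (hconn : (Cfsg.cosetGraph M₁ M₂).Connected) {v u : Cfsg.CosetVertex M₁ M₂}
    (hne : 0 < (Cfsg.cosetGraph M₁ M₂).dist v u) :
    ∃ w, (Cfsg.cosetGraph M₁ M₂).Adj v w ∧
      (Cfsg.cosetGraph M₁ M₂).dist w u < (Cfsg.cosetGraph M₁ M₂).dist v u := by
  obtain ⟨q, hq⟩ := hconn.exists_walk_length_eq_dist v u
  cases q with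
  | nil => simp at hne
  | @cons _ w _ hadj q' =>
      refine ⟨w, hadj, ?_⟩
      have := SimpleGraph.dist_le q'
      rw [SimpleGraph.Walk.length_cons] at hq
      omega

theorem vertexZ_le_stabilizer_of_dist_le (h : Cfsg.IsCharPAmalgamPair p M₁ M₂)
    {δ v : Cfsg.CosetVertex M₁ M₂}
    (hd : (Cfsg.cosetGraph M₁ M₂).dist δ v ≤ Cfsg.criticalDistance p M₁ M₂) :
    Cfsg.vertexZ p δ ≤ MulAction.stabilizer X v := by
  rcases Nat.eq_zero_or_pos ((Cfsg.cosetGraph M₁ M₂).dist δ v) with h0 | h0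
  · obtain rfl := (connected h.1.1).dist_eq_zero_iff.1 h0
    exact vertexZ_le_stabilizer h δ
  · rw [SimpleGraph.dist_comm] at h0 hd
    obtain ⟨w, hw, hlt⟩ := exists_adj_dist_pred (connected h.1.1) h0
    intro g hg
    have hk := vertexZ_le_neighbourKernel_of_dist_lt (p := p) (δ := δ) (μ := w)
      (by rw [SimpleGraph.dist_comm]; omega) hg
    exact ((mem_neighbourKernel _ _).1 hk).2 v hw.symm

theorem vertexZ_commutator_le (h : Cfsg.IsCharPAmalgamPair p M₁ M₂) {δ v : Cfsg.CosetVertex M₁ M₂}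
    (hd : (Cfsg.cosetGraph M₁ M₂).dist δ v ≤ Cfsg.criticalDistance p M₁ M₂) :
    ⁅Cfsg.vertexZ p δ, Cfsg.vertexZ p v⁆ ≤ Cfsg.vertexZ p v := by
  have := finite_stabilizer h v
  rw [Subgroup.commutator_le]
  intro a ha b hb
  have hn := le_normalizer_sylowCenterClosure (p := p) (MulAction.stabilizer X v)
    (vertexZ_le_stabilizer_of_dist_le h hd ha)
  exact mul_mem ((Subgroup.mem_normalizer_iff.1 hn b).1 hb) (inv_mem hb)

theorem IsSylIn.le_pElementClosure {T H : Subgroup X} [Finite H] (h : IsSylIn p T H) :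
    T ≤ Cfsg.pElementClosure p H := by
  intro x hx
  refine Subgroup.subset_closure ⟨h.1 hx, ?_⟩
  obtain ⟨k, hk⟩ := (IsPGroup.iff_orderOf.1 h.isPGroup) ⟨x, hx⟩
  exact ⟨k, by rw [← hk, Subgroup.orderOf_mk]⟩

omit [Fact p.Prime] in
theorem pElementClosure_le (H : Subgroup X) : Cfsg.pElementClosure p H ≤ H :=
  (Subgroup.closure_le _).2 fun _ hx => hx.1

omit [Fact p.Prime] in
theorem le_normalizer_pElementClosure (H : Subgroup X) :
    H ≤ Subgroup.normalizer (Cfsg.pElementClosure p H : Set X) := by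
  have key : ∀ g ∈ H, (Cfsg.pElementClosure p H).map (MulAut.conj g).toMonoidHom ≤
      Cfsg.pElementClosure p H := by
    intro g hg
    rw [Cfsg.pElementClosure, MonoidHom.map_closure, Subgroup.closure_le]
    rintro _ ⟨x, ⟨hx, k, hk⟩, rfl⟩
    refine Subgroup.subset_closure ⟨?_, k, ?_⟩
    · simpa using H.mul_mem (H.mul_mem hg hx) (H.inv_mem hg)
    · rw [← hk]; exact orderOf_injective _ (MulAut.conj g).injective x
  intro g hg
  refine mem_normalizer_of_map_conj_eq (le_antisymm (key g hg) fun x hx => ?_)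
  have := key g⁻¹ (H.inv_mem hg) ⟨x, hx, rfl⟩
  rw [mem_map_conj]
  simpa [mul_assoc] using this

end Cfsg.Agent.H58
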