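import Cfsg.Prelude.Def_Amalgam

/-!
Basic API for the coset graph of a pair of subgroups (Def_Amalgam).
-/

set_option autoImplicit false

namespace Cfsg.Agent.H58

variable {X : Type*} [Group X] {M₁ M₂ : Subgroup X}

theorem adj_iff (δ μ : Cfsg.CosetVertex M₁ M₂) :
    (Cfsg.cosetGraph M₁ M₂).Adj δ μ ↔
      ∃ x : X, (δ = Sum.inl (x : X ⧸ M₁) ∧ μ = Sum.inr (x : X ⧸ M₂)) ∨
        (μ = Sum.inl (x : X ⧸ M₁) ∧ δ = Sum.inr (x : X ⧸ M₂)) := by
  unfold Cfsg.cosetGraph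
  rw [SimpleGraph.fromRel_adj]
  constructor
  · rintro ⟨-, ⟨x, h1, h2⟩ | ⟨x, h1, h2⟩⟩
    · exact ⟨x, Or.inl ⟨h1, h2⟩⟩
    · exact ⟨x, Or.inr ⟨h1, h2⟩⟩
  · rintro ⟨x, ⟨h1, h2⟩ | ⟨h1, h2⟩⟩
    · exact ⟨by simp [h1, h2], Or.inl ⟨x, h1, h2⟩⟩
    · exact ⟨by simp [h1, h2], Or.inr ⟨x, h1, h2⟩⟩

theorem adj_coe (x : X) :
    (Cfsg.cosetGraph M₁ M₂).Adj (Sum.inl (x : X ⧸ M₁)) (Sum.inr (x : X ⧸ M₂)) :=
  (adj_iff _ _).2 ⟨x, Or.inl ⟨rfl, rfl⟩⟩

theorem smul_inl_coe (g x : X) :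
    g • (Sum.inl (x : X ⧸ M₁) : Cfsg.CosetVertex M₁ M₂) = Sum.inl ((g * x : X) : X ⧸ M₁) := rfl

theorem smul_inr_coe (g x : X) :
    g • (Sum.inr (x : X ⧸ M₂) : Cfsg.CosetVertex M₁ M₂) = Sum.inr ((g * x : X) : X ⧸ M₂) := rfl

theorem smul_adj {δ μ : Cfsg.CosetVertex M₁ M₂} (g : X) (h : (Cfsg.cosetGraph M₁ M₂).Adj δ μ) :
    (Cfsg.cosetGraph M₁ M₂).Adj (g • δ) (g • μ) := by
  obtain ⟨x, ⟨rfl, rfl⟩ | ⟨rfl, rfl⟩⟩ := (adj_iff _ _).1 h
  · exact (adj_iff _ _).2 ⟨g * x, Or.inl ⟨rfl, rfl⟩⟩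
  · exact (adj_iff _ _).2 ⟨g * x, Or.inr ⟨rfl, rfl⟩⟩

theorem smul_adj_iff {δ μ : Cfsg.CosetVertex M₁ M₂} (g : X) :
    (Cfsg.cosetGraph M₁ M₂).Adj (g • δ) (g • μ) ↔ (Cfsg.cosetGraph M₁ M₂).Adj δ μ := by
  refine ⟨fun h => ?_, smul_adj g⟩
  have h' := smul_adj g⁻¹ h
  rwa [inv_smul_smul, inv_smul_smul] at h'

theorem mem_stabilizer_inl (g x : X) :
    g ∈ MulAction.stabilizer X (Sum.inl (x : X ⧸ M₁) : Cfsg.CosetVertex M₁ M₂) ↔ x⁻¹ * g * x ∈ M₁ := by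
  rw [MulAction.mem_stabilizer_iff, smul_inl_coe, Sum.inl.injEq, eq_comm, QuotientGroup.eq, mul_assoc]

theorem mem_stabilizer_inr (g x : X) :
    g ∈ MulAction.stabilizer X (Sum.inr (x : X ⧸ M₂) : Cfsg.CosetVertex M₁ M₂) ↔ x⁻¹ * g * x ∈ M₂ := by
  rw [MulAction.mem_stabilizer_iff, smul_inr_coe, Sum.inr.injEq, eq_comm, QuotientGroup.eq, mul_assoc]

theorem mem_map_conj (M : Subgroup X) (g x : X) :
    g ∈ M.map (MulAut.conj x).toMonoidHom ↔ x⁻¹ * g * x ∈ M := by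
  constructor
  · rintro ⟨m, hm, rfl⟩
    simpa [mul_assoc] using hm
  · intro h
    exact ⟨_, h, by simp [mul_assoc]⟩

theorem stabilizer_inl (x : X) :
    MulAction.stabilizer X (Sum.inl (x : X ⧸ M₁) : Cfsg.CosetVertex M₁ M₂) =
      M₁.map (MulAut.conj x).toMonoidHom := by
  ext g; rw [mem_stabilizer_inl, mem_map_conj]

theorem stabilizer_inr (x : X) :
    MulAction.stabilizer X (Sum.inr (x : X ⧸ M₂) : Cfsg.CosetVertex M₁ M₂) =
      M₂.map (MulAut.conj x).toMonoidHom := by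
  ext g; rw [mem_stabilizer_inr, mem_map_conj]

theorem stabilizer_inl_one :
    MulAction.stabilizer X (Sum.inl ((1 : X) : X ⧸ M₁) : Cfsg.CosetVertex M₁ M₂) = M₁ := by
  ext g; rw [mem_stabilizer_inl]; simp

theorem stabilizer_inr_one :
    MulAction.stabilizer X (Sum.inr ((1 : X) : X ⧸ M₂) : Cfsg.CosetVertex M₁ M₂) = M₂ := by
  ext g; rw [mem_stabilizer_inr]; simp

/-- Every vertex has a neighbour. -/
theorem exists_adj (δ : Cfsg.CosetVertex M₁ M₂) : ∃ μ, (Cfsg.cosetGraph M₁ M₂).Adj δ μ := by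
  rcases δ with q | q <;> induction q using QuotientGroup.induction_on with | _ x => ?_
  · exact ⟨_, adj_coe x⟩
  · exact ⟨_, (adj_coe x).symm⟩

/-- Every edge is a translate of the base edge. -/
theorem exists_eq_of_adj {δ μ : Cfsg.CosetVertex M₁ M₂} (h : (Cfsg.cosetGraph M₁ M₂).Adj δ μ) :
    ∃ x : X, (δ = x • Sum.inl ((1 : X) : X ⧸ M₁) ∧ μ = x • Sum.inr ((1 : X) : X ⧸ M₂)) ∨
      (μ = x • Sum.inl ((1 : X) : X ⧸ M₁) ∧ δ = x • Sum.inr ((1 : X) : X ⧸ M₂)) := by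
  obtain ⟨x, hx⟩ := (adj_iff _ _).1 h
  refine ⟨x, ?_⟩
  simpa [smul_inl_coe, smul_inr_coe] using hx

theorem exists_smul_eq_of_adj {δ μ μ' : Cfsg.CosetVertex M₁ M₂}
    (hμ : (Cfsg.cosetGraph M₁ M₂).Adj δ μ) (hμ' : (Cfsg.cosetGraph M₁ M₂).Adj δ μ') :
    ∃ g ∈ MulAction.stabilizer X δ, g • μ = μ' := by
  obtain ⟨x, hx⟩ := exists_eq_of_adj hμ
  obtain ⟨y, hy⟩ := exists_eq_of_adj hμ'
  refine ⟨y * x⁻¹, ?_, ?_⟩ <;>
    (rcases hx with ⟨h1, h2⟩ | ⟨h1, h2⟩ <;> rcases hy with ⟨h3, h4⟩ | ⟨h3, h4⟩)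
  · rw [MulAction.mem_stabilizer_iff]; nth_rw 1 [h1]; rw [← mul_smul, inv_mul_cancel_right, ← h3]
  · rw [h1] at h4; simp [smul_inl_coe, smul_inr_coe] at h4
  · rw [h2] at h3; simp [smul_inl_coe, smul_inr_coe] at h3
  · rw [MulAction.mem_stabilizer_iff]; nth_rw 1 [h2]; rw [← mul_smul, inv_mul_cancel_right, ← h4]
  · rw [h2, ← mul_smul, inv_mul_cancel_right, ← h4]
  · rw [h1] at h4; simp [smul_inl_coe, smul_inr_coe] at h4
  · rw [h2] at h3; simp [smul_inl_coe, smul_inr_coe] at h3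
  · rw [h1, ← mul_smul, inv_mul_cancel_right, ← h3]

theorem reachable_smul {δ μ : Cfsg.CosetVertex M₁ M₂} (g : X)
    (h : (Cfsg.cosetGraph M₁ M₂).Reachable δ μ) :
    (Cfsg.cosetGraph M₁ M₂).Reachable (g • δ) (g • μ) := by
  obtain ⟨w⟩ := h
  induction w with
  | nil => exact SimpleGraph.Reachable.refl _
  | cons hadj _ ih => exact (smul_adj g hadj).reachable.trans ih

theorem connected (hgen : M₁ ⊔ M₂ = ⊤) : (Cfsg.cosetGraph M₁ M₂).Connected := by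
  set o : Cfsg.CosetVertex M₁ M₂ := Sum.inl ((1 : X) : X ⧸ M₁) with ho
  have hstep : ∀ x : X, (Cfsg.cosetGraph M₁ M₂).Reachable o (x • o) := by
    intro x
    have hx : x ∈ Subgroup.closure ((M₁ : Set X) ∪ M₂) := by
      rw [Subgroup.closure_union, Subgroup.closure_eq, Subgroup.closure_eq, hgen]; trivial
    induction hx using Subgroup.closure_induction with
    | mem x hx =>
        rcases hx with hx | hx
        · have : x • o = o := by
            rw [ho, ← MulAction.mem_stabilizer_iff, stabilizer_inl_one]; exact hx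
          rw [this]
        · have h2 : x • (Sum.inr ((1 : X) : X ⧸ M₂) : Cfsg.CosetVertex M₁ M₂) = Sum.inr ((1 : X) : X ⧸ M₂) := by
            rw [← MulAction.mem_stabilizer_iff, stabilizer_inr_one]; exact hx
          have h3 := smul_adj x (adj_coe (M₁ := M₁) (M₂ := M₂) 1)
          rw [h2] at h3
          exact (adj_coe 1).reachable.trans h3.symm.reachable
    | one => rw [one_smul]
    | mul a b _ _ ha hb => rw [mul_smul]; exact ha.trans (reachable_smul a hb)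
    | inv a _ ha =>
        have := reachable_smul a⁻¹ ha
        rw [inv_smul_smul] at this
        exact this.symm
  have hall : ∀ v, (Cfsg.cosetGraph M₁ M₂).Reachable o v := by
    intro v
    rcases v with q | q <;> induction q using QuotientGroup.induction_on with | _ x => ?_
    · simpa [ho, smul_inl_coe] using hstep x
    · have := hstep x
      rw [ho, smul_inl_coe, mul_one] at this
      exact (ho ▸ this).trans (adj_coe x).reachable
  exact { preconnected := fun u v => (hall u).symm.trans (hall v), nonempty := ⟨o⟩ }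

theorem mem_neighbourKernel (δ : Cfsg.CosetVertex M₁ M₂) (g : X) :
    g ∈ Cfsg.neighbourKernel δ ↔
      g • δ = δ ∧ ∀ μ, (Cfsg.cosetGraph M₁ M₂).Adj δ μ → g • μ = μ := by
  simp [Cfsg.neighbourKernel, Subgroup.mem_inf, Subgroup.mem_iInf, MulAction.mem_stabilizer_iff]

/-- A subgroup fixing every vertex of the graph of an amalgam pair is trivial. -/
theorem eq_bot_of_forall_smul (h : ∀ N : Subgroup X, N ≤ M₁ ⊓ M₂ → N.Normal → N = ⊥)
    (T : Subgroup X) (hT : ∀ g ∈ T, ∀ v : Cfsg.CosetVertex M₁ M₂, g • v = v) : T = ⊥ := by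
  set K := (MulAction.toPermHom X (Cfsg.CosetVertex M₁ M₂)).ker with hK
  have hmem : ∀ g : X, g ∈ K ↔ ∀ v : Cfsg.CosetVertex M₁ M₂, g • v = v := by
    intro g; rw [hK, MonoidHom.mem_ker, Equiv.Perm.ext_iff]; rfl
  have hK0 : K = ⊥ := h K
    (le_inf (fun g hg => stabilizer_inl_one (M₁ := M₁) (M₂ := M₂) ▸
          MulAction.mem_stabilizer_iff.2 ((hmem g).1 hg _))
        (fun g hg => stabilizer_inr_one (M₁ := M₁) (M₂ := M₂) ▸
          MulAction.mem_stabilizer_iff.2 ((hmem g).1 hg _)))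
    (MonoidHom.normal_ker _)
  exact le_bot_iff.1 (fun g hg => hK0 ▸ (hmem g).2 (hT g hg))

/-- If `N` meets the stabilisers of both ends of an edge in subgroups transitive on the neighbours, then every
vertex is an `N`-translate of one of the two ends. -/
theorem exists_mem_smul_eq (hconn : (Cfsg.cosetGraph M₁ M₂).Connected) {δ μ : Cfsg.CosetVertex M₁ M₂}
    (hμ : (Cfsg.cosetGraph M₁ M₂).Adj δ μ) (N : Subgroup X)
    (hδ : ∀ ν ν', (Cfsg.cosetGraph M₁ M₂).Adj δ ν → (Cfsg.cosetGraph M₁ M₂).Adj δ ν' →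
      ∃ g ∈ N ⊓ MulAction.stabilizer X δ, g • ν = ν')
    (hμ' : ∀ ν ν', (Cfsg.cosetGraph M₁ M₂).Adj μ ν → (Cfsg.cosetGraph M₁ M₂).Adj μ ν' →
      ∃ g ∈ N ⊓ MulAction.stabilizer X μ, g • ν = ν') (v : Cfsg.CosetVertex M₁ M₂) :
    ∃ g ∈ N, v = g • δ ∨ v = g • μ := by
  obtain ⟨w⟩ := hconn.preconnected δ v
  suffices H : ∀ a b, (Cfsg.cosetGraph M₁ M₂).Walk a b →
      (∃ g ∈ N, a = g • δ ∨ a = g • μ) → ∃ g ∈ N, b = g • δ ∨ b = g • μ from
    H δ v w ⟨1, N.one_mem, Or.inl (one_smul _ _).symm⟩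
  intro a b w
  induction w with
  | nil => exact id
  | @cons a c b hadj _ ih =>
      rintro ⟨g, hg, rfl | rfl⟩
      · have h' := smul_adj g⁻¹ hadj
        rw [inv_smul_smul] at h'
        obtain ⟨k, hk, hkeq⟩ := hδ μ _ hμ h'
        refine ih ⟨g * k, N.mul_mem hg hk.1, Or.inr ?_⟩
        rw [mul_smul, hkeq, smul_inv_smul]
      · have h' := smul_adj g⁻¹ hadj
        rw [inv_smul_smul] at h'
        obtain ⟨k, hk, hkeq⟩ := hμ' δ _ hμ.symm h'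
        refine ih ⟨g * k, N.mul_mem hg hk.1, Or.inl ?_⟩
        rw [mul_smul, hkeq, smul_inv_smul]

theorem eq_bot_of_transitive_normalizer (h : Cfsg.IsAmalgamPair M₁ M₂) (δ μ : Cfsg.CosetVertex M₁ M₂)
    (hμ : (Cfsg.cosetGraph M₁ M₂).Adj δ μ) (T : Subgroup X) (hT : T ≤ Cfsg.edgeStabilizer δ μ)
    (hδ : ∀ ν ν', (Cfsg.cosetGraph M₁ M₂).Adj δ ν → (Cfsg.cosetGraph M₁ M₂).Adj δ ν' →
      ∃ g ∈ Subgroup.normalizer (T : Set X) ⊓ MulAction.stabilizer X δ, g • ν = ν')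
    (hμ' : ∀ ν ν', (Cfsg.cosetGraph M₁ M₂).Adj μ ν → (Cfsg.cosetGraph M₁ M₂).Adj μ ν' →
      ∃ g ∈ Subgroup.normalizer (T : Set X) ⊓ MulAction.stabilizer X μ, g • ν = ν') : T = ⊥ := by
  refine eq_bot_of_forall_smul h.2.2.2 T fun t ht v => ?_
  obtain ⟨g, hg, hv⟩ := exists_mem_smul_eq (connected h.1) hμ (Subgroup.normalizer (T : Set X)) hδ hμ' v
  have hc : g⁻¹ * t * g ∈ T := by
    have := (Subgroup.mem_normalizer_iff.1 (inv_mem hg) t).1 ht
    simpa using this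
  have key : t • v = g • ((g⁻¹ * t * g) • (g⁻¹ • v)) := by
    simp [← mul_smul, mul_assoc]
  rcases hv with rfl | rfl
  · rw [key, inv_smul_smul, MulAction.mem_stabilizer_iff.1 (hT hc).1]
  · rw [key, inv_smul_smul, MulAction.mem_stabilizer_iff.1 (hT hc).2]

end Cfsg.Agent.H58
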