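import Cfsg.Agent.H58.Qd

/-!
Normalizers of characteristic subgroups of a Sylow `p`-subgroup of `Qd`.
-/

set_option autoImplicit false

namespace Cfsg.Agent.H58.Qd

open Matrix

variable {F : Type*} [Field F]

local notation "SL2" => Matrix.SpecialLinearGroup (Fin 2) F

/-- `t ↦ (1 t; 0 1)`. -/
def upperHom (F : Type*) [Field F] : Multiplicative F →* Matrix.SpecialLinearGroup (Fin 2) F where
  toFun t := upper (Multiplicative.toAdd t)
  map_one' := upper_zero
  map_mul' s t := (upper_mul _ _).symm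

/-- The standard Sylow subgroup: unitriangular elements. -/
def sylU (F : Type*) [Field F] : Subgroup ↥(Cfsg.qdOver F) :=
  (upperHom F).range.comap (toSL2 (F := F))

theorem mem_sylU {M : ↥(Cfsg.qdOver F)} :
    M ∈ sylU F ↔ ent M 0 0 = 1 ∧ ent M 1 0 = 0 ∧ ent M 1 1 = 1 := by
  constructor
  · rintro ⟨t, ht⟩
    have h : (upper (Multiplicative.toAdd t) : SL2) = toSL2 M := ht
    have h' := congrArg (fun A : SL2 => (A : Matrix (Fin 2) (Fin 2) F)) h
    simp only [upper_coe, toSL2_apply] at h'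
    exact ⟨by simpa using (congrFun (congrFun h' 0) 0).symm, by simpa using (congrFun (congrFun h' 1) 0).symm,
      by simpa using (congrFun (congrFun h' 1) 1).symm⟩
  · rintro ⟨a, b, c⟩
    refine ⟨Multiplicative.ofAdd (ent M 0 1), ?_⟩
    show upper (ent M 0 1) = toSL2 M
    apply Matrix.SpecialLinearGroup.ext
    intro i j; fin_cases i <;> fin_cases j <;> simp [toSL2_apply, upper_coe, a, b, c]

theorem trans_le_sylU : trans F ≤ sylU F := fun M hM => ⟨1, by
  rw [map_one]; exact (MonoidHom.mem_ker.1 hM).symm⟩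

theorem eq_top_of_sylU_le {H : Subgroup ↥(Cfsg.qdOver F)} (hU : sylU F ≤ H) {h : ↥(Cfsg.qdOver F)}
    (hh : h ∈ H) (hc : ent h 1 0 ≠ 0) : H = ⊤ := by
  set H' := H.map (toSL2 (F := F)) with hH'
  have hu : ∀ t, upper t ∈ H' := fun t =>
    ⟨mk (upper t) 0, hU ⟨Multiplicative.ofAdd t, (toSL2_mk _ _).symm⟩, toSL2_mk _ _⟩
  have hA : toSL2 h ∈ H' := ⟨h, hh, rfl⟩
  set W : SL2 := upper (-(ent h 0 0) / ent h 1 0) * toSL2 h * upper (-(ent h 1 1) / ent h 1 0) with hW
  have hWm : W ∈ H' := H'.mul_mem (H'.mul_mem (hu _) hA) (hu _)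
  have hl : ∀ s, lower s ∈ H' := by
    intro s
    have hd := det_block h
    have e : W * upper (-s / (ent h 1 0 * ent h 1 0)) = lower s * W := by
      apply Matrix.SpecialLinearGroup.ext
      intro i j
      rw [hW]
      fin_cases i <;> fin_cases j <;>
        simp [Matrix.SpecialLinearGroup.coe_mul, upper_coe, lower_coe, toSL2_apply, Matrix.mul_apply,
          Fin.sum_univ_two] <;>
        field_simp <;> first
          | (simp; done)
          | ring1
          | linear_combination hd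
          | linear_combination -hd
          | linear_combination s * hd
          | linear_combination -s * hd
          | linear_combination s * hd
          | linear_combination (-s) * hd
    have : lower s = W * upper (-s / (ent h 1 0 * ent h 1 0)) * W⁻¹ := by rw [e, mul_inv_cancel_right]
    rw [this]
    exact H'.mul_mem (H'.mul_mem hWm (hu _)) (H'.inv_mem hWm)
  have htop : H' = ⊤ := eq_top_of_upper_lower hu hl
  rw [eq_top_iff]
  intro x _
  obtain ⟨y, hy, hxy⟩ : toSL2 x ∈ H' := by rw [htop]; trivial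
  have : y⁻¹ * x ∈ trans F := by rw [trans, MonoidHom.mem_ker, map_mul, map_inv, hxy, inv_mul_cancel]
  have := H.mul_mem hy (hU (trans_le_sylU this))
  rwa [mul_inv_cancel_left] at this

/-- The triangular elements normalise the unitriangular ones. -/
theorem mem_normalizer_sylU {h : ↥(Cfsg.qdOver F)} (hc : ent h 1 0 = 0) :
    h ∈ Subgroup.normalizer (sylU F : Set ↥(Cfsg.qdOver F)) := by
  rw [Subgroup.mem_normalizer_iff]
  intro M
  have hd := det_block h
  rw [hc, mul_zero, sub_zero] at hd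
  have key : ∀ (h M : ↥(Cfsg.qdOver F)), ent h 1 0 = 0 → M ∈ sylU F → h * M * h⁻¹ ∈ sylU F := by
    intro h M hc hM
    obtain ⟨a, b, c⟩ := mem_sylU.1 hM
    have hd := det_block h
    rw [hc, mul_zero, sub_zero] at hd
    refine ⟨Multiplicative.ofAdd (ent h 0 0 * ent h 0 0 * ent M 0 1), ?_⟩
    show upper _ = toSL2 _
    rw [map_mul (toSL2 (F := F)) (h * M), map_mul (toSL2 (F := F)) h, map_inv (toSL2 (F := F)), eq_mul_inv_iff_mul_eq]
    apply Matrix.SpecialLinearGroup.ext
    intro i j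
    fin_cases i <;> fin_cases j <;>
      simp [Matrix.SpecialLinearGroup.coe_mul, upper_coe, toSL2_apply, Matrix.mul_apply, Fin.sum_univ_two,
        a, b, c, hc] <;> linear_combination (ent h 0 0 * ent M 0 1) * hd
  constructor
  · exact key h M hc
  · intro hM
    have hc' : ent h⁻¹ 1 0 = 0 := by
      have h1 := congrArg (fun A => ent A 1 0) (inv_mul_cancel h)
      simp only [ent_mul, hc, ent_20] at h1
      have ha : ent h 0 0 ≠ 0 := left_ne_zero_of_mul_eq_one hd
      have h2 : ent h⁻¹ 1 0 * ent h 0 0 = 0 := by simpa [ent] using h1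
      exact (mul_eq_zero.1 h2).resolve_right ha
    simpa [mul_assoc] using key h⁻¹ _ hc' hM

theorem exists_mulVec_eq (w w' : Fin 2 → F) (hw : w ≠ 0) (hw' : w' ≠ 0) :
    ∃ A : SL2, (A : Matrix (Fin 2) (Fin 2) F) *ᵥ w = w' := by
  have one : ∀ w : Fin 2 → F, w ≠ 0 → ∃ A : SL2, (A : Matrix (Fin 2) (Fin 2) F) *ᵥ Pi.single 0 1 = w := by
    intro w hw
    rcases eq_or_ne (w 0) 0 with h0 | h0
    · have h1 : w 1 ≠ 0 := by
        intro h1; apply hw; ext i; fin_cases i <;> simp [h0, h1]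
      refine ⟨⟨!![0, -1 / w 1; w 1, 0], by simp [Matrix.det_fin_two]; field_simp⟩, ?_⟩
      ext i; fin_cases i <;> simp [h0]
    · refine ⟨⟨!![w 0, 0; w 1, 1 / w 0], by simp [Matrix.det_fin_two]; field_simp⟩, ?_⟩
      ext i; fin_cases i <;> simp
  obtain ⟨A, hA⟩ := one w hw
  obtain ⟨B, hB⟩ := one w' hw'
  refine ⟨B * A⁻¹, ?_⟩
  rw [← hA, Matrix.SpecialLinearGroup.coe_mul, Matrix.mulVec_mulVec, Matrix.mul_assoc,
    ← Matrix.SpecialLinearGroup.coe_mul, inv_mul_cancel, Matrix.SpecialLinearGroup.coe_one, Matrix.mul_one, hB]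

/-- The automorphism of the unitriangular group exchanging its two abelian maximal subgroups. -/
def swapFun (M : ↥(Cfsg.qdOver F)) : ↥(Cfsg.qdOver F) :=
  mk (upper (ent M 1 2)) ![ent M 0 1 * ent M 1 2 - ent M 0 2, ent M 0 1]

theorem swapFun_mem (M : ↥(Cfsg.qdOver F)) : swapFun M ∈ sylU F :=
  ⟨Multiplicative.ofAdd (ent M 1 2), (toSL2_mk _ _).symm⟩

theorem swapFun_swapFun {M : ↥(Cfsg.qdOver F)} (hM : M ∈ sylU F) : swapFun (swapFun M) = M := by
  obtain ⟨a, b, c⟩ := mem_sylU.1 hM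
  apply qd_ext <;> simp [swapFun, upper_coe, a, b, c] <;> ring

theorem swapFun_mul {M N : ↥(Cfsg.qdOver F)} (hM : M ∈ sylU F) (hN : N ∈ sylU F) :
    swapFun (M * N) = swapFun M * swapFun N := by
  obtain ⟨a, b, c⟩ := mem_sylU.1 hM
  obtain ⟨a', b', c'⟩ := mem_sylU.1 hN
  apply qd_ext <;>
    simp [swapFun, upper_coe, ent_mul, ent_20, ent_21, ent_22, a, b, c, a', b', c'] <;> ring

def swapEquiv : ↥(sylU F) ≃* ↥(sylU F) where
  toFun M := ⟨swapFun M.1, swapFun_mem _⟩
  invFun M := ⟨swapFun M.1, swapFun_mem _⟩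
  left_inv M := Subtype.ext (swapFun_swapFun M.2)
  right_inv M := Subtype.ext (swapFun_swapFun M.2)
  map_mul' M N := Subtype.ext (swapFun_mul M.2 N.2)

variable {p : ℕ} [Fact p.Prime] [CharP F p]

include p

theorem sylU_isPGroup : IsPGroup p (sylU F) := by
  rintro ⟨M, t, ht⟩
  have h1 : toSL2 (M ^ p) = 1 := by
    rw [map_pow, ← ht, ← map_pow]
    have : t ^ p = 1 := by
      apply Multiplicative.toAdd.injective
      rw [toAdd_pow, toAdd_one, nsmul_eq_mul, CharP.cast_eq_zero, zero_mul]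
    rw [this, map_one]
  obtain ⟨k, hk⟩ := (trans_isPGroup (F := F) (p := p)) ⟨M ^ p, h1⟩
  refine ⟨k + 1, Subtype.ext ?_⟩
  have := congrArg Subtype.val hk
  simpa [← pow_mul, pow_succ'] using this

theorem not_normal_sylU : ¬ (sylU F).Normal := by
  intro hn
  have hsurj : Function.Surjective (toSL2 (F := F)) := fun A => ⟨mk A 0, toSL2_mk A 0⟩
  have hb := toSL2_eq_one_of_normal (hn.map _ hsurj) (sylU_isPGroup.map (toSL2 (F := F)))
  have : toSL2 (mk (upper (1 : F)) 0) ∈ (sylU F).map (toSL2 (F := F)) :=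
    ⟨_, ⟨Multiplicative.ofAdd 1, (toSL2_mk _ _).symm⟩, rfl⟩
  rw [hb, Subgroup.mem_bot, toSL2_mk] at this
  have := congrArg (fun A : SL2 => (A : Matrix (Fin 2) (Fin 2) F) 0 1) this
  simp [upper_coe] at this

theorem ent_10_of_mem_normalizer {h : ↥(Cfsg.qdOver F)}
    (hh : h ∈ Subgroup.normalizer (sylU F : Set ↥(Cfsg.qdOver F))) : ent h 1 0 = 0 := by
  by_contra hc
  exact not_normal_sylU (p := p)
    (Subgroup.normalizer_eq_top_iff.1 (eq_top_of_sylU_le Subgroup.le_normalizer hh hc))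

theorem normalizer_sylU_ne_top : Subgroup.normalizer (sylU F : Set ↥(Cfsg.qdOver F)) ≠ ⊤ :=
  fun h => not_normal_sylU (p := p) (Subgroup.normalizer_eq_top_iff.1 h)

theorem sylU_maximal {P : Subgroup ↥(Cfsg.qdOver F)} (hP : IsPGroup p P) (hle : sylU F ≤ P) : P = sylU F := by
  refine le_antisymm (fun h hh => ?_) hle
  have hc : ent h 1 0 = 0 := by
    by_contra hc
    have htop := eq_top_of_sylU_le hle hh hc
    have hsurj : Function.Surjective (toSL2 (F := F)) := fun A => ⟨mk A 0, toSL2_mk A 0⟩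
    have hP' := hP.map (toSL2 (F := F))
    rw [htop, Subgroup.map_top_of_surjective _ hsurj] at hP'
    have hbot := toSL2_eq_one_of_normal (F := F) Subgroup.normal_top hP'
    have hm : upper (1 : F) ∈ (⊤ : Subgroup SL2) := trivial
    rw [hbot, Subgroup.mem_bot] at hm
    have := congrArg (fun A : SL2 => (A : Matrix (Fin 2) (Fin 2) F) 0 1) hm
    simp [upper_coe] at this
  obtain ⟨k, hk⟩ := hP ⟨h, hh⟩
  have htr := trace_of_pElement (p := p) (A := toSL2 h) (k := k) (by
    rw [← map_pow, show h ^ p ^ k = 1 from congrArg Subtype.val hk, map_one])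
  have hd := det_block h
  simp [toSL2_apply] at htr
  have ha : (ent h 0 0 - 1) * (ent h 0 0 - 1) = 0 := by
    rw [hc] at hd; linear_combination ent h 0 0 * htr - hd
  have ha1 : ent h 0 0 = 1 := sub_eq_zero.1 (mul_self_eq_zero.1 ha)
  exact mem_sylU.2 ⟨ha1, hc, by linear_combination htr - ha1⟩

theorem normalizer_eq_of_invariant [Finite F] (T : Subgroup ↥(Cfsg.qdOver F)) (hTU : T ≤ sylU F) (hT : T ≠ ⊥)
    (hinv : ∀ α : ↥(sylU F) ≃* ↥(sylU F), ∀ M (hM : M ∈ sylU F), M ∈ T → ((α ⟨M, hM⟩ : ↥(sylU F)) : ↥(Cfsg.qdOver F)) ∈ T) :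
    Subgroup.normalizer (T : Set ↥(Cfsg.qdOver F)) =
      Subgroup.normalizer (sylU F : Set ↥(Cfsg.qdOver F)) := by
  have hle : Subgroup.normalizer (sylU F : Set ↥(Cfsg.qdOver F)) ≤
      Subgroup.normalizer (T : Set ↥(Cfsg.qdOver F)) := by
    intro g hg
    have key : ∀ g ∈ Subgroup.normalizer (sylU F : Set ↥(Cfsg.qdOver F)), ∀ M ∈ T, g * M * g⁻¹ ∈ T := by
      intro g hg M hM
      exact hinv (Subgroup.normalizerMonoidHom (sylU F) ⟨g, hg⟩) M (hTU hM) hM
    rw [Subgroup.mem_normalizer_iff]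
    intro M
    refine ⟨key g hg M, fun h => ?_⟩
    have := key g⁻¹ (inv_mem hg) _ h
    simpa [mul_assoc] using this
  refine le_antisymm (fun h hh => ?_) hle
  by_contra hn
  have hc : ent h 1 0 ≠ 0 := fun hc => hn (mem_normalizer_sylU hc)
  have htop := eq_top_of_sylU_le (Subgroup.le_normalizer.trans hle) hh hc
  have hTn : T.Normal := Subgroup.normalizer_eq_top_iff.1 htop
  have hTV : T ≤ trans F := pCore_eq_trans (p := p) (F := F) ▸
    le_sSup ⟨hTn, (sylU_isPGroup (p := p)).to_le hTU⟩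
  obtain ⟨M, hM, hM1⟩ : ∃ M ∈ T, M ≠ 1 := by
    by_contra hcon
    push Not at hcon
    exact hT ((Subgroup.eq_bot_iff_forall _).2 hcon)
  obtain ⟨w, rfl⟩ := (mem_trans_iff M).1 (hTV hM)
  have hw : w ≠ 0 := by rintro rfl; exact hM1 mk_one
  have hw' : (![0, 1] : Fin 2 → F) ≠ 0 := fun e => by simpa using congrFun e 1
  obtain ⟨A, hA⟩ := exists_mulVec_eq w _ hw hw'
  have hmem : mk (1 : SL2) ![0, 1] ∈ T := by
    have := hTn.conj_mem _ hM (mk A 0)
    have hinv' : (mk A (0 : Fin 2 → F))⁻¹ = mk A⁻¹ 0 := by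
      apply inv_eq_of_mul_eq_one_right
      rw [mk_mul, mul_inv_cancel, Matrix.mulVec_zero, add_zero, mk_one]
    rw [hinv', mk_mul, mk_mul, mul_one, mul_inv_cancel, Matrix.mulVec_zero, hA] at this
    simpa using this
  have h2 := hTV (hinv swapEquiv _ (trans_le_sylU ((mem_trans_iff _).2 ⟨_, rfl⟩)) hmem)
  replace h2 := MonoidHom.mem_ker.1 h2
  have h3 := (toSL2_eq_one_iff _).1 h2
  have h4 := h3.2.1
  simp [swapEquiv, swapFun, upper_coe] at h4

end Cfsg.Agent.H58.Qd
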