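import Cfsg.Agent.H58.Qd

/-!
`Qd(2)` acts faithfully on the four vectors of `F₂²`.
-/

set_option autoImplicit false

namespace Cfsg.Agent.H58.Qd

variable {F : Type*} [Field F]

open Matrix

def affMap (M : ↥(Cfsg.qdOver F)) (v : Fin 2 → F) : Fin 2 → F :=
  ((toSL2 M : Matrix.SpecialLinearGroup (Fin 2) F) : Matrix (Fin 2) (Fin 2) F) *ᵥ v + ![ent M 0 2, ent M 1 2]

theorem affMap_mul (M N : ↥(Cfsg.qdOver F)) (v : Fin 2 → F) : affMap (M * N) v = affMap M (affMap N v) := by
  rw [affMap, affMap, affMap, map_mul, Matrix.SpecialLinearGroup.coe_mul, Matrix.mulVec_add,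
    Matrix.mulVec_mulVec, add_assoc]
  congr 1
  ext i
  fin_cases i <;> simp [ent_mul, ent_22, toSL2_apply, Matrix.mulVec, dotProduct, Fin.sum_univ_two, Matrix.vecHead, Matrix.vecTail] <;> ring

theorem affMap_one (v : Fin 2 → F) : affMap (1 : ↥(Cfsg.qdOver F)) v = v := by
  ext i; fin_cases i <;> simp [affMap, ent]

def affPerm : ↥(Cfsg.qdOver F) →* Equiv.Perm (Fin 2 → F) where
  toFun M := ⟨affMap M, affMap M⁻¹,
    fun v => by rw [← affMap_mul, inv_mul_cancel, affMap_one],
    fun v => by rw [← affMap_mul, mul_inv_cancel, affMap_one]⟩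
  map_one' := Equiv.ext affMap_one
  map_mul' M N := Equiv.ext (affMap_mul M N)

theorem affPerm_injective : Function.Injective (affPerm (F := F)) := by
  intro M N h
  have hv : ∀ v, affMap M v = affMap N v := fun v => congrArg (fun e : Equiv.Perm (Fin 2 → F) => e v) h
  have h0 := hv 0
  simp only [affMap, Matrix.mulVec_zero, zero_add] at h0
  have hA : toSL2 M = toSL2 N := by
    apply Matrix.SpecialLinearGroup.ext
    intro i j
    have h1 := hv (Pi.single j 1)
    rw [affMap, affMap, h0, add_left_inj] at h1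
    simpa using congrFun h1 i
  rw [eq_mk M, eq_mk N, hA, h0]

def coordEquiv : ↥(Cfsg.qdOver F) ≃ Matrix.SpecialLinearGroup (Fin 2) F × (Fin 2 → F) where
  toFun M := (toSL2 M, ![ent M 0 2, ent M 1 2])
  invFun x := mk x.1 x.2
  left_inv M := (eq_mk M).symm
  right_inv x := by
    refine Prod.ext (toSL2_mk _ _) ?_
    ext i; fin_cases i <;> simp

theorem qd_two_iso_perm : Nonempty (↥(Cfsg.qdOver (ZMod 2)) ≃* Equiv.Perm (Fin 4)) := by
  have hbij : Function.Bijective (affPerm (F := ZMod 2)) := by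
    rw [Nat.bijective_iff_injective_and_card]
    refine ⟨affPerm_injective, ?_⟩
    rw [Nat.card_congr coordEquiv, Nat.card_prod, Linear.card_SL_two, Nat.card_perm]
    simp [Nat.card_eq_fintype_card, ZMod.card]
    decide
  refine ⟨(MulEquiv.ofBijective _ hbij).trans (Equiv.permCongrHom (Fintype.equivFinOfCardEq ?_))⟩
  simp [ZMod.card]

end Cfsg.Agent.H58.Qd
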