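import Cfsg.Prelude.Def_LocalEven
import Cfsg.Agent.H41.InvolAction
import Mathlib.GroupTheory.Sylow

/-!
Sections isomorphic to a dihedral group of order `2p`.
-/

set_option autoImplicit false

namespace Cfsg.Agent.H58.Inv

universe u v

variable {G : Type u} [Group G]

theorem involves_of_hom {H : Type v} [Group H] {K : Subgroup G} (f : ↥K →* H) (hf : Function.Surjective f) :
    Cfsg.Involves H G := by
  have e : (f.ker.map K.subtype).subgroupOf K = f.ker :=
    Subgroup.comap_map_eq_self_of_injective K.subtype_injective _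
  have hn : ((f.ker.map K.subtype).subgroupOf K).Normal := by rw [e]; exact MonoidHom.normal_ker f
  exact ⟨K, f.ker.map K.subtype, hn,
    ⟨(QuotientGroup.quotientMulEquivOfEq e).trans (QuotientGroup.quotientKerEquivOfSurjective f hf)⟩⟩

theorem exists_hom_of_involves {H : Type v} [Group H] (h : Cfsg.Involves H G) :
    ∃ (K : Subgroup G) (f : ↥K →* H), Function.Surjective f := by
  obtain ⟨K, R, hn, ⟨e⟩⟩ := h
  exact ⟨K, e.toMonoidHom.comp (QuotientGroup.mk' _), e.surjective.comp (QuotientGroup.mk'_surjective _)⟩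

theorem involves_dihedral [Finite G] {p : ℕ} [hpf : Fact p.Prime] (hp : p ≠ 2) {x y : G}
    (hx : ∃ k : ℕ, orderOf x = 2 ^ k) (hy : ∃ k : ℕ, orderOf y = p ^ k) (hy1 : y ≠ 1)
    (hinv : x * y * x⁻¹ = y⁻¹) : Cfsg.Involves (DihedralGroup p) G := by
  obtain ⟨k, hk⟩ := hy
  have hk1 : 1 ≤ k := by
    rcases Nat.eq_zero_or_pos k with rfl | h
    · rw [pow_zero, orderOf_eq_one_iff] at hk; exact absurd hk hy1
    · exact h
  set w := y ^ p ^ (k - 1) with hwdef
  have hwo : orderOf w = p := by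
    rw [hwdef, orderOf_pow' _ (pow_ne_zero _ hpf.out.ne_zero), hk,
      Nat.gcd_eq_right (pow_dvd_pow p (Nat.sub_le k 1)), Nat.pow_div (Nat.sub_le k 1) hpf.out.pos,
      show k - (k - 1) = 1 by omega, pow_one]
  have hw : x * w * x⁻¹ = w⁻¹ := by rw [hwdef, ← conj_pow, hinv, inv_pow]
  have hodd : Odd p := hpf.out.odd_of_ne_two hp
  set K : Subgroup G := Subgroup.closure {x, w} with hK
  let X : ↥K := ⟨x, Subgroup.subset_closure (by simp)⟩
  let W : ↥K := ⟨w, Subgroup.subset_closure (by simp)⟩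
  have hXW : X * W * X⁻¹ = W⁻¹ := Subtype.ext (by simpa [X, W] using hw)
  have hcomm : ∀ k : ↥K, k * X ^ 2 = X ^ 2 * k := by
    rintro ⟨g, hg⟩
    apply Subtype.ext
    simp only [Subgroup.coe_mul, Subgroup.coe_pow, X]
    induction hg using Subgroup.closure_induction with
    | mem g hg =>
        rcases hg with rfl | rfl
        · exact (Commute.refl g).pow_right 2
        · have h1 : x ^ 2 * w * (x ^ 2)⁻¹ = w := by
            calc x ^ 2 * w * (x ^ 2)⁻¹ = x * (x * w * x⁻¹) * x⁻¹ := by simp [pow_two, mul_assoc]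
              _ = x * w⁻¹ * x⁻¹ := by rw [hw]
              _ = (x * w * x⁻¹)⁻¹ := by simp [mul_assoc]
              _ = w := by rw [hw, inv_inv]
          exact (mul_inv_eq_iff_eq_mul.1 h1).symm
    | one => simp
    | mul a b _ _ ha hb => rw [mul_assoc, hb, ← mul_assoc, ha, mul_assoc]
    | inv a _ ha =>
        have ha' : Commute a (x ^ 2) := ha
        exact ha'.inv_left
  set R : Subgroup ↥K := Subgroup.zpowers (X ^ 2) with hR
  have hRn : R.Normal := ⟨fun n hn g => by
    obtain ⟨i, rfl⟩ := hn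
    have h1 : g * (X ^ 2) ^ i * g⁻¹ = (X ^ 2) ^ i := by
      have hc : Commute g ((X ^ 2) ^ i) := (show Commute g (X ^ 2) from hcomm g).zpow_right i
      rw [hc.eq, mul_inv_cancel_right]
    show g * (X ^ 2) ^ i * g⁻¹ ∈ R
    rw [h1]
    exact Subgroup.zpow_mem _ (Subgroup.mem_zpowers _) i⟩
  set q := QuotientGroup.mk' R
  have ha : q X * q X = 1 := by
    rw [← map_mul, ← pow_two, QuotientGroup.mk'_apply, QuotientGroup.eq_one_iff]
    exact Subgroup.mem_zpowers _
  have hWo : orderOf W = p := by rw [← Subgroup.orderOf_coe]; exact hwo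
  have hW1 : q W ≠ 1 := by
    rw [QuotientGroup.mk'_apply, Ne, QuotientGroup.eq_one_iff]
    intro h
    obtain ⟨e, he⟩ := hx
    have hd : orderOf W ∣ orderOf (X ^ 2) := by
      have := Subgroup.orderOf_dvd_natCard _ h
      rwa [Nat.card_zpowers] at this
    have hX : orderOf X = 2 ^ e := by rw [← Subgroup.orderOf_coe]; exact he
    have hd2 : p ∣ 2 ^ e := by
      rw [← hX, ← hWo]; exact hd.trans (orderOf_pow_dvd 2)
    exact hp ((Nat.prime_dvd_prime_iff_eq hpf.out Nat.prime_two).1 (hpf.out.dvd_of_dvd_pow hd2))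
  have hqo : orderOf (q W) = p := by
    have hd := orderOf_map_dvd q W
    rw [hWo] at hd
    exact (hpf.out.eq_one_or_self_of_dvd _ hd).resolve_left (fun h => hW1 (orderOf_eq_one_iff.1 h))
  obtain ⟨e⟩ := H41.nonempty_dihedral_equiv (a := q X) (x := q W) ha
    (by rw [← map_inv, ← map_inv, ← map_mul, ← map_mul, hXW]) (hqo ▸ hodd) hW1
  have htop : (Subgroup.zpowers (q X) ⊔ Subgroup.zpowers (q W) : Subgroup (↥K ⧸ R)) = ⊤ := by
    rw [eq_top_iff]
    intro g hgt
    clear hgt
    obtain ⟨⟨g, hg⟩, rfl⟩ := QuotientGroup.mk'_surjective R g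
    induction hg using Subgroup.closure_induction with
    | mem g hg =>
        rcases hg with rfl | rfl
        · exact Subgroup.mem_sup_left (Subgroup.mem_zpowers _)
        · exact Subgroup.mem_sup_right (Subgroup.mem_zpowers _)
    | one => exact Subgroup.one_mem _
    | mul a b _ _ ha hb => exact Subgroup.mul_mem _ ha hb
    | inv a _ ha => exact Subgroup.inv_mem _ ha
  rw [hqo] at e
  let e2 : (↥K ⧸ R) ≃* DihedralGroup p :=
    (Subgroup.topEquiv.symm.trans (MulEquiv.subgroupCongr htop.symm)).trans e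
  exact involves_of_hom (e2.toMonoidHom.comp q) (e2.surjective.comp (QuotientGroup.mk'_surjective R))

/-- A 2-element acting nontrivially on an odd order `p`-group has a power inverting a nontrivial element. -/
theorem exists_inverted [Finite G] {p : ℕ} [Fact p.Prime] {x : G} {P : Subgroup G}
    (hx : ∃ k : ℕ, orderOf x = 2 ^ k) (hP : IsPGroup p ↥P) (hn : x ∈ Subgroup.normalizer (P : Set G))
    (hc : x ∉ Subgroup.centralizer (P : Set G)) :
    ∃ z y : G, (∃ k : ℕ, orderOf z = 2 ^ k) ∧ (∃ k : ℕ, orderOf y = p ^ k) ∧ y ≠ 1 ∧ z * y * z⁻¹ = y⁻¹ := by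
  classical
  obtain ⟨k, hk⟩ := hx
  have hex : ∃ j, x ^ 2 ^ j ∈ Subgroup.centralizer (P : Set G) :=
    ⟨k, by rw [← hk, pow_orderOf_eq_one]; exact one_mem _⟩
  have hj : Nat.find hex ≠ 0 := by
    intro h0
    have := Nat.find_spec hex
    rw [h0, pow_zero, pow_one] at this
    exact hc this
  obtain ⟨j, hj'⟩ := Nat.exists_eq_succ_of_ne_zero hj
  set z := x ^ 2 ^ j with hz
  have hz1 : z ∉ Subgroup.centralizer (P : Set G) := Nat.find_min hex (by omega)
  have hz2 : z * z ∈ Subgroup.centralizer (P : Set G) := by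
    have := Nat.find_spec hex
    rw [hj', pow_succ, pow_mul, pow_two] at this
    exact this
  have hzn : z ∈ Subgroup.normalizer (P : Set G) := pow_mem hn _
  obtain ⟨a, haP, ha⟩ : ∃ a ∈ P, z * a * z⁻¹ ≠ a := by
    by_contra h
    push Not at h
    refine hz1 (Subgroup.mem_centralizer_iff.2 fun a ha => ?_)
    have := h a ha
    rw [mul_inv_eq_iff_eq_mul] at this
    exact this.symm
  set y := a⁻¹ * (z * a * z⁻¹) with hy
  have hyP : y ∈ P := P.mul_mem (P.inv_mem haP) ((Subgroup.mem_normalizer_iff.1 hzn a).1 haP)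
  refine ⟨z, y, ?_, ?_, ?_, ?_⟩
  · obtain ⟨i, _, hi⟩ := (Nat.dvd_prime_pow Nat.prime_two).1 (hk ▸ (orderOf_pow_dvd (2 ^ j) : orderOf z ∣ orderOf x))
    exact ⟨i, hi⟩
  · obtain ⟨i, hi⟩ := (IsPGroup.iff_orderOf.1 hP) ⟨y, hyP⟩
    exact ⟨i, by rw [← hi, Subgroup.orderOf_mk]⟩
  · intro h
    exact ha (inv_mul_eq_one.1 h).symm
  · have e : z * z * a * (z * z)⁻¹ = a := by
      rw [← Subgroup.mem_centralizer_iff.1 hz2 a haP, mul_inv_cancel_right]
    calc z * y * z⁻¹ = (z * a * z⁻¹)⁻¹ * (z * z * a * (z * z)⁻¹) := by rw [hy]; group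
      _ = (z * a * z⁻¹)⁻¹ * a := by rw [e]
      _ = y⁻¹ := by rw [hy]; group

end Cfsg.Agent.H58.Inv
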