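import Cfsg.Prelude.Def_LocalEven
import Cfsg.Agent.Cores.PCore
import Cfsg.Agent.Linear.Order
import Cfsg.Agent.Linear.Generation

/-!
The group `Qd` over a field: coordinates, the block homomorphism to `SL₂`, the translation subgroup.
-/

set_option autoImplicit false

namespace Cfsg.Agent.H58.Qd

open Matrix

variable {F : Type*} [Field F]

local notation "SL3" => Matrix.SpecialLinearGroup (Fin 3) F
local notation "SL2" => Matrix.SpecialLinearGroup (Fin 2) F

def lastRow (F : Type*) [Field F] : Subgroup (Matrix.SpecialLinearGroup (Fin 3) F) where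
  carrier := {M | (M : Matrix (Fin 3) (Fin 3) F) 2 0 = 0 ∧ (M : Matrix (Fin 3) (Fin 3) F) 2 1 = 0 ∧
    (M : Matrix (Fin 3) (Fin 3) F) 2 2 = 1}
  one_mem' := by simp
  mul_mem' := by
    rintro A B ⟨a0, a1, a2⟩ ⟨b0, b1, b2⟩
    simp only [Set.mem_setOf_eq, Matrix.SpecialLinearGroup.coe_mul, Matrix.mul_apply, Fin.sum_univ_three]
    simp [a0, a1, a2, b0, b1, b2]
  inv_mem' := by
    intro A ⟨a0, a1, a2⟩
    have h : ∀ j, ((A : Matrix (Fin 3) (Fin 3) F) * (A⁻¹ : Matrix.SpecialLinearGroup (Fin 3) F)) 2 j =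
        ((A⁻¹ : Matrix.SpecialLinearGroup (Fin 3) F) : Matrix (Fin 3) (Fin 3) F) 2 j := fun j => by
      simp [Matrix.mul_apply, Fin.sum_univ_three, a0, a1, a2]
    rw [← Matrix.SpecialLinearGroup.coe_mul, mul_inv_cancel, Matrix.SpecialLinearGroup.coe_one] at h
    exact ⟨by rw [← h]; simp, by rw [← h]; simp, by rw [← h]; simp⟩

theorem qdOver_eq : Cfsg.qdOver F = lastRow F :=
  le_antisymm ((Subgroup.closure_le _).2 fun _ h => h) fun _ h => Subgroup.subset_closure h

theorem mem_qdOver {M : SL3} :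
    M ∈ Cfsg.qdOver F ↔ (M : Matrix (Fin 3) (Fin 3) F) 2 0 = 0 ∧ (M : Matrix (Fin 3) (Fin 3) F) 2 1 = 0 ∧
      (M : Matrix (Fin 3) (Fin 3) F) 2 2 = 1 := by
  rw [qdOver_eq]; rfl

/-- The entry `(i, j)` of an element of `Qd`. -/
abbrev ent (M : ↥(Cfsg.qdOver F)) (i j : Fin 3) : F :=
  ((M : SL3) : Matrix (Fin 3) (Fin 3) F) i j

theorem ent_20 (M : ↥(Cfsg.qdOver F)) : ent M 2 0 = 0 := (mem_qdOver.1 M.2).1

theorem ent_21 (M : ↥(Cfsg.qdOver F)) : ent M 2 1 = 0 := (mem_qdOver.1 M.2).2.1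

theorem ent_22 (M : ↥(Cfsg.qdOver F)) : ent M 2 2 = 1 := (mem_qdOver.1 M.2).2.2

theorem ent_mul (M N : ↥(Cfsg.qdOver F)) (i j : Fin 3) :
    ent (M * N) i j = ent M i 0 * ent N 0 j + ent M i 1 * ent N 1 j + ent M i 2 * ent N 2 j := by
  simp [ent, Matrix.SpecialLinearGroup.coe_mul, Matrix.mul_apply, Fin.sum_univ_three]

theorem det_block (M : ↥(Cfsg.qdOver F)) : ent M 0 0 * ent M 1 1 - ent M 0 1 * ent M 1 0 = 1 := by
  have h := (M : SL3).2
  rw [Matrix.det_fin_three] at h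
  have h20 := ent_20 M
  have h21 := ent_21 M
  have h22 := ent_22 M
  simp only [ent] at *
  rw [h20, h21, h22] at h
  linear_combination h

theorem qd_ext {M N : ↥(Cfsg.qdOver F)} (h00 : ent M 0 0 = ent N 0 0) (h01 : ent M 0 1 = ent N 0 1)
    (h02 : ent M 0 2 = ent N 0 2) (h10 : ent M 1 0 = ent N 1 0) (h11 : ent M 1 1 = ent N 1 1)
    (h12 : ent M 1 2 = ent N 1 2) : M = N := by
  apply Subtype.ext
  apply Matrix.SpecialLinearGroup.ext
  intro i j
  have a := ent_20 M
  have b := ent_21 M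
  have c := ent_22 M
  have a' := ent_20 N
  have b' := ent_21 N
  have c' := ent_22 N
  simp only [ent] at *
  fin_cases i <;> fin_cases j <;> simp_all

/-- The upper left block. -/
def toSL2 : ↥(Cfsg.qdOver F) →* SL2 where
  toFun M := ⟨!![ent M 0 0, ent M 0 1; ent M 1 0, ent M 1 1], by
    rw [Matrix.det_fin_two]; simpa using det_block M⟩
  map_one' := by
    apply Matrix.SpecialLinearGroup.ext
    intro i j; fin_cases i <;> fin_cases j <;> simp [ent]
  map_mul' M N := by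
    apply Matrix.SpecialLinearGroup.ext
    intro i j
    fin_cases i <;> fin_cases j <;>
      simp [ent_mul, ent_20 N, ent_21 N] <;>
      change _ = (!![ent M 0 0, ent M 0 1; ent M 1 0, ent M 1 1] * !![ent N 0 0, ent N 0 1; ent N 1 0, ent N 1 1] : Matrix (Fin 2) (Fin 2) F) _ _ <;>
      simp [Matrix.mul_apply, Fin.sum_univ_two]

theorem toSL2_apply (M : ↥(Cfsg.qdOver F)) :
    ((toSL2 M : SL2) : Matrix (Fin 2) (Fin 2) F) = !![ent M 0 0, ent M 0 1; ent M 1 0, ent M 1 1] := rfl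

theorem toSL2_eq_one_iff (M : ↥(Cfsg.qdOver F)) :
    toSL2 M = 1 ↔ ent M 0 0 = 1 ∧ ent M 0 1 = 0 ∧ ent M 1 0 = 0 ∧ ent M 1 1 = 1 := by
  constructor
  · intro h
    have h' := congrArg (fun A : SL2 => (A : Matrix (Fin 2) (Fin 2) F)) h
    simp only [toSL2_apply, Matrix.SpecialLinearGroup.coe_one] at h'
    exact ⟨by simpa using congrFun (congrFun h' 0) 0, by simpa using congrFun (congrFun h' 0) 1,
      by simpa using congrFun (congrFun h' 1) 0, by simpa using congrFun (congrFun h' 1) 1⟩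
  · rintro ⟨a, b, c, d⟩
    apply Matrix.SpecialLinearGroup.ext
    intro i j; fin_cases i <;> fin_cases j <;> simp [toSL2_apply, a, b, c, d]

/-- The element with block `A` and translation part `v`. -/
def mk (A : SL2) (v : Fin 2 → F) : ↥(Cfsg.qdOver F) :=
  ⟨⟨!![(A : Matrix (Fin 2) (Fin 2) F) 0 0, (A : Matrix (Fin 2) (Fin 2) F) 0 1, v 0;
      (A : Matrix (Fin 2) (Fin 2) F) 1 0, (A : Matrix (Fin 2) (Fin 2) F) 1 1, v 1; 0, 0, 1], by
    have h := A.2
    rw [Matrix.det_fin_two] at h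
    simp [Matrix.det_fin_three]
    linear_combination h⟩, mem_qdOver.2 (by simp)⟩

theorem toSL2_mk (A : SL2) (v : Fin 2 → F) : toSL2 (mk A v) = A := by
  apply Matrix.SpecialLinearGroup.ext
  intro i j; fin_cases i <;> fin_cases j <;> simp [toSL2_apply, ent, mk]

@[simp] theorem ent_mk_02 (A : SL2) (v : Fin 2 → F) : ent (mk A v) 0 2 = v 0 := by simp [ent, mk]

@[simp] theorem ent_mk_12 (A : SL2) (v : Fin 2 → F) : ent (mk A v) 1 2 = v 1 := by simp [ent, mk]

@[simp] theorem ent_mk_00 (A : SL2) (v : Fin 2 → F) :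
    ent (mk A v) 0 0 = (A : Matrix (Fin 2) (Fin 2) F) 0 0 := by simp [ent, mk]

@[simp] theorem ent_mk_01 (A : SL2) (v : Fin 2 → F) :
    ent (mk A v) 0 1 = (A : Matrix (Fin 2) (Fin 2) F) 0 1 := by simp [ent, mk]

@[simp] theorem ent_mk_10 (A : SL2) (v : Fin 2 → F) :
    ent (mk A v) 1 0 = (A : Matrix (Fin 2) (Fin 2) F) 1 0 := by simp [ent, mk]

@[simp] theorem ent_mk_11 (A : SL2) (v : Fin 2 → F) :
    ent (mk A v) 1 1 = (A : Matrix (Fin 2) (Fin 2) F) 1 1 := by simp [ent, mk]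

theorem eq_mk (M : ↥(Cfsg.qdOver F)) : M = mk (toSL2 M) ![ent M 0 2, ent M 1 2] := by
  apply qd_ext <;> simp [ent, mk, toSL2_apply]

theorem mk_mul (A B : SL2) (v w : Fin 2 → F) :
    mk A v * mk B w = mk (A * B) ((A : Matrix (Fin 2) (Fin 2) F) *ᵥ w + v) := by
  apply qd_ext <;>
    simp [ent_mul, ent_20, ent_21, ent_22, Matrix.SpecialLinearGroup.coe_mul, Matrix.mul_apply, Fin.sum_univ_two,
      Matrix.mulVec, dotProduct, Matrix.vecHead, Matrix.vecTail]

theorem mk_one : mk (1 : SL2) (0 : Fin 2 → F) = 1 := by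
  apply qd_ext <;> simp [ent, mk]

/-- The translation subgroup. -/
def trans (F : Type*) [Field F] : Subgroup ↥(Cfsg.qdOver F) := (toSL2 (F := F)).ker

theorem mem_trans_iff (M : ↥(Cfsg.qdOver F)) : M ∈ trans F ↔ ∃ v, M = mk 1 v := by
  rw [trans, MonoidHom.mem_ker]
  constructor
  · intro h; exact ⟨_, (eq_mk M).trans (by rw [h])⟩
  · rintro ⟨v, rfl⟩; exact toSL2_mk _ _

theorem trans_isPGroup {p : ℕ} [Fact p.Prime] [CharP F p] : IsPGroup p (trans F) := by
  rintro ⟨M, hM⟩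
  refine ⟨1, Subtype.ext ?_⟩
  obtain ⟨v, rfl⟩ := (mem_trans_iff M).1 hM
  have hpow : ∀ n : ℕ, mk (1 : SL2) v ^ n = mk 1 (n • v) := by
    intro n
    induction n with
    | zero => simp [mk_one]
    | succ n ih =>
        rw [pow_succ, ih, mk_mul, one_mul, Matrix.SpecialLinearGroup.coe_one, Matrix.one_mulVec,
          succ_nsmul, add_comm]
  rw [Subgroup.coe_pow, pow_one, hpow]
  have : p • v = 0 := by ext i; simp [CharP.cast_eq_zero]
  rw [this, mk_one]; rfl

/-- Upper transvection. -/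
def upper (t : F) : SL2 := ⟨!![1, t; 0, 1], by simp [Matrix.det_fin_two]⟩

/-- Lower transvection. -/
def lower (t : F) : SL2 := ⟨!![1, 0; t, 1], by simp [Matrix.det_fin_two]⟩

theorem upper_coe (t : F) : ((upper t : SL2) : Matrix (Fin 2) (Fin 2) F) = !![1, t; 0, 1] := rfl

theorem lower_coe (t : F) : ((lower t : SL2) : Matrix (Fin 2) (Fin 2) F) = !![1, 0; t, 1] := rfl

theorem upper_mul (s t : F) : upper s * upper t = upper (s + t) := by
  apply Matrix.SpecialLinearGroup.ext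
  intro i j
  rw [Matrix.SpecialLinearGroup.coe_mul]
  change ((!![1, s; 0, 1] : Matrix (Fin 2) (Fin 2) F) * !![1, t; 0, 1]) i j = _
  fin_cases i <;> fin_cases j <;> simp [upper, add_comm]

theorem upper_zero : upper (0 : F) = 1 := by
  apply Matrix.SpecialLinearGroup.ext
  intro i j
  fin_cases i <;> fin_cases j <;> simp [upper]

theorem eq_top_of_upper_lower {H : Subgroup SL2} (hu : ∀ t, upper t ∈ H) (hl : ∀ t, lower t ∈ H) :
    H = ⊤ := by
  refine Linear.eq_top_of_transvection_mem fun i j hij c => ?_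
  fin_cases i <;> fin_cases j <;> simp at hij
  · convert hu c using 1
    apply Matrix.SpecialLinearGroup.ext
    intro a b
    fin_cases a <;> fin_cases b <;> simp [Matrix.SpecialLinearGroup.transvection_coe, upper, Matrix.single]
  · convert hl c using 1
    apply Matrix.SpecialLinearGroup.ext
    intro a b
    fin_cases a <;> fin_cases b <;> simp [Matrix.SpecialLinearGroup.transvection_coe, lower, Matrix.single]

section Char

variable {p : ℕ} [Fact p.Prime] [CharP F p]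

/-- The trace of a `2 × 2` unipotent matrix of determinant one is `2`. -/
theorem trace_of_pElement {A : SL2} {k : ℕ} (h : A ^ (p ^ k) = 1) :
    (A : Matrix (Fin 2) (Fin 2) F) 0 0 + (A : Matrix (Fin 2) (Fin 2) F) 1 1 = 2 := by
  have : CharP (Matrix (Fin 2) (Fin 2) F) p := inferInstance
  set M : Matrix (Fin 2) (Fin 2) F := (A : Matrix (Fin 2) (Fin 2) F) with hM
  have hMp : M ^ (p ^ k) = 1 := by rw [hM, ← Matrix.SpecialLinearGroup.coe_pow, h]; rfl
  have hnil : IsNilpotent (M - 1) :=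
    ⟨p ^ k, by rw [sub_pow_char_pow_of_commute _ _ (Commute.one_right M), one_pow, hMp, sub_self]⟩
  have ht : IsNilpotent (Matrix.trace (M - 1)) := Matrix.isNilpotent_trace_of_isNilpotent hnil
  have h0 := ht.eq_zero
  rw [Matrix.trace_fin_two] at h0
  simp at h0
  linear_combination h0

theorem toSL2_eq_one_of_normal {N : Subgroup SL2} (hN : N.Normal) (hp : IsPGroup p N) : N = ⊥ := by
  rw [Subgroup.eq_bot_iff_forall]
  intro A hA
  have tr : ∀ B ∈ N, (B : Matrix (Fin 2) (Fin 2) F) 0 0 + (B : Matrix (Fin 2) (Fin 2) F) 1 1 = 2 := by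
    intro B hB
    obtain ⟨k, hk⟩ := hp ⟨B, hB⟩
    exact trace_of_pElement (congrArg Subtype.val hk)
  have h1 := tr A hA
  have hd := A.2
  rw [Matrix.det_fin_two] at hd
  have hu : ∀ t, A * (upper t * A⁻¹ * (upper t)⁻¹) ∈ N := fun t =>
    N.mul_mem hA (hN.conj_mem _ (N.inv_mem hA) _)
  have hl : ∀ t, A * (lower t * A⁻¹ * (lower t)⁻¹) ∈ N := fun t =>
    N.mul_mem hA (hN.conj_mem _ (N.inv_mem hA) _)
  have e1 := tr _ (hu 1)
  have e2 := tr _ (hl 1)
  simp [upper_coe, lower_coe, Matrix.SpecialLinearGroup.coe_inv, Matrix.SpecialLinearGroup.coe_mul, Matrix.adjugate_fin_two, Matrix.mul_apply,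
    Fin.sum_univ_two] at e1 e2
  set a := (A : Matrix (Fin 2) (Fin 2) F) 0 0
  set b := (A : Matrix (Fin 2) (Fin 2) F) 0 1
  set c := (A : Matrix (Fin 2) (Fin 2) F) 1 0
  set d := (A : Matrix (Fin 2) (Fin 2) F) 1 1
  have hc : c = 0 := by
    have : c * c = 0 := by linear_combination e1 - 2 * hd
    exact mul_self_eq_zero.1 this
  have hb : b = 0 := by
    have : b * b = 0 := by linear_combination e2 - 2 * hd
    exact mul_self_eq_zero.1 this
  have ha : a = 1 := by
    have : (a - 1) * (a - 1) = 0 := by linear_combination a * h1 - hd - c * hb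
    exact sub_eq_zero.1 (mul_self_eq_zero.1 this)
  have hd1 : d = 1 := by linear_combination h1 - ha
  apply Matrix.SpecialLinearGroup.ext
  intro i j
  fin_cases i <;> fin_cases j <;> simp <;> assumption

theorem pCore_eq_trans [Finite F] : Cfsg.pCore p ↥(Cfsg.qdOver F) = trans F := by
  refine le_antisymm ?_ (le_sSup ⟨MonoidHom.normal_ker _, trans_isPGroup⟩)
  refine sSup_le fun N hN => ?_
  have hsurj : Function.Surjective (toSL2 (F := F)) := fun A => ⟨mk A 0, toSL2_mk A 0⟩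
  have := toSL2_eq_one_of_normal (hN.1.map _ hsurj) (hN.2.map (toSL2 (F := F)))
  rw [trans]
  exact (Subgroup.map_eq_bot_iff _).1 this

end Char

end Cfsg.Agent.H58.Qd
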