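import Cfsg.Agent.H58.Involve
import Cfsg.Agent.H58.AmalgamCharP
import Cfsg.Agent.PGroups.Basic
import Cfsg.Agent.S2758
import Mathlib.GroupTheory.Perm.Sign

/-!
When the symmetric group of degree four is involved in a group.
-/

set_option autoImplicit false

namespace Cfsg.Agent.H58.SFour

/-- The three double transpositions of four points. -/
abbrev DT : Type := {t : Equiv.Perm (Fin 4) // t * t = 1 ∧ ∀ i, t i ≠ i}

instance dtAct : MulAction (Equiv.Perm (Fin 4)) DT where
  smul σ t := ⟨σ * t.1 * σ⁻¹, by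
    constructor
    · calc σ * t.1 * σ⁻¹ * (σ * t.1 * σ⁻¹) = σ * (t.1 * t.1) * σ⁻¹ := by group
        _ = 1 := by rw [t.2.1]; group
    · intro i h
      apply t.2.2 (σ⁻¹ i)
      have := congrArg (fun j => σ⁻¹ j) h
      simpa using this⟩
  one_smul t := Subtype.ext (by show (1 : Equiv.Perm (Fin 4)) * t.1 * 1⁻¹ = t.1; group)
  mul_smul σ τ t := Subtype.ext (by show σ * τ * t.1 * (σ * τ)⁻¹ = σ * (τ * t.1 * τ⁻¹) * σ⁻¹; group)

theorem card_DT : Fintype.card DT = 3 := by decide +kernel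

/-- The homomorphism from degree four to degree three. -/
noncomputable def toS3 : Equiv.Perm (Fin 4) →* Equiv.Perm (Fin 3) :=
  (Equiv.permCongrHom (Fintype.equivFinOfCardEq card_DT)).toMonoidHom.comp
    (MulAction.toPermHom (Equiv.Perm (Fin 4)) DT)

theorem toS3_eq_one_iff (σ : Equiv.Perm (Fin 4)) : toS3 σ = 1 ↔ ∀ t : DT, σ * t.1 * σ⁻¹ = t.1 := by
  rw [toS3, MonoidHom.comp_apply]
  constructor
  · intro h t
    have h' : MulAction.toPermHom (Equiv.Perm (Fin 4)) DT σ = 1 :=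
      (Equiv.permCongrHom (Fintype.equivFinOfCardEq card_DT)).injective (h.trans (map_one _).symm)
    exact congrArg Subtype.val (congrArg (fun e : Equiv.Perm DT => e t) h')
  · intro h
    have h' : MulAction.toPermHom (Equiv.Perm (Fin 4)) DT σ = 1 := Equiv.ext fun t => Subtype.ext (h t)
    rw [h']; exact map_one _

theorem toS3_surjective : Function.Surjective toS3 := by
  have h : ∀ e : Equiv.Perm DT, ∃ σ : Equiv.Perm (Fin 4), ∀ t : DT, σ * t.1 * σ⁻¹ = (e t).1 := by
    decide +kernel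
  intro e
  obtain ⟨σ, hσ⟩ := h ((Equiv.permCongrHom (Fintype.equivFinOfCardEq card_DT)).symm e)
  refine ⟨σ, ?_⟩
  rw [toS3, MonoidHom.comp_apply]
  have : MulAction.toPermHom (Equiv.Perm (Fin 4)) DT σ =
      (Equiv.permCongrHom (Fintype.equivFinOfCardEq card_DT)).symm e := Equiv.ext fun t => Subtype.ext (hσ t)
  rw [this]
  exact MulEquiv.apply_symm_apply _ e

theorem mem_ker_of_DT (t : DT) : toS3 t.1 = 1 := by
  rw [toS3_eq_one_iff]
  revert t
  decide +kernel

theorem ker_isPGroup : IsPGroup 2 toS3.ker := by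
  rintro ⟨σ, hσ⟩
  refine ⟨1, Subtype.ext ?_⟩
  rw [Subgroup.coe_pow, pow_one, pow_two]
  have h : ∀ σ : Equiv.Perm (Fin 4), (∀ t : DT, σ * t.1 * σ⁻¹ = t.1) → σ * σ = 1 := by decide +kernel
  exact h σ ((toS3_eq_one_iff σ).1 hσ)

universe u

variable {G : Type u} [Group G]

theorem forward [Finite G] (h : Cfsg.Involves (Equiv.Perm (Fin 4)) G) :
    ∃ T : Subgroup G, IsPGroup 2 ↥T ∧ Cfsg.Involves (Equiv.Perm (Fin 3))
      (↥(Subgroup.normalizer (T : Set G)) ⧸
        (Subgroup.centralizer (T : Set G)).subgroupOf (Subgroup.normalizer (T : Set G))) := by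
  obtain ⟨K, f, hf⟩ := Inv.exists_hom_of_involves h
  have hMn : (toS3.ker.comap f).Normal := (MonoidHom.normal_ker toS3).comap f
  set M := toS3.ker.comap f with hM
  obtain ⟨P⟩ := (inferInstance : Nonempty (Sylow 2 ↥M))
  have hsup := Sylow.normalizer_sup_eq_top P
  set PK := (P : Subgroup ↥M).map M.subtype with hPK
  refine ⟨PK.map K.subtype, (P.isPGroup'.map _).map _, ?_⟩
  set T := PK.map K.subtype
  set N1 := Subgroup.normalizer (PK : Set ↥K) with hN1
  set θ : ↥N1 →* Equiv.Perm (Fin 3) := toS3.comp (f.comp N1.subtype) with hθ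
  let j : ↥N1 →* ↥(Subgroup.normalizer (T : Set G)) :=
    { toFun := fun c => ⟨((c : ↥K) : G), Subgroup.le_normalizer_map K.subtype ⟨c.1, c.2, rfl⟩⟩
      map_one' := rfl
      map_mul' := fun _ _ => rfl }
  set ι := (QuotientGroup.mk' ((Subgroup.centralizer (T : Set G)).subgroupOf
    (Subgroup.normalizer (T : Set G)))).comp j with hι
  have hθs : Function.Surjective θ := by
    intro e
    obtain ⟨σ, rfl⟩ := toS3_surjective e
    obtain ⟨k, rfl⟩ := hf σ
    obtain ⟨c, hc, m, hm, rfl⟩ := Subgroup.mem_sup_of_normal_right.1 (hsup ▸ Subgroup.mem_top k : k ∈ _)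
    refine ⟨⟨c, hc⟩, ?_⟩
    have : toS3 (f m) = 1 := hm
    simp [hθ, this]
  have hker : ι.ker ≤ θ.ker := by
    intro c hc
    rw [hι, MonoidHom.mem_ker, MonoidHom.comp_apply, QuotientGroup.mk'_apply, QuotientGroup.eq_one_iff,
      Subgroup.mem_subgroupOf] at hc
    rw [MonoidHom.mem_ker]
    show toS3 (f c.1) = 1
    rw [toS3_eq_one_iff]
    intro t
    -- `t` is the image of an element of `P`
    obtain ⟨m, hm⟩ := hf t.1
    have hmM : m ∈ M := by
      show toS3 (f m) = 1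
      rw [hm]; exact mem_ker_of_DT t
    let g : ↥M →* ↥toS3.ker :=
      { toFun := fun x => ⟨f x.1, x.2⟩
        map_one' := Subtype.ext (map_one f)
        map_mul' := fun _ _ => Subtype.ext (map_mul f _ _) }
    have hgs : Function.Surjective g := fun x => by
      obtain ⟨y, hy⟩ := hf x.1
      exact ⟨⟨y, show toS3 (f y) = 1 by rw [hy]; exact x.2⟩, Subtype.ext hy⟩
    have htop : ((P.mapSurjective hgs : Sylow 2 ↥toS3.ker) : Subgroup ↥toS3.ker) = ⊤ :=
      ((P.mapSurjective hgs).is_maximal' (ker_isPGroup.to_subgroup ⊤) le_top).symm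
    obtain ⟨q, hq, hqe⟩ : g ⟨m, hmM⟩ ∈ (P : Subgroup ↥M).map g := by
      rw [← Sylow.coe_mapSurjective hgs P, htop]; trivial
    have e := Subgroup.mem_centralizer_iff.1 hc ((q : ↥K) : G) ⟨q.1, ⟨q, hq, rfl⟩, rfl⟩
    have e' : q.1 * c.1 = c.1 * q.1 := Subtype.ext e
    have e'' := congrArg f e'
    have hqf : f q.1 = t.1 := (congrArg Subtype.val hqe).trans hm
    rw [map_mul, map_mul, hqf] at e''
    rw [← e'', mul_inv_cancel_right]
  have hker' : (QuotientGroup.mk' ι.ker).ker ≤ θ.ker := by rw [QuotientGroup.ker_mk']; exact hker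
  let ψ : ↥ι.range →* Equiv.Perm (Fin 3) :=
    (QuotientGroup.lift ι.ker θ hker).comp (QuotientGroup.quotientKerEquivRange ι).symm.toMonoidHom
  refine Inv.involves_of_hom ψ (fun e => ?_)
  obtain ⟨c, rfl⟩ := hθs e
  refine ⟨QuotientGroup.quotientKerEquivRange ι (QuotientGroup.mk c), ?_⟩
  simp [ψ]

/-- A transitive subgroup on four points whose point stabiliser has elements of order three and two. -/
theorem eq_top_of_transitive {X : Type*} [Finite X] (hX : Nat.card X = 4) (J : Subgroup (Equiv.Perm X))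
    (x₀ : X) (htr : ∀ x, ∃ g ∈ J, g x₀ = x) {s r : Equiv.Perm X} (hs : s ∈ J) (hs0 : s x₀ = x₀)
    (hs3 : orderOf s = 3) (hr : r ∈ J) (hr0 : r x₀ = x₀) (hr2 : 2 ∣ orderOf r) : J = ⊤ := by
  classical
  have := Fintype.ofFinite X
  apply Subgroup.eq_top_of_card_eq
  refine le_antisymm (Finite.card_subtype_le _) ?_
  have horb : MulAction.orbit ↥J x₀ = Set.univ := by
    ext x
    simp only [Set.mem_univ, iff_true]
    obtain ⟨g, hg, hgx⟩ := htr x
    exact ⟨⟨g, hg⟩, hgx⟩
  have hidx := MulAction.index_stabilizer ↥J x₀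
  rw [horb, Set.ncard_univ, hX] at hidx
  have hcard := (MulAction.stabilizer ↥J x₀).card_mul_index
  rw [hidx] at hcard
  have d3 : 3 ∣ Nat.card (MulAction.stabilizer ↥J x₀) := by
    have h := Subgroup.orderOf_dvd_natCard (MulAction.stabilizer ↥J x₀) (x := (⟨s, hs⟩ : ↥J)) hs0
    rwa [Subgroup.orderOf_mk, hs3] at h
  have d2 : 2 ∣ Nat.card (MulAction.stabilizer ↥J x₀) := by
    have h := Subgroup.orderOf_dvd_natCard (MulAction.stabilizer ↥J x₀) (x := (⟨r, hr⟩ : ↥J)) hr0
    rw [Subgroup.orderOf_mk] at h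
    exact hr2.trans h
  have d6 : 6 ∣ Nat.card (MulAction.stabilizer ↥J x₀) := Nat.Coprime.mul_dvd_of_dvd_of_dvd (by decide) d3 d2
  have := Nat.le_of_dvd Nat.card_pos d6
  rw [Nat.card_perm, hX, show Nat.factorial 4 = 24 from rfl]
  omega

theorem involves_perm4_of_data [Finite G] (T P : Subgroup G) (n a : G) (hT : IsPGroup 2 ↥T) (hP : IsPGroup 3 ↥P)
    (haP : a ∈ P) (hPT : P ≤ Subgroup.normalizer (T : Set G)) (hnT : n ∈ Subgroup.normalizer (T : Set G))
    (hnP : n ∈ Subgroup.normalizer (P : Set G)) (hn : ∃ k : ℕ, orderOf n = 2 ^ k)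
    (haC : a ∉ Subgroup.centralizer (T : Set G))
    (hgen : ∀ b ∈ P, ∃ i : ℤ, (a ^ i)⁻¹ * b ∈ Subgroup.centralizer (T : Set G))
    (ha3 : a ^ 3 ∈ Subgroup.centralizer (T : Set G))
    (hinv : n * a * n⁻¹ * a ∈ Subgroup.centralizer (T : Set G)) :
    Cfsg.Involves (Equiv.Perm (Fin 4)) G := by
  classical
  set H := P ⊔ Subgroup.zpowers n with hH
  have hHP : H ≤ Subgroup.normalizer (P : Set G) :=
    sup_le Subgroup.le_normalizer (Subgroup.zpowers_le.2 hnP)
  have hHT : H ≤ Subgroup.normalizer (T : Set G) := sup_le hPT (Subgroup.zpowers_le.2 hnT)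
  have haH : a ∈ H := Subgroup.mem_sup_left haP
  have hnH : n ∈ H := Subgroup.mem_sup_right (Subgroup.mem_zpowers n)
  obtain ⟨U, ⟨hUT, hHU, haU⟩, hmin⟩ := exists_minimal_of_wellFoundedLT
    (fun U : Subgroup G => U ≤ T ∧ H ≤ Subgroup.normalizer (U : Set G) ∧ a ∉ Subgroup.centralizer (U : Set G))
    ⟨T, le_rfl, hHT, haC⟩
  have hU2 : IsPGroup 2 ↥U := hT.to_le hUT
  set Φ := frattini ↥U with hΦ
  have hΦn : Φ.Normal := inferInstance
  set W := Φ.map U.subtype with hW
  have hWU : W ≤ U := Subgroup.map_subtype_le _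
  let σ : ↥H →* MulAut ↥U := (Subgroup.normalizerMonoidHom U).comp (Subgroup.inclusion hHU)
  have hσ : ∀ (h : ↥H) (u : ↥U), ((σ h u : ↥U) : G) = (h : G) * (u : G) * (h : G)⁻¹ := fun _ _ => rfl
  have hσΦ : ∀ h : ↥H, Φ.map (σ h).toMonoidHom = Φ := fun h =>
    Subgroup.characteristic_iff_map_eq.1 frattini_characteristic (σ h)
  have hHW : H ≤ Subgroup.normalizer (W : Set G) := by
    intro h hh
    apply mem_normalizer_of_map_conj_eq
    conv_rhs => rw [hW, ← hσΦ ⟨h, hh⟩]
    rw [hW, Subgroup.map_map, Subgroup.map_map]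
    rfl
  have hUne : U ≠ ⊥ := by
    intro hU
    apply haU
    rw [hU, Subgroup.mem_centralizer_iff]
    intro x hx
    rw [SetLike.mem_coe, Subgroup.mem_bot] at hx
    simp [hx]
  have haW : a ∈ Subgroup.centralizer (W : Set G) := by
    by_contra hcon
    have hUW : U ≤ W := hmin ⟨hWU.trans hUT, hHW, hcon⟩ hWU
    have htop : Φ = ⊤ := eq_top_iff.2 fun x _ => by
      obtain ⟨y, hy, hyx⟩ := hUW x.2
      rwa [show y = x from Subtype.ext hyx] at hy
    have hb : (⊥ : Subgroup ↥U) = ⊤ := frattini_nongenerating (by rw [bot_sup_eq]; exact htop)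
    refine hUne ((Subgroup.eq_bot_iff_forall _).2 fun x hx => ?_)
    have : (⟨x, hx⟩ : ↥U) ∈ (⊥ : Subgroup ↥U) := hb ▸ Subgroup.mem_top _
    exact congrArg Subtype.val (Subgroup.mem_bot.1 this)
  let V := ↥U ⧸ Φ
  let ρ : ↥H →* MulAut V :=
    { toFun := fun h => QuotientGroup.congr Φ Φ (σ h) (hσΦ h)
      map_one' := MulEquiv.ext fun v => by
        induction v using QuotientGroup.induction_on with
        | _ u => simp
      map_mul' := fun g h => MulEquiv.ext fun v => by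
        induction v using QuotientGroup.induction_on with
        | _ u =>
            show (QuotientGroup.mk (σ (g * h) u) : ↥U ⧸ Φ) = QuotientGroup.mk (σ g (σ h u))
            rw [map_mul]; rfl }
  have hρ : ∀ (h : ↥H) (u : ↥U), ρ h (QuotientGroup.mk u) = QuotientGroup.mk (σ h u) := fun h u => rfl
  have hsq : ∀ v : V, v * v = 1 := fun v => by
    induction v using QuotientGroup.induction_on with
    | _ u =>
        rw [← QuotientGroup.mk_mul, ← pow_two, QuotientGroup.eq_one_iff]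
        exact PGroups.pow_mem_frattini hU2 u
  have hvinv : ∀ v : V, v⁻¹ = v := fun v => inv_eq_of_mul_eq_one_left (hsq v)
  have hcomm : ∀ v w : V, v * w = w * v := fun v w => by
    have h := hvinv (v * w)
    rw [mul_inv_rev, hvinv, hvinv] at h
    exact h.symm
  set A : MulAut V := ρ ⟨a, haH⟩ with hA
  set B : MulAut V := ρ ⟨n, hnH⟩ with hB
  have hρ1 : ∀ h : ↥H, (h : G) ∈ Subgroup.centralizer (T : Set G) → ρ h = 1 := by
    intro h hh
    refine MulEquiv.ext fun v => ?_
    induction v using QuotientGroup.induction_on with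
    | _ u =>
        rw [hρ, MulAut.one_apply]
        congr 1
        apply Subtype.ext
        rw [hσ, ← Subgroup.mem_centralizer_iff.1 hh u (hUT u.2), mul_inv_cancel_right]
  have hA3 : ∀ v, A (A (A v)) = v := by
    intro v
    have h1 : ρ (⟨a, haH⟩ ^ 3) = 1 := hρ1 _ (by simpa using ha3)
    rw [map_pow] at h1
    exact (congrArg (fun e : MulAut V => e v) h1 :)
  have hBA : ∀ v, B (A v) = A (A (B v)) := by
    intro v
    have h1 : ρ (⟨n, hnH⟩ * ⟨a, haH⟩ * ⟨n, hnH⟩⁻¹ * ⟨a, haH⟩) = 1 := hρ1 _ (by simpa using hinv)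
    simp only [map_mul, map_inv, ← hA, ← hB] at h1
    have h2 : B * A = A⁻¹ * B := by
      have : B * A * B⁻¹ = A⁻¹ := eq_inv_of_mul_eq_one_left h1
      rw [← this, inv_mul_cancel_right]
    have h3 : B (A v) = A⁻¹ (B v) := (congrArg (fun e : MulAut V => e v) h2 :)
    rw [h3]
    apply A.injective
    rw [MulAut.apply_inv_self, hA3]
  obtain ⟨v0, hv0⟩ : ∃ v, A v ≠ v := by
    by_contra hcon
    push Not at hcon
    apply haU
    rw [Subgroup.mem_centralizer_iff]
    intro u hu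
    set c := u⁻¹ * (a * u * a⁻¹) with hc
    have h1 := hcon (QuotientGroup.mk (⟨u, hu⟩ : ↥U))
    rw [hA, hρ, eq_comm, QuotientGroup.eq] at h1
    have hcW : c ∈ W := ⟨_, h1, by simp [hσ, hc]⟩
    have hfix : a * c * a⁻¹ = c := by
      rw [← Subgroup.mem_centralizer_iff.1 haW c hcW, mul_inv_cancel_right]
    have e1 : a * u * a⁻¹ = u * c := by rw [hc]; group
    have e2 : a ^ 2 * u * (a ^ 2)⁻¹ = u * (c * c) := by
      calc a ^ 2 * u * (a ^ 2)⁻¹ = a * (a * u * a⁻¹) * a⁻¹ := by simp [pow_two, mul_assoc]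
        _ = a * (u * c) * a⁻¹ := by rw [e1]
        _ = (a * u * a⁻¹) * (a * c * a⁻¹) := by group
        _ = u * (c * c) := by rw [e1, hfix, mul_assoc]
    have e3 : a ^ 3 * u * (a ^ 3)⁻¹ = u * (c * (c * c)) := by
      calc a ^ 3 * u * (a ^ 3)⁻¹ = a * (a ^ 2 * u * (a ^ 2)⁻¹) * a⁻¹ := by simp [pow_succ', mul_assoc]
        _ = (a * u * a⁻¹) * ((a * c * a⁻¹) * (a * c * a⁻¹)) := by rw [e2]; simp [mul_assoc]
        _ = u * (c * (c * c)) := by rw [e1, hfix, mul_assoc]
    rw [← Subgroup.mem_centralizer_iff.1 ha3 u (hUT hu), mul_inv_cancel_right, left_eq_mul] at e3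
    obtain ⟨k, hk⟩ := (IsPGroup.iff_orderOf.1 hU2) ⟨c, hWU hcW⟩
    rw [Subgroup.orderOf_mk] at hk
    have d3 : orderOf c ∣ 3 := orderOf_dvd_of_pow_eq_one (by rw [pow_succ', pow_two]; exact e3)
    have hc1 : c = 1 := by
      rw [← orderOf_eq_one_iff]
      rw [hk] at d3 ⊢
      exact Nat.Coprime.eq_one_of_dvd (Nat.Coprime.pow_left k (by decide)) d3
    rw [hc1, mul_one, mul_inv_eq_iff_eq_mul] at e1
    exact e1.symm
  -- a fixed vector of `B` in the commutator space
  let Dp : V → Prop := fun d => ∃ v, d = v * A v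
  have hDtr : ∀ d, Dp d → d * A d * A (A d) = 1 := by
    rintro _ ⟨v, rfl⟩
    simp only [map_mul, hA3]
    calc v * A v * (A v * A (A v)) * (A (A v) * v)
        = v * (A v * A v) * (A (A v) * A (A v)) * v := by group
      _ = 1 := by rw [hsq, hsq, mul_one, mul_one, hsq]
  let e : V → V := fun d => d * B d
  have hDe : ∀ d, Dp d → Dp (e d) := by
    rintro _ ⟨v, rfl⟩
    refine ⟨v * A (A (B v)), ?_⟩
    show v * A v * B (v * A v) = _
    simp only [map_mul, hBA, hA3]
    rw [hcomm (B v) (A (A (B v))), mul_assoc, mul_assoc, ← mul_assoc (A v), hcomm (A v), mul_assoc]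
  obtain ⟨k, hk⟩ := hn
  have hiter : ∀ (i : ℕ) (d : V), e^[2 ^ i] d = d * (B ^ 2 ^ i) d := by
    intro i
    induction i with
    | zero => intro d; simp [e]
    | succ i ih =>
        intro d
        rw [pow_succ, mul_two, Function.iterate_add_apply, ih, ih, map_mul, pow_add, MulAut.mul_apply,
          mul_assoc, ← mul_assoc ((B ^ 2 ^ i) d), hsq, one_mul]
  have hBk : B ^ 2 ^ k = 1 := by
    rw [hB, ← map_pow]
    apply hρ1
    rw [Subgroup.coe_pow, ← hk, pow_orderOf_eq_one]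
    exact one_mem _
  set d0 := v0 * A v0 with hd0
  have hd0ne : d0 ≠ 1 := fun h => hv0 ((eq_inv_of_mul_eq_one_right h).trans (hvinv v0))
  have hex : ∃ j, e^[j] d0 = 1 := ⟨2 ^ k, by rw [hiter, hBk, MulAut.one_apply, hsq]⟩
  have hj0 : Nat.find hex ≠ 0 := by
    intro h0
    have := Nat.find_spec hex
    rw [h0] at this
    exact hd0ne this
  obtain ⟨j, hj⟩ := Nat.exists_eq_succ_of_ne_zero hj0
  set w := e^[j] d0 with hw
  have hw1 : w ≠ 1 := Nat.find_min hex (by omega)
  have hwD : Dp w := by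
    rw [hw]
    clear hw1 hj hw
    induction j with
    | zero => exact ⟨v0, rfl⟩
    | succ j ih => rw [Function.iterate_succ_apply']; exact hDe _ ih
  have hBw : B w = w := by
    have := Nat.find_spec hex
    rw [hj, Function.iterate_succ_apply', ← hw] at this
    rw [← hvinv w]
    simpa [hvinv] using eq_inv_of_mul_eq_one_right this
  have htr := hDtr w hwD
  have hAw : A w ≠ w := by
    intro h
    rw [h, h, hsq, one_mul] at htr
    exact hw1 htr
  have hA2w : A (A w) = w * A w := by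
    rw [← hvinv (w * A w)]
    exact eq_inv_of_mul_eq_one_right htr
  set S : Subgroup V := Subgroup.closure {w, A w} with hS
  have hwS : w ∈ S := Subgroup.subset_closure (by simp)
  have hAwS : A w ∈ S := Subgroup.subset_closure (by simp)
  have hSelts : ∀ x ∈ S, x = 1 ∨ x = w ∨ x = A w ∨ x = w * A w := by
    let S' : Subgroup V :=
      { carrier := {x | x = 1 ∨ x = w ∨ x = A w ∨ x = w * A w}
        one_mem' := Or.inl rfl
        mul_mem' := by
          rintro x y (rfl | rfl | rfl | rfl) (rfl | rfl | rfl | rfl) <;>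
            simp only [one_mul, mul_one, Set.mem_ofPred_eq, hsq, true_or, or_true]
          · right; right; left; rw [← mul_assoc, hsq, one_mul]
          · right; right; right; exact hcomm _ _
          · right; left; rw [hcomm w, ← mul_assoc, hsq, one_mul]
          · right; right; left; rw [hcomm, ← mul_assoc, hsq, one_mul]
          · right; left; rw [mul_assoc, hsq, mul_one]
        inv_mem' := by intro x hx; rwa [hvinv] }
    intro x hx
    exact (Subgroup.closure_le (K := S')).2 (by rintro y (rfl | rfl); exacts [Or.inr (Or.inl rfl), Or.inr (Or.inr (Or.inl rfl))]) hx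
  have hfixS : ∀ x ∈ S, A x = x → x = 1 := by
    intro x hx hfix
    rcases hSelts x hx with rfl | rfl | rfl | rfl
    · rfl
    · exact absurd hfix hAw
    · exact absurd (A.injective hfix) hAw
    · rw [map_mul, hA2w, ← mul_assoc, hcomm (A w) w, mul_assoc, hsq, mul_one] at hfix
      exact absurd (A.injective ((left_eq_mul.1 hfix).trans (map_one A).symm)) hw1
  -- invariance of the four-group
  have hstab : ∀ h : ↥H, ∀ x ∈ S, ρ h x ∈ S := by
    have hmapS : ∀ φ : MulAut V, (∀ x ∈ S, φ x ∈ S) → S.map φ.toMonoidHom = S := by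
      intro φ hφ
      refine Subgroup.eq_of_le_of_card_ge (by rintro _ ⟨x, hx, rfl⟩; exact hφ x hx) (le_of_eq ?_)
      exact (Subgroup.card_map_of_injective φ.injective).symm
    let St : Subgroup (MulAut V) :=
      { carrier := {φ | S.map φ.toMonoidHom = S}
        one_mem' := Subgroup.map_id S
        mul_mem' := fun {φ ψ} hφ hψ => by
          show S.map (φ * ψ).toMonoidHom = S
          conv_rhs => rw [← hφ, ← hψ, Subgroup.map_map]
          rfl
        inv_mem' := fun {φ} hφ => by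
          show S.map (φ⁻¹).toMonoidHom = S
          conv_lhs => rw [← hφ, Subgroup.map_map]
          convert Subgroup.map_id S using 2
          ext x
          exact φ.symm_apply_apply x }
    have hsta : A ∈ St := hmapS A (fun x hx => by
      rcases hSelts x hx with rfl | rfl | rfl | rfl
      · simp
      · exact hAwS
      · rw [hA2w]; exact S.mul_mem hwS hAwS
      · rw [map_mul, hA2w]; exact S.mul_mem hAwS (S.mul_mem hwS hAwS))
    have hstb : B ∈ St := hmapS B (fun x hx => by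
      rcases hSelts x hx with rfl | rfl | rfl | rfl
      · simp
      · rw [hBw]; exact hwS
      · rw [hBA, hBw, hA2w]; exact S.mul_mem hwS hAwS
      · rw [map_mul, hBA, hBw, hA2w]; exact S.mul_mem hwS (S.mul_mem hwS hAwS))
    have hall : H ≤ (St.comap ρ).map H.subtype := by
      refine sup_le (fun b hb => ?_) (Subgroup.zpowers_le.2 ⟨⟨n, hnH⟩, hstb, rfl⟩)
      obtain ⟨i, hi⟩ := hgen b hb
      refine ⟨⟨b, Subgroup.mem_sup_left hb⟩, ?_, rfl⟩
      have h1 : ρ ((⟨a, haH⟩ ^ i)⁻¹ * ⟨b, Subgroup.mem_sup_left hb⟩) = 1 := hρ1 _ (by simpa using hi)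
      rw [map_mul, map_inv, inv_mul_eq_one, map_zpow] at h1
      show ρ _ ∈ St
      rw [← h1]
      exact St.zpow_mem hsta i
    intro h x hx
    obtain ⟨h', hh', he⟩ := hall h.2
    rw [show h' = h from Subtype.ext he] at hh'
    have hh2 : S.map (ρ h).toMonoidHom = S := hh'
    rw [← hh2]
    exact ⟨x, hx, rfl⟩
  set S0 : Subgroup ↥U := S.comap (QuotientGroup.mk' Φ) with hS0
  set U' := S0.map U.subtype with hU'
  have hU'U : U' ≤ U := Subgroup.map_subtype_le _
  have hWU' : W ≤ U' := Subgroup.map_mono fun u hu => by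
    show (QuotientGroup.mk u : V) ∈ S
    rw [(QuotientGroup.eq_one_iff u).2 hu]; exact S.one_mem
  have hmemU' : ∀ (h : ↥H), ∀ u ∈ U', (h : G) * u * (h : G)⁻¹ ∈ U' := by
    rintro h _ ⟨u, hu, rfl⟩
    exact ⟨σ h u, hstab h _ hu, rfl⟩
  have hHU' : H ≤ Subgroup.normalizer (U' : Set G) := by
    intro h hh
    rw [Subgroup.mem_normalizer_iff]
    intro u
    refine ⟨hmemU' ⟨h, hh⟩ u, fun hu => ?_⟩
    have := hmemU' ⟨h, hh⟩⁻¹ _ hu
    simpa [mul_assoc] using this
  have hint : ∀ t ∈ H, t ∈ U' → t ∈ W := by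
    rintro t htH ⟨u, hu, rfl⟩
    have hcm : a * (u : G) = (u : G) * a := by
      set z := (u : G) * a * (u : G)⁻¹ * a⁻¹ with hz
      have hzP : z ∈ P := P.mul_mem ((Subgroup.mem_normalizer_iff.1 (hHP htH) a).1 haP) (P.inv_mem haP)
      have hzU : z ∈ U := by
        have : z = (u : G) * (a * (u : G)⁻¹ * a⁻¹) := by rw [hz]; simp [mul_assoc]
        rw [this]
        exact U.mul_mem u.2 ((Subgroup.mem_normalizer_iff.1 (hHU haH) _).1 (U.inv_mem u.2))
      have hz1 : z = 1 :=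
        Subgroup.disjoint_def.1 (IsPGroup.disjoint_of_ne 3 2 (by decide) P U hP hU2) hzP hzU
      rw [hz, mul_inv_eq_one, mul_inv_eq_iff_eq_mul] at hz1
      exact hz1.symm
    have hfix : A (QuotientGroup.mk u) = QuotientGroup.mk u := by
      rw [hA, hρ]
      congr 1
      apply Subtype.ext
      rw [hσ]
      show a * (u : G) * a⁻¹ = u
      rw [hcm, mul_inv_cancel_right]
    exact ⟨u, (QuotientGroup.eq_one_iff u).1 (hfixS _ hu hfix), rfl⟩
  set K := U' ⊔ H with hK
  set L := W ⊔ H with hL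
  have hLK : L ≤ K := sup_le (hWU'.trans le_sup_left) le_sup_right
  set X := ↥K ⧸ L.subgroupOf K
  have hmem : ∀ g ∈ K, ∃ u ∈ U', ∃ h ∈ H, g = u * h := by
    intro g hg
    rw [← SetLike.mem_coe, hK, Subgroup.coe_mul_of_right_le_normalizer_left U' H hHU'] at hg
    obtain ⟨u, hu, h, hh, rfl⟩ := hg
    exact ⟨u, hu, h, hh, rfl⟩
  have hWL : ∀ u ∈ U', u ∈ L → u ∈ W := by
    intro u hu huL
    rw [← SetLike.mem_coe, hL, Subgroup.coe_mul_of_right_le_normalizer_left W H hHW] at huL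
    obtain ⟨x, hx, h, hh, rfl⟩ := huL
    refine W.mul_mem hx (hint h hh ?_)
    have := U'.mul_mem (U'.inv_mem (hWU' hx)) hu
    simpa using this
  have lift : ∀ x : ↥S, ∃ u : ↥U, (QuotientGroup.mk u : V) = x.1 := fun x => QuotientGroup.mk_surjective _
  choose lf hlf using lift
  have hlfK : ∀ x : ↥S, ((lf x : ↥U) : G) ∈ K := fun x =>
    Subgroup.mem_sup_left ⟨lf x, show QuotientGroup.mk (lf x) ∈ S by rw [hlf]; exact x.2, rfl⟩
  let emb : ↥S → X := fun x => QuotientGroup.mk (⟨_, hlfK x⟩ : ↥K)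
  have emb_eq : ∀ (x : ↥S) (g : ↥K) (u : ↥U), (g : G) = (u : G) → (QuotientGroup.mk u : V) = x.1 →
      (QuotientGroup.mk g : X) = emb x := by
    intro x g u hg hu
    rw [QuotientGroup.eq, Subgroup.mem_subgroupOf]
    refine Subgroup.mem_sup_left ⟨u⁻¹ * lf x, ?_, by simp [hg]⟩
    rw [SetLike.mem_coe, ← QuotientGroup.eq_one_iff, QuotientGroup.mk_mul, QuotientGroup.mk_inv, hu, hlf, inv_mul_cancel]
  have hembinj : Function.Injective emb := by
    intro x y hxy
    rw [QuotientGroup.eq, Subgroup.mem_subgroupOf] at hxy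
    have h1 : ((lf x : ↥U) : G)⁻¹ * ((lf y : ↥U) : G) ∈ U' :=
      U'.mul_mem (U'.inv_mem ⟨lf x, show QuotientGroup.mk (lf x) ∈ S by rw [hlf]; exact x.2, rfl⟩)
        ⟨lf y, show QuotientGroup.mk (lf y) ∈ S by rw [hlf]; exact y.2, rfl⟩
    obtain ⟨z, hz, hze⟩ := hWL _ h1 (by simpa using hxy)
    have : z = (lf x)⁻¹ * lf y := Subtype.ext (by simpa using hze)
    rw [this, SetLike.mem_coe, ← QuotientGroup.eq_one_iff, QuotientGroup.mk_mul, QuotientGroup.mk_inv, hlf, hlf,
      inv_mul_eq_one] at hz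
    exact Subtype.ext hz
  have hembsurj : Function.Surjective emb := by
    intro q
    induction q using QuotientGroup.induction_on with
    | _ g =>
        obtain ⟨_, ⟨u, hu, rfl⟩, h, hh, he⟩ := hmem g.1 g.2
        refine ⟨⟨_, hu⟩, ?_⟩
        have hbase := emb_eq ⟨_, hu⟩ ⟨(u : G), Subgroup.mem_sup_left ⟨u, hu, rfl⟩⟩ u rfl rfl
        rw [← hbase, QuotientGroup.eq, Subgroup.mem_subgroupOf]
        refine Subgroup.mem_sup_right ?_
        have : ((u : G))⁻¹ * g.1 = h := by rw [he]; simp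
        simpa [this] using hh
  have hcardS : Nat.card ↥S = 4 := by
    let f : Fin 4 → ↥S := ![1, ⟨w, hwS⟩, ⟨A w, hAwS⟩, ⟨w * A w, S.mul_mem hwS hAwS⟩]
    have hAw1 : A w ≠ 1 := fun h => hw1 (A.injective (h.trans (map_one A).symm))
    have hww : w * A w ≠ 1 := fun h => hAw ((eq_inv_of_mul_eq_one_right h).trans (hvinv w))
    have hf : Function.Bijective f := by
      refine ⟨fun i j hij => ?_, fun x => ?_⟩
      · have hij' := congrArg Subtype.val hij
        fin_cases i <;> fin_cases j <;> simp [f, hw1, hAw1, hww, hAw, Ne.symm hw1, Ne.symm hAw1, Ne.symm hww,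
          Ne.symm hAw] at hij' ⊢
      · rcases hSelts x.1 x.2 with h | h | h | h
        · exact ⟨0, Subtype.ext h.symm⟩
        · exact ⟨1, Subtype.ext h.symm⟩
        · exact ⟨2, Subtype.ext h.symm⟩
        · exact ⟨3, Subtype.ext h.symm⟩
    rw [← Nat.card_congr (Equiv.ofBijective f hf), Nat.card_fin]
  have hX : Nat.card X = 4 := by
    rw [← Nat.card_congr (Equiv.ofBijective emb ⟨hembinj, hembsurj⟩), hcardS]
  have : Finite X := inferInstance
  let φ := MulAction.toPermHom ↥K X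
  set x0 : X := QuotientGroup.mk 1 with hx0
  have act : ∀ (h : ↥H) (x : ↥S), φ ⟨h.1, Subgroup.mem_sup_right h.2⟩ (emb x) =
      emb ⟨ρ h x.1, hstab h _ x.2⟩ := by
    intro h x
    have hmemK : (h : G) * ((lf x : ↥U) : G) * (h : G)⁻¹ ∈ K :=
      Subgroup.mem_sup_left (hmemU' h _ ⟨lf x, show QuotientGroup.mk (lf x) ∈ S by rw [hlf]; exact x.2, rfl⟩)
    rw [← emb_eq ⟨ρ h x.1, hstab h _ x.2⟩ ⟨_, hmemK⟩ (σ h (lf x)) rfl (by rw [← hρ, hlf])]
    show (QuotientGroup.mk _ : X) = _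
    rw [QuotientGroup.eq, Subgroup.mem_subgroupOf]
    refine Subgroup.mem_sup_right ?_
    simp [mul_assoc]
  have act0 : ∀ h : ↥H, φ ⟨h.1, Subgroup.mem_sup_right h.2⟩ x0 = x0 := by
    intro h
    show (QuotientGroup.mk _ : X) = _
    rw [hx0, QuotientGroup.eq, Subgroup.mem_subgroupOf]
    refine Subgroup.mem_sup_right ?_
    simp
  have htop := eq_top_of_transitive hX φ.range x0 ?_ (MonoidHom.mem_range.2 ⟨_, rfl⟩) (act0 ⟨a, haH⟩) ?_
    (MonoidHom.mem_range.2 ⟨_, rfl⟩) (act0 ⟨n, hnH⟩) ?_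
  · let e4 : X ≃ Fin 4 := (Nat.equivFinOfCardPos (by rw [hX]; decide)).trans (finCongr hX)
    exact Inv.involves_of_hom ((Equiv.permCongrHom e4).toMonoidHom.comp φ)
      ((Equiv.permCongrHom e4).surjective.comp (MonoidHom.range_eq_top.1 htop))
  · intro x
    induction x using QuotientGroup.induction_on with
    | _ g =>
        refine ⟨φ g, ⟨g, rfl⟩, ?_⟩
        show (QuotientGroup.mk _ : X) = _
        simp
  · set s := φ ⟨a, Subgroup.mem_sup_right haH⟩ with hs
    have hpow : s ^ 3 = 1 := by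
      ext q
      obtain ⟨x, rfl⟩ := hembsurj q
      show s (s (s (emb x))) = emb x
      rw [hs, act ⟨a, haH⟩, act ⟨a, haH⟩, act ⟨a, haH⟩]
      exact congrArg emb (Subtype.ext (hA3 x.1))
    refine orderOf_eq_prime hpow ?_
    intro h
    have h1 := congrArg (fun e : Equiv.Perm X => e (emb ⟨w, hwS⟩)) h
    simp only [Equiv.Perm.one_apply] at h1
    rw [hs, act ⟨a, haH⟩] at h1
    exact hAw (congrArg Subtype.val (hembinj h1))
  · set r := φ ⟨n, Subgroup.mem_sup_right hnH⟩ with hr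
    have hpow : r ^ 2 ^ k = 1 := by
      rw [hr, ← map_pow]
      convert map_one φ
      apply Subtype.ext
      rw [Subgroup.coe_pow, Subgroup.coe_one, ← hk]
      exact pow_orderOf_eq_one n
    obtain ⟨i, -, hi⟩ := (Nat.dvd_prime_pow Nat.prime_two).1 (orderOf_dvd_of_pow_eq_one hpow)
    rcases Nat.eq_zero_or_pos i with rfl | hpos
    · exfalso
      rw [pow_zero, orderOf_eq_one_iff] at hi
      have h1 := congrArg (fun e : Equiv.Perm X => e (emb ⟨A w, hAwS⟩)) hi
      simp only [Equiv.Perm.one_apply] at h1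
      rw [hr, act ⟨n, hnH⟩] at h1
      have h2 : B (A w) = A w := congrArg Subtype.val (hembinj h1)
      rw [hBA, hBw, hA2w, mul_eq_right] at h2
      exact hw1 h2
    · rw [hi]; exact dvd_pow_self 2 hpos.ne'

theorem backward [Finite G] (T : Subgroup G) (hT : IsPGroup 2 ↥T)
    (h : Cfsg.Involves (Equiv.Perm (Fin 3)) (↥(Subgroup.normalizer (T : Set G)) ⧸
        (Subgroup.centralizer (T : Set G)).subgroupOf (Subgroup.normalizer (T : Set G)))) :
    Cfsg.Involves (Equiv.Perm (Fin 4)) G := by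
  set N := Subgroup.normalizer (T : Set G) with hN
  set C := (Subgroup.centralizer (T : Set G)).subgroupOf N with hC
  obtain ⟨K0, f, hf⟩ := Inv.exists_hom_of_involves h
  -- the dihedral group of order six
  have hd : Cfsg.Involves (DihedralGroup 3) (↥N ⧸ C) := by
    obtain ⟨e⟩ := H41.nonempty_dihedral_equiv (a := (Equiv.swap 0 1 : Equiv.Perm (Fin 3))) (x := finRotate 3)
      (by decide +kernel) (by decide +kernel)
      (by
        have : orderOf (finRotate 3) = 3 := orderOf_eq_prime (by decide +kernel) (by decide +kernel)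
        rw [this]; decide)
      (by decide +kernel)
    have ho : orderOf (finRotate 3) = 3 := orderOf_eq_prime (by decide +kernel) (by decide +kernel)
    rw [ho] at e
    have htop : (Subgroup.zpowers (Equiv.swap 0 1 : Equiv.Perm (Fin 3)) ⊔ Subgroup.zpowers (finRotate 3)) = ⊤ := by
      apply Subgroup.eq_top_of_card_eq
      rw [Nat.card_congr e.toEquiv, DihedralGroup.nat_card, Nat.card_perm, Nat.card_fin]
      rfl
    let e2 : Equiv.Perm (Fin 3) ≃* DihedralGroup 3 :=
      (Subgroup.topEquiv.symm.trans (MulEquiv.subgroupCongr htop.symm)).trans e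
    exact Inv.involves_of_hom (e2.toMonoidHom.comp f) (e2.surjective.comp hf)
  have : Fact (Nat.Prime 3) := ⟨Nat.prime_three⟩
  obtain ⟨x, y, hx, hy, hy1, hxy⟩ := (S2758.result (by decide : (3 : ℕ) ≠ 2)).2.1 hd
  obtain ⟨k, hk⟩ := hy
  have hk1 : 1 ≤ k := by
    rcases Nat.eq_zero_or_pos k with rfl | h
    · rw [pow_zero, orderOf_eq_one_iff] at hk; exact absurd hk hy1
    · exact h
  set y0 := y ^ 3 ^ (k - 1) with hy0
  have hy0o : orderOf y0 = 3 := by
    rw [hy0, orderOf_pow' _ (by positivity), hk, Nat.gcd_eq_right (pow_dvd_pow 3 (Nat.sub_le k 1)),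
      Nat.pow_div (Nat.sub_le k 1) (by norm_num), show k - (k - 1) = 1 by omega, pow_one]
  have hxy0 : x * y0 * x⁻¹ = y0⁻¹ := by rw [hy0, ← conj_pow, hxy, inv_pow]
  set q := QuotientGroup.mk' C with hq
  set M : Subgroup ↥N := (Subgroup.zpowers y0).comap q with hM
  obtain ⟨x1, hx1⟩ := QuotientGroup.mk'_surjective C x
  have hx1M : x1 ∈ Subgroup.normalizer (M : Set ↥N) := by
    rw [Subgroup.mem_normalizer_iff]
    intro m
    have e : q (x1 * m * x1⁻¹) = x * q m * x⁻¹ := by rw [map_mul, map_mul, map_inv, hq, hx1]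
    have key : ∀ z, z ∈ Subgroup.zpowers y0 → x * z * x⁻¹ ∈ Subgroup.zpowers y0 := by
      rintro _ ⟨i, rfl⟩
      show x * y0 ^ i * x⁻¹ ∈ _
      rw [← conj_zpow, hxy0]
      exact Subgroup.zpow_mem _ (Subgroup.inv_mem _ (Subgroup.mem_zpowers _)) i
    show q m ∈ Subgroup.zpowers y0 ↔ q (x1 * m * x1⁻¹) ∈ Subgroup.zpowers y0
    rw [e]
    refine ⟨key _, fun h => ?_⟩
    obtain ⟨i, hi⟩ := h
    have : q m = y0 ^ (-i) := by
      have h2 : x⁻¹ * y0 * x = y0⁻¹ := by
        calc x⁻¹ * y0 * x = x⁻¹ * (x * y0 * x⁻¹)⁻¹ * x := by rw [hxy0, inv_inv]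
          _ = y0⁻¹ := by group
      calc q m = x⁻¹ * (x * q m * x⁻¹) * x := by group
        _ = x⁻¹ * y0 ^ i * (x⁻¹)⁻¹ := by simp only [← hi]; group
        _ = (x⁻¹ * y0 * (x⁻¹)⁻¹) ^ i := (conj_zpow ..).symm
        _ = y0 ^ (-i) := by rw [show x⁻¹ * y0 * (x⁻¹)⁻¹ = y0⁻¹ from by rw [← h2]; group, inv_zpow']
    rw [this]
    exact Subgroup.zpow_mem _ (Subgroup.mem_zpowers _) _
  obtain ⟨P⟩ := (inferInstance : Nonempty (Sylow 3 ↥M))
  set PN := (P : Subgroup ↥M).map M.subtype with hPN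
  have hs1 : IsSylIn 3 PN M := isSylIn_map_subtype P
  have hs2 := hs1.map_conj x1
  rw [map_conj_eq_self hx1M] at hs2
  obtain ⟨m, hmM, hm⟩ := exists_conj_of_isSylIn hs2 hs1
  rw [map_conj_map_conj] at hm
  set n0 := m * x1 with hn0
  have hn0P : n0 ∈ Subgroup.normalizer (PN : Set ↥N) := mem_normalizer_of_map_conj_eq hm
  obtain ⟨j, hj⟩ : q m ∈ Subgroup.zpowers y0 := hmM
  have hn0q : q n0 * y0 * (q n0)⁻¹ = y0⁻¹ := by
    rw [hn0, map_mul, ← hj, hq, hx1]
    calc y0 ^ j * x * y0 * (y0 ^ j * x)⁻¹ = y0 ^ j * (x * y0 * x⁻¹) * (y0 ^ j)⁻¹ := by group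
      _ = y0⁻¹ := by rw [hxy0]; group
  obtain ⟨e2, o, ho, he⟩ := Nat.exists_eq_two_pow_mul_odd (orderOf_pos n0).ne'
  set n := n0 ^ o with hn
  have hnq : q n * y0 * (q n)⁻¹ = y0⁻¹ := by
    obtain ⟨i, rfl⟩ := ho
    have hsq : Commute (q n0 ^ 2) y0 := by
      show q n0 ^ 2 * y0 = y0 * q n0 ^ 2
      have h1 : q n0 * y0 = y0⁻¹ * q n0 := mul_inv_eq_iff_eq_mul.1 hn0q
      have h2 : q n0 * y0⁻¹ = y0 * q n0 := by
        have h3 := congrArg (fun z => z⁻¹) hn0q
        simp only [conj_inv] at h3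
        rw [inv_inv] at h3
        exact mul_inv_eq_iff_eq_mul.1 h3
      rw [pow_two, mul_assoc, h1, ← mul_assoc, h2, mul_assoc]
    rw [hn, map_pow, pow_succ', pow_mul]
    set z := (q n0 ^ 2) ^ i
    have hz : Commute z y0 := hsq.pow_left i
    calc q n0 * z * y0 * (q n0 * z)⁻¹ = q n0 * (z * y0 * z⁻¹) * (q n0)⁻¹ := by group
      _ = y0⁻¹ := by rw [hz.eq, mul_inv_cancel_right, hn0q]
  obtain ⟨a0, haP, ha0⟩ : ∃ a0 ∈ PN, q a0 = y0 := by
    let g : ↥M →* ↥(Subgroup.zpowers y0) :=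
      { toFun := fun z => ⟨q z.1, z.2⟩
        map_one' := Subtype.ext (map_one q)
        map_mul' := fun _ _ => Subtype.ext (map_mul q _ _) }
    have hgs : Function.Surjective g := fun z => by
      obtain ⟨z', hz'⟩ := QuotientGroup.mk'_surjective C z.1
      exact ⟨⟨z', show q z' ∈ _ by rw [hq, hz']; exact z.2⟩, Subtype.ext hz'⟩
    have hp : IsPGroup 3 ↥(Subgroup.zpowers y0) :=
      IsPGroup.of_card (n := 1) (by rw [Nat.card_zpowers, hy0o, pow_one])
    have htop : ((P.mapSurjective hgs : Sylow 3 _) : Subgroup ↥(Subgroup.zpowers y0)) = ⊤ :=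
      ((P.mapSurjective hgs).is_maximal' (hp.to_subgroup ⊤) le_top).symm
    obtain ⟨z, hz, hze⟩ : (⟨y0, Subgroup.mem_zpowers y0⟩ : ↥(Subgroup.zpowers y0)) ∈ (P : Subgroup ↥M).map g := by
      rw [← Sylow.coe_mapSurjective hgs P, htop]; trivial
    exact ⟨z.1, ⟨z, hz, rfl⟩, congrArg Subtype.val hze⟩
  have hmem : ∀ z : ↥N, q z = 1 ↔ (z : G) ∈ Subgroup.centralizer (T : Set G) := fun z => by
    rw [hq, QuotientGroup.mk'_apply, QuotientGroup.eq_one_iff]; rfl
  refine involves_perm4_of_data T (PN.map N.subtype) n a0 hT ((P.isPGroup'.map _).map _) ⟨a0, haP, rfl⟩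
    (Subgroup.map_subtype_le _) n.2 ?_ ⟨e2, ?_⟩ ?_ ?_ ?_ ?_
  · exact Subgroup.le_normalizer_map N.subtype ⟨n, pow_mem hn0P o, rfl⟩
  · rw [Subgroup.orderOf_coe, hn, orderOf_pow' _ (by rintro rfl; simp at ho), he, Nat.gcd_mul_left_left,
      Nat.mul_div_cancel _ (Nat.pos_of_ne_zero (by rintro rfl; simp at ho))]
  · intro hc
    rw [← hmem, ha0] at hc
    rw [hc, orderOf_one] at hy0o
    omega
  · rintro _ ⟨b, ⟨b', -, rfl⟩, rfl⟩
    obtain ⟨i, hi⟩ := b'.2
    refine ⟨i, ?_⟩
    have := (hmem ((a0 ^ i)⁻¹ * (b' : ↥N))).1 (by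
      rw [map_mul, map_inv, map_zpow, ha0, inv_mul_eq_one]; exact hi)
    simpa using this
  · have := (hmem (a0 ^ 3)).1 (by rw [map_pow, ha0, ← hy0o, pow_orderOf_eq_one])
    simpa using this
  · have := (hmem (n * a0 * n⁻¹ * a0)).1 (by
      rw [map_mul, map_mul, map_mul, map_inv, ha0, hnq, inv_mul_cancel])
    simpa using this

end Cfsg.Agent.H58.SFour
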