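import Mathlib
import Cfsg.Prelude.Def_LieTypeDatum

/-!
# Twisted conjugation in a group containing a quotient of `G` as a normalised subgroup

`j : G →* X`, `x ∈ X` and `θ : G →* G` with `x * j A * x⁻¹ = j (θ A)`.
-/

set_option autoImplicit false

namespace Cfsg.Agent.H58.Twist

variable {G X : Type*} [Group G] [Group X]

/-- `A θ(A) ⋯ θ^{k-1}(A)`. -/
def normProd (θ : G →* G) (A : G) : ℕ → G
  | 0 => 1
  | k + 1 => A * θ (normProd θ A k)

theorem normProd_succ (θ : G →* G) (A : G) (k : ℕ) : normProd θ A (k + 1) = A * θ (normProd θ A k) := rfl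

theorem normProd_one (θ : G →* G) (A : G) : normProd θ A 1 = A := by
  rw [normProd_succ, normProd, map_one, mul_one]

theorem normProd_succ' (θ : G →* G) (A : G) (k : ℕ) :
    normProd θ A (k + 1) = normProd θ A k * θ^[k] A := by
  induction k with
  | zero => simp [normProd]
  | succ k ih =>
    rw [normProd_succ, ih, map_mul, ← mul_assoc, ← normProd_succ, ← Function.iterate_succ_apply' θ k A, ih]

theorem normProd_mul_of_central (θ : G →* G) (z A : G) (hz : ∀ k, θ^[k] z ∈ Subgroup.center G) (k : ℕ) :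
    normProd θ (z * A) k = normProd θ z k * normProd θ A k ∧ normProd θ z k ∈ Subgroup.center G := by
  induction k with
  | zero => simp [normProd]
  | succ k ih =>
    have hc := hz k
    refine ⟨?_, by rw [normProd_succ']; exact mul_mem ih.2 hc⟩
    rw [normProd_succ', normProd_succ', normProd_succ', ih.1,
      show θ^[k] (z * A) = θ^[k] z * θ^[k] A from iterate_map_mul θ k z A]
    rw [show normProd θ z k * normProd θ A k * (θ^[k] z * θ^[k] A) =
      normProd θ z k * (normProd θ A k * θ^[k] z) * θ^[k] A by group, Subgroup.mem_center_iff.mp hc]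
    group

variable (j : G →* X) (θ : G →* G) (x : X)

theorem mul_pow_eq (hx : ∀ A, x * j A * x⁻¹ = j (θ A)) (A : G) (k : ℕ) :
    (j A * x) ^ k = j (normProd θ A k) * x ^ k := by
  induction k with
  | zero => simp [normProd]
  | succ k ih =>
    rw [pow_succ', ih, pow_succ' x, normProd_succ, map_mul, ← hx]
    group

theorem conj_eq (hx : ∀ A, x * j A * x⁻¹ = j (θ A)) (B : G) :
    j B * x * (j B)⁻¹ = j (B * θ B⁻¹) * x := by
  rw [map_mul, ← hx, map_inv]
  group

theorem commutes_iff (hx : ∀ A, x * j A * x⁻¹ = j (θ A)) (B : G) :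
    j B ∈ Subgroup.centralizer {x} ↔ j (θ B) = j B := by
  rw [Subgroup.mem_centralizer_singleton_iff, ← hx, mul_inv_eq_iff_eq_mul]
  exact eq_comm

theorem range_inf_centralizer (hx : ∀ A, x * j A * x⁻¹ = j (θ A)) (C : Subgroup G)
    (hC : ∀ B, B ∈ C ↔ j (θ B) = j B) : j.range ⊓ Subgroup.centralizer {x} = C.map j := by
  ext y
  constructor
  · rintro ⟨⟨B, rfl⟩, hy⟩
    exact ⟨B, (hC B).mpr ((commutes_iff j θ x hx B).mp hy), rfl⟩
  · rintro ⟨B, hB, rfl⟩
    exact ⟨⟨B, rfl⟩, (commutes_iff j θ x hx B).mpr ((hC B).mp hB)⟩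

/-! ### Transport along conjugation -/

variable (α : X) {H K : Subgroup X}

theorem conjUnder_iff [hH : H.Normal] (y z : X) :
    Cfsg.IsConjUnder H y z ↔ Cfsg.IsConjUnder H (α * y * α⁻¹) (α * z * α⁻¹) := by
  constructor
  · rintro ⟨h, hh, rfl⟩
    exact ⟨α * h * α⁻¹, hH.conj_mem h hh α, by group⟩
  · rintro ⟨h, hh, e⟩
    refine ⟨α⁻¹ * h * α, ?_, ?_⟩
    · simpa using hH.conj_mem h hh α⁻¹
    · calc z = α⁻¹ * (α * z * α⁻¹) * α := by group
        _ = _ := by rw [e]; group

theorem orderOf_conj (y : X) : orderOf (α * y * α⁻¹) = orderOf y := by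
  rw [← MulAut.conj_apply]
  exact MulEquiv.orderOf_eq (MulAut.conj α) y

theorem splitClassCount_conj [H.Normal] [K.Normal] (y : X) :
    Cfsg.splitClassCount H K (α * y * α⁻¹) = Cfsg.splitClassCount H K y :=
  (Nat.card_congr (Quot.congr
    (Equiv.subtypeEquiv (MulAut.conj α).toEquiv fun z => conjUnder_iff α y z)
    (fun z w => conjUnder_iff α z.1 w.1))).symm

theorem map_centralizer_conj (y : X) :
    (Subgroup.centralizer {y}).map (MulAut.conj α).toMonoidHom = Subgroup.centralizer {α * y * α⁻¹} := by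
  ext z
  rw [Subgroup.mem_map_equiv, Subgroup.mem_centralizer_singleton_iff, Subgroup.mem_centralizer_singleton_iff,
    MulAut.conj_symm_apply]
  constructor <;> intro h
  · calc z * (α * y * α⁻¹) = α * ((α⁻¹ * z * α) * y) * α⁻¹ := by group
      _ = _ := by rw [h]; group
  · calc α⁻¹ * z * α * y = α⁻¹ * (z * (α * y * α⁻¹)) * α := by group
      _ = _ := by rw [h]; group

theorem nonempty_centralizer_conj [hH : H.Normal] (y : X) :
    Nonempty (↥(H ⊓ Subgroup.centralizer {y}) ≃* ↥(H ⊓ Subgroup.centralizer {α * y * α⁻¹})) := by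
  refine ⟨((MulAut.conj α).subgroupMap _).trans (MulEquiv.subgroupCongr ?_)⟩
  show Subgroup.map (MulAut.conj α).toMonoidHom _ = _
  rw [Subgroup.map_inf _ _ _ (MulAut.conj α).injective, map_centralizer_conj]
  congr 1
  ext z
  rw [Subgroup.mem_map_equiv, MulAut.conj_symm_apply]
  exact ⟨fun h => by simpa [mul_assoc] using hH.conj_mem _ h α, fun h => by simpa using hH.conj_mem z h α⁻¹⟩

/-! ### Counting classes -/

theorem splitClassCount_eq_relIndex [hK : K.Normal] (hKH : K ≤ H) (y : X) :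
    Cfsg.splitClassCount H K y = (K ⊔ (H ⊓ Subgroup.centralizer {y})).relIndex H := by
  set M := K ⊔ (H ⊓ Subgroup.centralizer {y}) with hM
  let f : ↥H → Quot (fun a b : {z : X // Cfsg.IsConjUnder H y z} => Cfsg.IsConjUnder K a.1 b.1) :=
    fun h => Quot.mk _ ⟨h.1 * y * h.1⁻¹, h.1, h.2, rfl⟩
  have heqv : Equivalence (fun a b : {z : X // Cfsg.IsConjUnder H y z} => Cfsg.IsConjUnder K a.1 b.1) := by
    refine ⟨fun a => ⟨1, one_mem K, by simp⟩, ?_, ?_⟩
    · rintro a b ⟨k, hk, e⟩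
      exact ⟨k⁻¹, inv_mem hk, by rw [e]; group⟩
    · rintro a b c ⟨k, hk, e⟩ ⟨l, hl, e'⟩
      exact ⟨l * k, mul_mem hl hk, by rw [e', e]; group⟩
  have hf : ∀ a b : ↥H, f a = f b ↔ (a⁻¹ * b : ↥H) ∈ M.subgroupOf H := by
    intro a b
    refine Iff.trans ⟨fun h => heqv.eqvGen_iff.mp (Quot.eqvGen_exact h), fun h => Quot.sound h⟩ ?_
    rw [Subgroup.mem_subgroupOf, Subgroup.coe_mul, Subgroup.coe_inv]
    constructor
    · rintro ⟨k, hk, e⟩
      have hc : (k * a.1)⁻¹ * b.1 ∈ H ⊓ Subgroup.centralizer {y} := by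
        refine Subgroup.mem_inf.mpr ⟨mul_mem (inv_mem (mul_mem (hKH hk) a.2)) b.2, Subgroup.mem_centralizer_singleton_iff.mpr ?_⟩
        change b.1 * y * b.1⁻¹ = k * (a.1 * y * a.1⁻¹) * k⁻¹ at e
        calc (k * a.1)⁻¹ * b.1 * y = (k * a.1)⁻¹ * (b.1 * y * b.1⁻¹) * b.1 := by group
          _ = _ := by rw [e]; group
      have h1 : a.1⁻¹ * k * a.1 ∈ K := by simpa using hK.conj_mem k hk a.1⁻¹
      rw [show a.1⁻¹ * b.1 = (a.1⁻¹ * k * a.1) * ((k * a.1)⁻¹ * b.1) by group]
      exact Subgroup.mul_mem_sup h1 hc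
    · intro h
      obtain ⟨k, hk, c, hc, e⟩ := Subgroup.mem_sup_of_normal_left.mp h
      refine ⟨a.1 * k * a.1⁻¹, hK.conj_mem k hk a.1, ?_⟩
      change b.1 * y * b.1⁻¹ = _
      have hb : b.1 = a.1 * (k * c) := by rw [e]; group
      have hcy := Subgroup.mem_centralizer_singleton_iff.mp hc.2
      rw [hb, show a.1 * (k * c) * y * (a.1 * (k * c))⁻¹ = a.1 * k * (c * y) * c⁻¹ * k⁻¹ * a.1⁻¹ by group, hcy]
      group
  unfold Cfsg.splitClassCount Subgroup.relIndex Subgroup.index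
  refine (Nat.card_congr (Equiv.ofBijective
    (Quotient.lift f fun a b hab => (hf a b).mpr (QuotientGroup.leftRel_apply.mp hab)) ⟨?_, ?_⟩)).symm
  · intro a b
    induction a, b using Quotient.inductionOn₂ with | _ a b
    intro h
    exact Quotient.sound (QuotientGroup.leftRel_apply.mpr ((hf a b).mp h))
  · rintro ⟨z, h, hh, rfl⟩
    exact ⟨QuotientGroup.mk ⟨h, hh⟩, rfl⟩

end Cfsg.Agent.H58.Twist
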