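import Mathlib
import Cfsg.Agent.H56.AutPSL
import Cfsg.Agent.H58.Twist

/-!
# Finite fields with an automorphism `σ`: fixed field, norms, semilinear descent
-/

set_option autoImplicit false

namespace Cfsg.Agent.H58.Descent

open Matrix Cfsg.Agent.H56 Cfsg.Agent.H58.Twist

variable {F : Type*} [Field F] (σ : F ≃+* F)

/-- The action of `σ` on the multiplicative group. -/
def umap : Fˣ →* Fˣ := Units.map σ.toRingHom.toMonoidHom

theorem umap_coe (c : Fˣ) : (umap σ c : F) = σ c := rfl

theorem umap_iterate (k : ℕ) (c : Fˣ) : ((umap σ)^[k] c : F) = (σ ^ k) (c : F) := by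
  induction k generalizing c with
  | zero => rfl
  | succ k ih => rw [Function.iterate_succ_apply, ih, umap_coe]; rfl

variable {n : ℕ}

theorem glMap_iterate (k : ℕ) (A : GL (Fin n) F) :
    ((glMap σ)^[k] A : Matrix (Fin n) (Fin n) F) = (A : Matrix (Fin n) (Fin n) F).map (σ ^ k) := by
  induction k generalizing A with
  | zero => exact (Matrix.map_id _).symm
  | succ k ih => rw [Function.iterate_succ_apply, ih, glMap_coe, Matrix.map_map]; rfl

theorem glMap_scalar (c : Fˣ) :
    glMap σ (GeneralLinearGroup.scalar (Fin n) c) = GeneralLinearGroup.scalar (Fin n) (umap σ c) :=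
  Units.ext (by
    rw [glMap_coe, GeneralLinearGroup.coe_scalar, GeneralLinearGroup.coe_scalar]
    ext i j
    simp [Matrix.scalar_apply, Matrix.diagonal, apply_ite σ, umap_coe])

theorem normProd_scalar (c : Fˣ) (k : ℕ) :
    normProd (glMap σ) (GeneralLinearGroup.scalar (Fin n) c) k =
      GeneralLinearGroup.scalar (Fin n) (normProd (umap σ) c k) := by
  induction k with
  | zero => exact (map_one _).symm
  | succ k ih => rw [normProd_succ, normProd_succ, ih, glMap_scalar, map_mul]

theorem scalar_mem_center (c : Fˣ) :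
    GeneralLinearGroup.scalar (Fin n) c ∈ Subgroup.center (GL (Fin n) F) :=
  Subgroup.mem_center_iff.mpr fun g => (GeneralLinearGroup.scalar_commute c g).symm

theorem glMap_scalar_iterate (c : Fˣ) (k : ℕ) :
    (glMap σ)^[k] (GeneralLinearGroup.scalar (Fin n) c) = GeneralLinearGroup.scalar (Fin n) ((umap σ)^[k] c) := by
  induction k generalizing c with
  | zero => rfl
  | succ k ih => rw [Function.iterate_succ_apply, Function.iterate_succ_apply, glMap_scalar, ih]

theorem normProd_scalar_mul (c : Fˣ) (A : GL (Fin n) F) (k : ℕ) :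
    normProd (glMap σ) (GeneralLinearGroup.scalar (Fin n) c * A) k =
      GeneralLinearGroup.scalar (Fin n) (normProd (umap σ) c k) * normProd (glMap σ) A k := by
  rw [(normProd_mul_of_central (glMap σ) _ A
    (fun i => glMap_scalar_iterate σ c i ▸ scalar_mem_center _) k).1, normProd_scalar]

theorem normProd_units_eq_prod (c : Fˣ) (k : ℕ) :
    ((normProd (umap σ) c k : Fˣ) : F) = ∏ i ∈ Finset.range k, (σ ^ i) (c : F) := by
  induction k with
  | zero => rfl
  | succ k ih => rw [normProd_succ', Finset.prod_range_succ, Units.val_mul, ih, umap_iterate]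

/-! ### The fixed field -/

/-- The subfield of the elements fixed by `σ`. -/
noncomputable abbrev fixedField : Subfield F := FixedPoints.subfield (Subgroup.zpowers σ) F

theorem mem_fixedField {x : F} : x ∈ fixedField σ ↔ σ x = x := by
  constructor
  · intro h; exact h ⟨σ, Subgroup.mem_zpowers σ⟩
  · rintro h ⟨g, k, rfl⟩
    show (σ ^ k : F ≃+* F) x = x
    have : σ ∈ MulAction.stabilizer (F ≃+* F) x := h
    exact Subgroup.zpow_mem _ this k

variable [Fintype F]

theorem finite_ringEquiv : Finite (F ≃+* F) :=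
  Finite.of_injective (fun e => (e : F → F)) DFunLike.coe_injective

theorem orderOf_pos' : 0 < orderOf σ := by
  have := finite_ringEquiv (F := F)
  exact orderOf_pos σ

theorem pow_orderOf_apply (x : F) : (σ ^ orderOf σ) x = x := by rw [pow_orderOf_eq_one]; rfl

theorem card_eq_pow :
    Fintype.card F = Nat.card (fixedField σ) ^ orderOf σ := by
  have := finite_ringEquiv (F := F)
  letI : Fintype (Subgroup.zpowers σ) := Fintype.ofFinite _
  have h := FixedPoints.finrank_eq_card (Subgroup.zpowers σ) F
  rw [← Nat.card_eq_fintype_card (α := Subgroup.zpowers σ), Nat.card_zpowers] at h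
  rw [← h, ← Nat.card_eq_fintype_card]
  exact Module.natCard_eq_pow_finrank

theorem orderOf_dvd_of_card {p f : ℕ} [Fact p.Prime] (hF : Fintype.card F = p ^ f) :
    orderOf σ ∣ f ∧ Nat.card (fixedField σ) = p ^ (f / orderOf σ) := by
  have h := card_eq_pow σ
  rw [hF] at h
  have hp : p.Prime := Fact.out
  obtain ⟨e, -, he⟩ := (Nat.dvd_prime_pow hp).mp (h ▸ dvd_pow_self _ (orderOf_pos' σ).ne' :
    Nat.card (fixedField σ) ∣ p ^ f)
  rw [he, ← pow_mul] at h
  have hf : f = e * orderOf σ := Nat.pow_right_injective hp.two_le h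
  exact ⟨⟨e, by rw [hf, mul_comm]⟩, by rw [he, hf, Nat.mul_div_cancel _ (orderOf_pos' σ)]⟩

/-- Every fixed unit is a norm. -/
theorem exists_normProd_eq {c : Fˣ} (hc : σ (c : F) = c) :
    ∃ d : Fˣ, normProd (umap σ) d (orderOf σ) = c := by
  have := finite_ringEquiv (F := F)
  letI : Fintype (Subgroup.zpowers σ) := Fintype.ofFinite _
  let E := FixedPoints.subfield (Subgroup.zpowers σ) F
  obtain ⟨d, hd⟩ := FiniteField.norm_surjective E F ⟨c, (mem_fixedField σ).mpr hc⟩
  have hd0 : d ≠ 0 := by
    rintro rfl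
    rw [Algebra.norm_zero] at hd
    exact c.ne_zero (congrArg Subtype.val hd).symm
  refine ⟨Units.mk0 d hd0, Units.ext ?_⟩
  have h := Algebra.norm_eq_prod_automorphisms E d
  rw [hd] at h
  rw [normProd_units_eq_prod]
  change (c : F) = _ at h
  rw [h, ← Fin.prod_univ_eq_prod_range (fun i => (σ ^ i) (Units.mk0 d hd0 : F))]
  refine Fintype.prod_equiv ((finEquivZPowers (isOfFinOrder_of_finite σ)).trans
    (FixedPoints.toAlgAutMulEquiv (Subgroup.zpowers σ) F).toEquiv) _ _ fun i => ?_
  rfl

/-- Semilinear descent: a `σ`-semilinear map of order `orderOf σ` has a basis of fixed vectors. -/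
theorem descent {A : GL (Fin n) F} (hA : normProd (glMap σ) A (orderOf σ) = 1) :
    ∃ B : GL (Fin n) F, A = B * glMap σ B⁻¹ := by
  have := finite_ringEquiv (F := F)
  let T : (Fin n → F) → (Fin n → F) := fun v => (A : Matrix (Fin n) (Fin n) F) *ᵥ fun i => σ (v i)
  have hT : ∀ k v, T^[k] v =
      ((normProd (glMap σ) A k : GL (Fin n) F) : Matrix (Fin n) (Fin n) F) *ᵥ fun i => (σ ^ k) (v i) := by
    intro k
    induction k with
    | zero => intro v; simp [normProd]
    | succ k ih =>
      intro v
      rw [Function.iterate_succ_apply', ih, normProd_succ, Units.val_mul, glMap_coe, ← mulVec_mulVec]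
      show (A : Matrix (Fin n) (Fin n) F) *ᵥ _ = _
      congr 1
      funext i
      simp only [mulVec, dotProduct, map_sum, map_mul, Matrix.map_apply]
      rw [pow_succ']
      rfl
  set r := orderOf σ with hr
  have hTr : ∀ v, T^[r] v = v := by
    intro v
    rw [hT, hA, Units.val_one, one_mulVec, hr]
    funext i
    exact pow_orderOf_apply σ (v i)
  have hspan : Submodule.span F {v | T v = v} = ⊤ := by
    by_contra hne
    obtain ⟨g, hg0, hg⟩ := Submodule.exists_le_ker_of_lt_top _ (lt_top_iff_ne_top.mpr hne)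
    apply hg0
    refine LinearMap.ext fun v => ?_
    have hli : LinearIndependent F (fun i : Fin r => ((σ ^ (i : ℕ) : F ≃+* F) : F → F)) := by
      refine (linearIndependent_monoidHom F F).comp (fun i : Fin r => ((σ ^ (i : ℕ) : F ≃+* F) : F →* F)) ?_
      intro i i' h
      exact Fin.ext (pow_injOn_Iio_orderOf i.2 i'.2 (RingEquiv.ext fun x => DFunLike.congr_fun h x))
    have hsum : ∀ l : F, g (∑ i ∈ Finset.range r, T^[i] (l • v)) = 0 := by
      intro l
      refine LinearMap.mem_ker.mp (hg (Submodule.subset_span ?_))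
      show T (∑ i ∈ Finset.range r, T^[i] (l • v)) = _
      have hadd : ∀ (s : Finset ℕ) (u : ℕ → Fin n → F), T (∑ i ∈ s, u i) = ∑ i ∈ s, T (u i) := by
        intro s u
        show (A : Matrix (Fin n) (Fin n) F) *ᵥ _ = _
        rw [show (fun j => σ ((∑ i ∈ s, u i) j)) = ∑ i ∈ s, fun j => σ (u i j) from by
          funext j; simp only [Finset.sum_apply, map_sum], mulVec_sum]
      rw [hadd]
      simp only [← Function.iterate_succ_apply' T]
      have h1 := Finset.sum_range_succ' (fun i => T^[i] (l • v)) r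
      rw [Finset.sum_range_succ, hTr] at h1
      exact add_right_cancel h1.symm
    have hcoef := Fintype.linearIndependent_iff.mp hli (fun i => g (T^[(i : ℕ)] v)) ?_ ⟨0, orderOf_pos' σ⟩
    · exact hcoef
    · funext l
      rw [Finset.sum_apply, Pi.zero_apply, ← hsum l, map_sum, ← Fin.sum_univ_eq_sum_range]
      refine Finset.sum_congr rfl fun i _ => ?_
      rw [Pi.smul_apply, smul_eq_mul, mul_comm, ← smul_eq_mul, ← map_smul, hT, hT]
      congr 1
      rw [← mulVec_smul]
      congr 1
      funext k
      simp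
  obtain ⟨b, hbs, hb, hli⟩ := exists_linearIndependent F {v : Fin n → F | T v = v}
  rw [hspan] at hb
  let bas : Module.Basis b F (Fin n → F) := Module.Basis.mk hli (by rw [Subtype.range_coe]; exact hb.ge)
  haveI : Fintype b := Fintype.ofFinite b
  let e : b ≃ Fin n := Fintype.equivFinOfCardEq (by rw [← Module.finrank_eq_card_basis bas]; simp)
  let bb := bas.reindex e
  let M : Matrix (Fin n) (Fin n) F := fun i k => bb k i
  have hM : IsUnit M := by
    rw [← Matrix.linearIndependent_cols_iff_isUnit]
    exact bb.linearIndependent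
  refine ⟨hM.unit, ?_⟩
  rw [map_inv, eq_mul_inv_iff_mul_eq]
  refine Units.ext ?_
  rw [Units.val_mul, glMap_coe]
  show (A : Matrix (Fin n) (Fin n) F) * M.map σ = M
  ext i k
  have hfix : T (bb k) = bb k := by
    have : bb k = ((e.symm k : b) : Fin n → F) := by simp [bb, bas]
    rw [this]
    exact hbs (e.symm k).2
  exact congrFun hfix i

theorem descent_units {c : Fˣ} (hc : normProd (umap σ) c (orderOf σ) = 1) :
    ∃ b : Fˣ, c = b * (umap σ b)⁻¹ := by
  have h : normProd (glMap σ) (GeneralLinearGroup.scalar (Fin 1) c) (orderOf σ) = 1 := by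
    rw [normProd_scalar, hc, map_one]
  obtain ⟨B, hB⟩ := descent σ h
  rw [map_inv, eq_mul_inv_iff_mul_eq] at hB
  refine ⟨GeneralLinearGroup.det B, ?_⟩
  rw [eq_mul_inv_iff_mul_eq]
  refine Units.ext ?_
  have h00 := congrArg (fun M : GL (Fin 1) F => (M : Matrix (Fin 1) (Fin 1) F) 0 0) hB
  simp [glMap_coe, Matrix.mul_apply, Matrix.scalar_apply] at h00
  simpa [umap_coe, Matrix.det_fin_one] using h00

theorem umap_normProd (c : Fˣ) : umap σ (normProd (umap σ) c (orderOf σ)) = normProd (umap σ) c (orderOf σ) := by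
  set r := orderOf σ
  have h : normProd (umap σ) c (r + 1) = c * normProd (umap σ) c r := by
    rw [normProd_succ', mul_comm]
    congr 1
    exact Units.ext (by rw [umap_iterate, pow_orderOf_apply])
  exact mul_left_cancel ((normProd_succ (umap σ) c r).symm.trans h)

/-- If `σ` fixes `A` up to a scalar, a scalar multiple of `A` is fixed by `σ`. -/
theorem exists_scalar_fixed {A : GL (Fin n) F} (hn : 0 < n) {c : Fˣ}
    (h : glMap σ A = GeneralLinearGroup.scalar (Fin n) c * A) :
    ∃ b : Fˣ, glMap σ (GeneralLinearGroup.scalar (Fin n) b * A) = GeneralLinearGroup.scalar (Fin n) b * A := by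
  have hk : ∀ k, (glMap σ)^[k] A = GeneralLinearGroup.scalar (Fin n) (normProd (umap σ) c k) * A := by
    intro k
    induction k with
    | zero => simp [normProd]
    | succ k ih =>
      rw [Function.iterate_succ_apply', ih, map_mul, glMap_scalar, h, normProd_succ, ← mul_assoc, ← map_mul,
        mul_comm c]
  have hr := hk (orderOf σ)
  rw [show (glMap σ)^[orderOf σ] A = A from Units.ext (by
    rw [glMap_iterate, pow_orderOf_eq_one]; exact Matrix.map_id _)] at hr
  have hc : normProd (umap σ) c (orderOf σ) = 1 := by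
    have h1 := right_eq_mul.mp hr
    haveI : Nonempty (Fin n) := ⟨⟨0, hn⟩⟩
    refine Units.ext ?_
    have := congrArg (fun M : GL (Fin n) F => (M : Matrix (Fin n) (Fin n) F) ⟨0, hn⟩ ⟨0, hn⟩) h1
    simpa [Matrix.scalar_apply] using this
  obtain ⟨b, hb⟩ := descent_units σ hc
  refine ⟨b, ?_⟩
  rw [map_mul, glMap_scalar, h, ← mul_assoc, ← map_mul, hb, mul_left_comm, mul_inv_cancel, mul_one]

end Cfsg.Agent.H58.Descent
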