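import Mathlib
import Cfsg.Agent.Orthogonal.Eichler

/-! In dimension at least five only scalars commute with every Eichler transformation. -/

set_option autoImplicit false

namespace Cfsg.Agent.H58.OmegaScalar

open QuadraticMap Module Cfsg.Agent.Orthogonal

variable {F V : Type*} [Field F] [AddCommGroup V] [Module F V] [FiniteDimensional F V]
variable {Q : QuadraticForm F V}

/-- `E(u,w) - 1`. -/
def nMap (Q : QuadraticForm F V) (u w x : V) : V :=
  (polar Q w x - Q w * polar Q u x) • u - polar Q u x • w

theorem commute_nMap {X : V →ₗ[F] V}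
    (hX : ∀ u w : V, ∀ (hu : Q u = 0) (hw : polar Q u w = 0) (x : V),
      X ((sie u w hu hw : V ≃ₗ[F] V) x) = (sie u w hu hw : V ≃ₗ[F] V) (X x))
    {u w : V} (hu : Q u = 0) (hw : polar Q u w = 0) (x : V) : X (nMap Q u w x) = nMap Q u w (X x) := by
  have h := hX u w hu hw x
  rw [sie_app, sie_app, map_sub, map_add, add_sub_assoc, add_sub_assoc] at h
  rw [nMap, nMap, map_sub]
  exact add_left_cancel h

variable [Finite F]

theorem exists_scalar (hQ : Nondeg Q) (hn : 5 ≤ finrank F V) {X : V →ₗ[F] V}
    (hX : ∀ u w : V, ∀ (hu : Q u = 0) (hw : polar Q u w = 0) (x : V),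
      X ((sie u w hu hw : V ≃ₗ[F] V) x) = (sie u w hu hw : V ≃ₗ[F] V) (X x)) :
    ∃ l : F, ∀ x, X x = l • x := by
  obtain ⟨u, hu0, hu⟩ := hQ.exists_singular (by omega)
  obtain ⟨f, hf, huf⟩ := hQ.exists_partner hu0 hu
  have hW := hQ.nondeg_hyperbolic_perp hu hf huf
  have hWr := hQ.finrank_hyperbolic_perp hu hf huf
  set W := perp Q (Submodule.span F {u, f})
  have hperp : ∀ z : W, polar Q u z = 0 ∧ polar Q f z = 0 := fun z => (mem_perp_span_pair Q).1 z.2
  have line : ∀ {u f : V}, Q u = 0 → polar Q u f = 1 →
      (∀ z : W, polar Q u z = 0 ∧ polar Q f z = 0) → ∃ a : F, X u = a • u := by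
    intro u f hu huf hp
    have hkey : ∀ w : W, w ≠ 0 → ∃ a b : F, X u = a • u - b • (w : V) := by
      intro w hw0
      obtain ⟨y, hy⟩ := hW.exists_polar_eq hw0 1
      rw [polar_restr] at hy
      have h := commute_nMap hX hu (hp w).1 (y : V)
      simp only [nMap, (hp y).1, hy, mul_zero, sub_zero, one_smul, zero_smul] at h
      exact ⟨_, _, h⟩
    have : Nontrivial W := (Module.finrank_pos_iff (R := F)).1 (by omega)
    obtain ⟨w, hw0⟩ := exists_ne (0 : W)
    obtain ⟨w', hw'⟩ : ∃ w' : W, w' ∉ Submodule.span F {w} := by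
      by_contra hc
      push Not at hc
      have h1 : (⊤ : Submodule F W) ≤ Submodule.span F {w} := fun z _ => hc z
      have := Submodule.finrank_mono h1
      rw [finrank_top, finrank_span_singleton hw0] at this
      omega
    have hw'0 : w' ≠ 0 := fun h => hw' (h ▸ Submodule.zero_mem _)
    obtain ⟨a, b, h1⟩ := hkey w hw0
    obtain ⟨a', b', h2⟩ := hkey w' hw'0
    have haa : a = a' := by
      have := congrArg (fun z => polar Q f z) (h1.symm.trans h2)
      simp only [polar_sub_right, polar_smul_right', (hp w).2, (hp w').2, polar_comm (⇑Q) f u, huf] at this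
      simpa using this
    subst haa
    rw [h1] at h2
    have hb : b • (w : V) = b' • (w' : V) := sub_right_injective h2
    have hb' : b' = 0 := by
      by_contra hb0
      refine hw' (Submodule.mem_span_singleton.mpr ⟨b'⁻¹ * b, Subtype.ext ?_⟩)
      rw [Submodule.coe_smul, mul_smul, hb, inv_smul_smul₀ hb0]
    rw [hb', zero_smul] at hb
    exact ⟨a, by rw [h1, hb, sub_zero]⟩
  obtain ⟨l, hl⟩ := line hu huf hperp
  obtain ⟨m, hm⟩ := line hf (by rwa [polar_comm] : polar Q f u = 1) fun z => (hperp z).symm
  have hwm : ∀ w : W, X (w : V) = m • (w : V) + (Q (w : V) * (m - l)) • u := by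
    intro w
    have h := commute_nMap hX hu (hperp w).1 f
    simp only [hm, nMap, polar_smul_right', huf, mul_one, polar_comm (⇑Q) (w : V) f, (hperp w).2, mul_zero,
      zero_sub, map_sub, map_smul, hl, one_smul] at h
    linear_combination (norm := module) (-1 : F) • h
  have hml : m = l := by
    have : Nontrivial W := (Module.finrank_pos_iff (R := F)).1 (by omega)
    obtain ⟨w, hw0⟩ := exists_ne (0 : W)
    obtain ⟨y, hy⟩ := hW.exists_polar_eq hw0 1
    rw [polar_restr] at hy
    have hfu : polar Q f u = 1 := by rwa [polar_comm]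
    have h := commute_nMap hX hf (hperp w).2 u
    simp only [hl, nMap, polar_smul_right', hfu, mul_one, polar_comm (⇑Q) (w : V) u, (hperp w).1, mul_zero,
      zero_sub, map_sub, map_smul, hm, one_smul, hwm w] at h
    have h2 := congrArg (fun z => polar Q (y : V) z) h
    simp only [polar_sub_right, polar_add_right, polar_neg_right, polar_smul_right', polar_comm (⇑Q) (y : V) f, (hperp y).2,
      polar_comm (⇑Q) (y : V) u, (hperp y).1, polar_comm (⇑Q) (y : V) (w : V), hy] at h2
    linear_combination -h2
  refine ⟨l, fun x => ?_⟩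
  have hfu : polar Q f u = 1 := by rwa [polar_comm]
  have hw : x - polar Q f x • u - polar Q u x • f ∈ W := by
    rw [mem_perp_span_pair]
    simp only [polar_sub_right, polar_smul_right', polar_self', hu, hf, huf, hfu]
    constructor <;> ring
  have h := hwm ⟨_, hw⟩
  rw [hml, sub_self, mul_zero, zero_smul, add_zero] at h
  simp only [map_sub, map_smul, hl, hm, hml] at h
  linear_combination (norm := module) h

end Cfsg.Agent.H58.OmegaScalar
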