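import Mathlib
import Cfsg.Prelude.Def_LieTypeDatum
import Cfsg.Agent.Orthogonal.Det
import Cfsg.Agent.H58.OmegaScalar

/-!
# Similitudes acting on `PΩ(Q)`
-/

set_option autoImplicit false

namespace Cfsg.Agent.H58.OrthoAut

open Matrix Module Cfsg.Agent.Orthogonal
open QuadraticMap (polar)

variable {F : Type*} [Field F] {ι : Type} [Fintype ι] [DecidableEq ι] {Q : QuadraticForm F (ι → F)}

/-- The similitude group. -/
abbrev sim (Q : QuadraticForm F (ι → F)) : Subgroup (GL ι F) := Cfsg.Geo.quadSimilarityGroup (F := F) ⇑Q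

theorem conj_mem {g s : GL ι F} (hg : g ∈ sim Q) (hs : s ∈ Cfsg.isometryGroup F ⇑Q) :
    g * s * g⁻¹ ∈ Cfsg.isometryGroup F ⇑Q := by
  obtain ⟨c, hc⟩ := hg
  refine (mem_isometryGroup_iff _ _).2 fun v => ?_
  have hs' := (mem_isometryGroup_iff _ _).1 hs
  rw [Units.val_mul, Units.val_mul, ← mulVec_mulVec, ← mulVec_mulVec, hc, hs', ← hc, mulVec_mulVec,
    ← Units.val_mul, mul_inv_cancel, Units.val_one, one_mulVec]

/-- Conjugation by a similitude on the isometry group. -/
def conjIso (g : sim Q) : Cfsg.isometryGroup F ⇑Q ≃* Cfsg.isometryGroup F ⇑Q where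
  toFun s := ⟨(g : GL ι F) * s * (g : GL ι F)⁻¹, conj_mem g.2 s.2⟩
  invFun s := ⟨(g : GL ι F)⁻¹ * s * (g : GL ι F), by simpa using conj_mem (inv_mem g.2) s.2⟩
  left_inv s := Subtype.ext (by simp [mul_assoc])
  right_inv s := Subtype.ext (by simp [mul_assoc])
  map_mul' s t := Subtype.ext (by simp [mul_assoc])

theorem map_omega (g : sim Q) :
    (Cfsg.Omega F ⇑Q).map (conjIso g).toMonoidHom = Cfsg.Omega F ⇑Q := by
  simp only [Cfsg.Omega, commutator_def, Subgroup.map_commutator]
  rw [Subgroup.map_top_of_surjective _ (conjIso g).surjective]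

/-- Conjugation by a similitude on `Ω`. -/
noncomputable def omegaConj (g : sim Q) : Cfsg.Omega F ⇑Q ≃* Cfsg.Omega F ⇑Q :=
  ((conjIso g).subgroupMap _).trans (MulEquiv.subgroupCongr (map_omega g))

theorem omegaConj_val (g : sim Q) (s : Cfsg.Omega F ⇑Q) :
    (((omegaConj g s : Cfsg.isometryGroup F ⇑Q)) : GL ι F) = (g : GL ι F) * s.1.1 * (g : GL ι F)⁻¹ := rfl

theorem center_map {G : Type*} [Group G] (e : G ≃* G) : (Subgroup.center G).map e.toMonoidHom = Subgroup.center G := by
  ext x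
  rw [Subgroup.mem_map_equiv, Subgroup.mem_center_iff, Subgroup.mem_center_iff]
  exact ⟨fun h y => e.symm.injective (by simpa using h (e.symm y)),
    fun h y => e.injective (by simpa using h (e y))⟩

/-- The automorphism of `PΩ(Q)` induced by a similitude. -/
noncomputable def simAut (Q : QuadraticForm F (ι → F)) : sim Q →* MulAut (Cfsg.POmega F ⇑Q) where
  toFun g := QuotientGroup.congr _ _ (omegaConj g) (center_map _)
  map_one' := MulEquiv.ext fun x => by
    induction x using QuotientGroup.induction_on with | _ s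
    exact congrArg QuotientGroup.mk (Subtype.ext (Subtype.ext (by
      change ((1 : sim Q) : GL ι F) * s.1.1 * ((1 : sim Q) : GL ι F)⁻¹ = s.1.1
      simp)))
  map_mul' g h := MulEquiv.ext fun x => by
    induction x using QuotientGroup.induction_on with | _ s
    refine congrArg QuotientGroup.mk (Subtype.ext (Subtype.ext ?_))
    change ((g * h : sim Q) : GL ι F) * s.1.1 * ((g * h : sim Q) : GL ι F)⁻¹
      = (g : GL ι F) * ((h : GL ι F) * s.1.1 * (h : GL ι F)⁻¹) * (g : GL ι F)⁻¹
    simp [mul_assoc]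

theorem simAut_mk (g : sim Q) (s : Cfsg.Omega F ⇑Q) :
    simAut Q g (QuotientGroup.mk s) = QuotientGroup.mk (omegaConj g s) := rfl

theorem isInduced_simAut (g : sim Q) :
    Cfsg.IsInducedBySemilinearPOmega ⇑Q (g : GL ι F) (RingEquiv.refl F) (simAut Q g) := by
  intro s s' h
  rw [simAut_mk]
  refine congrArg QuotientGroup.mk (Subtype.ext (Subtype.ext (Units.ext ?_)))
  rw [omegaConj_val, Units.val_mul, Units.val_mul, h]
  simp

theorem eq_simAut {g : sim Q} {β : MulAut (Cfsg.POmega F ⇑Q)}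
    (h : Cfsg.IsInducedBySemilinearPOmega ⇑Q (g : GL ι F) (RingEquiv.refl F) β) : β = simAut Q g := by
  refine MulEquiv.ext fun x => ?_
  induction x using QuotientGroup.induction_on with | _ s
  rw [simAut_mk]
  refine h s (omegaConj g s) ?_
  rw [omegaConj_val]
  simp

theorem pgoAut_eq : Cfsg.pgoAut F ⇑Q = (simAut Q).range := by
  refine le_antisymm ((Subgroup.closure_le _).2 fun β hβ => ?_) ?_
  · obtain ⟨g, hg, h⟩ := hβ
    exact ⟨⟨g, hg⟩, (eq_simAut (g := ⟨g, hg⟩) h).symm⟩
  · rintro _ ⟨g, rfl⟩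
    exact Subgroup.subset_closure ⟨_, g.2, isInduced_simAut g⟩

theorem isometry_le_sim : Cfsg.isometryGroup F ⇑Q ≤ sim Q := fun g hg =>
  ⟨1, fun v => by rw [Units.val_one, one_mul]; exact (mem_isometryGroup_iff _ _).1 hg v⟩

theorem psoAut_eq :
    Cfsg.psoAut F ⇑Q = ((Cfsg.specialIsometryGL F ⇑Q).subgroupOf (sim Q)).map (simAut Q) := by
  refine le_antisymm ((Subgroup.closure_le _).2 fun β hβ => ?_) ?_
  · obtain ⟨g, hg, h⟩ := hβ
    exact ⟨⟨g, isometry_le_sim hg.1⟩, hg, (eq_simAut (g := ⟨g, isometry_le_sim hg.1⟩) h).symm⟩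
  · rintro _ ⟨g, hg, rfl⟩
    exact Subgroup.subset_closure ⟨_, hg, isInduced_simAut g⟩

/-- A scalar matrix, as a similitude. -/
theorem scalar_mem_sim (c : Fˣ) : GeneralLinearGroup.scalar ι c ∈ sim Q :=
  ⟨c ^ 2, fun v => by
    rw [GeneralLinearGroup.coe_scalar, Units.val_pow_eq_pow_val, Matrix.scalar_apply, ← Matrix.smul_one_eq_diagonal,
      smul_mulVec, one_mulVec, qmap_smul]⟩

variable [Finite F]

/-- An element of `Ω` in the centre of `Ω` is scalar. -/
theorem eq_smul_of_mem_center (hQ : Nondeg Q) (hn : 5 ≤ Fintype.card ι) {z : Cfsg.Omega F ⇑Q}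
    (hz : z ∈ Subgroup.center (Cfsg.Omega F ⇑Q)) :
    ∃ l : F, ∀ x, ((z.1.1 : GL ι F) : Matrix ι ι F) *ᵥ x = l • x := by
  have hn' : 5 ≤ finrank F (ι → F) := by rwa [finrank_fintype_fun_eq_card]
  refine OmegaScalar.exists_scalar hQ hn' (X := Matrix.toLin' ((z.1.1 : GL ι F) : Matrix ι ι F)) ?_
  intro u w hu hw x
  have hs : (toO Q).symm (sie u w hu hw) ∈ Cfsg.Omega F ⇑Q := by
    rw [mem_omega_iff, MulEquiv.apply_symm_apply, ← sieGroup_eq_commutator hQ hn']
    exact sie_mem hu hw
  have h := congrArg (fun t : Cfsg.Omega F ⇑Q => ((t.1.1 : GL ι F) : Matrix ι ι F) *ᵥ x)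
    (Subgroup.mem_center_iff.1 hz ⟨_, hs⟩)
  simp only [Subgroup.coe_mul, Units.val_mul, ← mulVec_mulVec, toO_symm_apply] at h
  exact h.symm

theorem exists_scalar_of_simAut_eq_one (hQ : Nondeg Q) (hn : 5 ≤ Fintype.card ι) {g : sim Q}
    (hg : simAut Q g = 1) : ∃ c : Fˣ, (g : GL ι F) = GeneralLinearGroup.scalar ι c := by
  haveI : Nonempty ι := Fintype.card_pos_iff.1 (by omega)
  obtain ⟨p, hp⟩ := CharP.exists F
  haveI : Fact p.Prime := ⟨(CharP.char_is_prime_or_zero F p).resolve_right (fun h0 => by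
    subst h0
    haveI := CharP.charP_to_charZero F
    exact (not_finite F))⟩
  have hn' : 5 ≤ finrank F (ι → F) := by rwa [finrank_fintype_fun_eq_card]
  obtain ⟨l, hl⟩ := OmegaScalar.exists_scalar hQ hn' (X := Matrix.toLin' ((g : GL ι F) : Matrix ι ι F)) (by
    intro u w hu hw x
    set S := (toO Q).symm (sie u w hu hw)
    have hs : S ∈ Cfsg.Omega F ⇑Q := by
      rw [mem_omega_iff, MulEquiv.apply_symm_apply, ← sieGroup_eq_commutator hQ hn']
      exact sie_mem hu hw
    set s : Cfsg.Omega F ⇑Q := ⟨S, hs⟩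
    have hq : (QuotientGroup.mk (omegaConj g s) : Cfsg.POmega F ⇑Q) = QuotientGroup.mk s := by
      rw [← simAut_mk, hg]; rfl
    rw [eq_comm, QuotientGroup.eq] at hq
    obtain ⟨c, hc⟩ := eq_smul_of_mem_center hQ hn hq
    set z : Cfsg.Omega F ⇑Q := s⁻¹ * omegaConj g s with hz
    -- `z` has order dividing `p`
    have hsp : s ^ p = 1 := by
      have hk : ∀ (k : ℕ) (w' : ι → F) (hw' : polar Q u w' = 0), ∀ hkw, sie u w' hu hw' ^ k = sie u (k • w') hu hkw := by
        intro k w' hw'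
        induction k with
        | zero => intro hkw; refine O.ext_app fun x => ?_; simp [sie_app]
        | succ k ih =>
          intro hkw
          have hk' : polar Q u (k • w') = 0 := by
            rw [← Nat.cast_smul_eq_nsmul F, polar_smul_right', hw', mul_zero]
          rw [pow_succ, ih hk', sie_mul]
          exact sie_congr _ _ _ _ rfl (succ_nsmul w' k).symm
      refine Subtype.ext ((toO Q).injective ?_)
      rw [Subgroup.coe_pow, map_pow, MulEquiv.apply_symm_apply, Subgroup.coe_one, map_one,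
        hk p w hw (by rw [← Nat.cast_smul_eq_nsmul F, CharP.cast_eq_zero, zero_smul, QuadraticMap.polar_zero_right])]
      refine O.ext_app fun x => ?_
      rw [sie_app, ← Nat.cast_smul_eq_nsmul F, CharP.cast_eq_zero, zero_smul]
      simp
    have hzp : z ^ p = 1 := by
      have hcomm : Commute s z := Subgroup.mem_center_iff.1 hq s
      have h1 : (omegaConj g s) ^ p = 1 := by rw [← map_pow, hsp, map_one]
      rw [show omegaConj g s = s * z by rw [hz]; group, hcomm.mul_pow, hsp, one_mul] at h1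
      exact h1
    have hc1 : c = 1 := by
      have hpow : ∀ (k : ℕ) (v : ι → F), ((((z ^ k : Cfsg.Omega F ⇑Q)).1.1 : GL ι F) : Matrix ι ι F) *ᵥ v = c ^ k • v := by
        intro k
        induction k with
        | zero => intro v; simp
        | succ k ih =>
          intro v
          rw [pow_succ, Subgroup.coe_mul, Subgroup.coe_mul, Units.val_mul, ← mulVec_mulVec, hc, mulVec_smul, ih,
            smul_smul, pow_succ, mul_comm]
      have h := hpow p (fun _ => 1)
      rw [hzp] at h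
      obtain ⟨i⟩ := (inferInstance : Nonempty ι)
      have hcp : c ^ p = 1 := by simpa using (congrFun h i).symm
      exact (frobenius_inj F p) (by rw [frobenius_def, frobenius_def, hcp, one_pow])
    rw [hc1] at hc
    have hz1 : ∀ v, ((z.1.1 : GL ι F) : Matrix ι ι F) *ᵥ v = v := fun v => by rw [hc, one_smul]
    have hfix : ((g : GL ι F) : Matrix ι ι F) *ᵥ ((S.1 : Matrix ι ι F) *ᵥ ((((g : GL ι F)⁻¹ : GL ι F) : Matrix ι ι F) *ᵥ (((g : GL ι F) : Matrix ι ι F) *ᵥ x)))
        = (S.1 : Matrix ι ι F) *ᵥ (((g : GL ι F) : Matrix ι ι F) *ᵥ x) := by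
      have h : omegaConj g s = s * z := by rw [hz]; group
      have h' := congrArg (fun t : Cfsg.Omega F ⇑Q => ((t.1.1 : GL ι F) : Matrix ι ι F) *ᵥ (((g : GL ι F) : Matrix ι ι F) *ᵥ x)) h
      simp only [omegaConj_val, Subgroup.coe_mul, Units.val_mul, ← mulVec_mulVec, hz1] at h'
      exact h'
    rw [mulVec_mulVec x ((((g : GL ι F)⁻¹ : GL ι F) : Matrix ι ι F)), ← Units.val_mul, inv_mul_cancel, Units.val_one,
      one_mulVec, toO_symm_apply, toO_symm_apply] at hfix
    exact hfix)
  have hl0 : l ≠ 0 := by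
    intro h0
    have h := hl ((((g : GL ι F)⁻¹ : GL ι F) : Matrix ι ι F) *ᵥ fun _ => 1)
    rw [Matrix.toLin'_apply, mulVec_mulVec, ← Units.val_mul, mul_inv_cancel, Units.val_one, one_mulVec, h0, zero_smul] at h
    obtain ⟨i⟩ := (inferInstance : Nonempty ι)
    exact one_ne_zero (congrFun h i)
  refine ⟨Units.mk0 l hl0, Units.ext (Matrix.ext_iff_mulVec.2 fun x => ?_)⟩
  rw [GeneralLinearGroup.coe_scalar, Units.val_mk0, Matrix.scalar_apply, ← Matrix.smul_one_eq_diagonal, smul_mulVec,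
    one_mulVec]
  exact hl x

end Cfsg.Agent.H58.OrthoAut
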