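import Mathlib
import Cfsg.Agent.Orthogonal.Spinor
import Cfsg.Agent.H58.OrthoAut

/-!
# `PGO / PSO` in even dimension, odd characteristic
-/

set_option autoImplicit false

namespace Cfsg.Agent.H58.OrthoKlein

open Matrix Module Cfsg.Agent.Orthogonal Cfsg.Agent.H58.OrthoAut
open QuadraticMap (polar)

variable {F : Type*} [Field F] {ι : Type} [Fintype ι] [DecidableEq ι] {Q : QuadraticForm F (ι → F)}

/-- A multiplier of a similitude. -/
noncomputable def mu (g : sim Q) : Fˣ := Classical.choose g.2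

theorem mu_spec (g : sim Q) (v : ι → F) : Q (((g : GL ι F) : Matrix ι ι F) *ᵥ v) = (mu g : F) * Q v :=
  Classical.choose_spec g.2 v

theorem mu_unique (hv : ∃ v, Q v ≠ 0) {g : sim Q} {c : Fˣ}
    (h : ∀ v, Q (((g : GL ι F) : Matrix ι ι F) *ᵥ v) = (c : F) * Q v) : mu g = c := by
  obtain ⟨v, hv⟩ := hv
  exact Units.ext (mul_right_cancel₀ hv ((mu_spec g v).symm.trans (h v)))

theorem mu_mul (hv : ∃ v, Q v ≠ 0) (g h : sim Q) : mu (g * h) = mu g * mu h := mu_unique hv fun v => by
  rw [Subgroup.coe_mul, Units.val_mul, ← mulVec_mulVec, mu_spec, mu_spec, Units.val_mul, mul_assoc]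

theorem mu_one (hv : ∃ v, Q v ≠ 0) : mu (1 : sim Q) = 1 := mu_unique hv fun v => by simp

/-- The determinant of a similitude squares to a power of its multiplier. -/
theorem det_sq_eq (hQ : Nondeg Q) (g : sim Q) :
    ((g : GL ι F) : Matrix ι ι F).det ^ 2 = (mu g : F) ^ Fintype.card ι := by
  set A : Matrix ι ι F := ((g : GL ι F) : Matrix ι ι F)
  set G : Matrix ι ι F := LinearMap.BilinForm.toMatrix' Q.polarBilin with hG
  have hG0 : G.det ≠ 0 :=
    (LinearMap.BilinForm.nondegenerate_toMatrix'_iff).2 hQ.polarBilin |> Matrix.nondegenerate_iff_det_ne_zero.1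
  have h : Aᵀ * G * A = (mu g : F) • G := by
    have h1 : LinearMap.BilinForm.toMatrix' (LinearMap.BilinForm.comp Q.polarBilin (Matrix.toLin' A) (Matrix.toLin' A))
        = LinearMap.BilinForm.toMatrix' ((mu g : F) • Q.polarBilin) := by
      congr 1
      refine LinearMap.ext₂ fun x y => ?_
      show polar Q (A *ᵥ x) (A *ᵥ y) = (mu g : F) * polar Q x y
      simp only [polar, ← mulVec_add]
      rw [mu_spec, mu_spec, mu_spec]
      ring
    rw [LinearMap.BilinForm.toMatrix'_comp, LinearMap.toMatrix'_toLin', map_smul] at h1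
    exact h1
  have h2 := congrArg Matrix.det h
  rw [det_mul, det_mul, det_transpose, det_smul] at h2
  exact mul_right_cancel₀ hG0 (by linear_combination h2)

theorem exists_ne_zero_value (hQ : Nondeg Q) (hn : 0 < Fintype.card ι) : ∃ v, Q v ≠ 0 := by
  obtain ⟨i⟩ : Nonempty ι := Fintype.card_pos_iff.1 hn
  exact exists_anisotropic hQ (x := Pi.single i (1 : F)) (by simp)

open Classical in
/-- `det / μ^m` as a sign. -/
noncomputable def dsign (m : ℕ) (g : sim Q) : ℤˣ :=
  if ((g : GL ι F) : Matrix ι ι F).det = (mu g : F) ^ m then 1 else -1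

theorem dsign_mul (h2 : (2 : F) ≠ 0) (hQ : Nondeg Q) {m : ℕ} (hm : Fintype.card ι = 2 * m) (hv : ∃ v, Q v ≠ 0) (g h : sim Q) :
    dsign m (g * h) = dsign m g * dsign m h := by
  have key : ∀ x : sim Q, ((x : GL ι F) : Matrix ι ι F).det = (mu x : F) ^ m ∨
      ((x : GL ι F) : Matrix ι ι F).det = -((mu x : F) ^ m) := fun x =>
    sq_eq_sq_iff_eq_or_eq_neg.1 (by rw [det_sq_eq hQ, hm, mul_comm, pow_mul])
  have hne : ∀ x : sim Q, -((mu x : F) ^ m) ≠ (mu x : F) ^ m := fun x e => by
    have h0 : (2 : F) * (mu x : F) ^ m = 0 := by linear_combination -e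
    exact (mul_ne_zero h2 (pow_ne_zero _ (mu x).ne_zero)) h0
  have hdet : ((((g * h : sim Q) : GL ι F)) : Matrix ι ι F).det
      = ((g : GL ι F) : Matrix ι ι F).det * ((h : GL ι F) : Matrix ι ι F).det := by simp
  have hmu : (mu (g * h) : F) ^ m = (mu g : F) ^ m * (mu h : F) ^ m := by
    rw [mu_mul hv, Units.val_mul, mul_pow]
  have hng : ∀ x : sim Q, ((x : GL ι F) : Matrix ι ι F).det = -((mu x : F) ^ m) →
      ¬((x : GL ι F) : Matrix ι ι F).det = (mu x : F) ^ m := fun x e e' => hne x (e.symm.trans e')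
  simp only [dsign]
  rcases key g with a | a <;> rcases key h with b | b
  · rw [if_pos a, if_pos b, if_pos (show ((((g * h : sim Q) : GL ι F)) : Matrix ι ι F).det = _ by rw [hdet, a, b, hmu]), one_mul]
  · rw [if_pos a, if_neg (hng h b),
      if_neg (hng (g * h) (by rw [hdet, a, b, mul_neg, hmu])), one_mul]
  · rw [if_neg (hng g a), if_pos b,
      if_neg (hng (g * h) (by rw [hdet, a, b, neg_mul, hmu])), mul_one]
  · rw [if_neg (hng g a), if_neg (hng h b),
      if_pos (show ((((g * h : sim Q) : GL ι F)) : Matrix ι ι F).det = _ by rw [hdet, a, b, neg_mul_neg, hmu]), Int.units_mul_self]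

/-- Two signs as an element of the Klein group. -/
def pairKlein : ℤˣ × ℤˣ →* Multiplicative (ZMod 2 × ZMod 2) where
  toFun u := Multiplicative.ofAdd (if u.1 = 1 then 0 else 1, if u.2 = 1 then 0 else 1)
  map_one' := rfl
  map_mul' u v := by
    obtain ⟨a, b⟩ := u
    obtain ⟨c, d⟩ := v
    rcases Int.units_eq_one_or a with rfl | rfl <;> rcases Int.units_eq_one_or b with rfl | rfl <;>
      rcases Int.units_eq_one_or c with rfl | rfl <;> rcases Int.units_eq_one_or d with rfl | rfl <;> rfl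

variable [Fintype F]

theorem klein (hQ : Nondeg Q) (h2 : (2 : F) ≠ 0) {m : ℕ} (hm : Fintype.card ι = 2 * m) (h5 : 5 ≤ Fintype.card ι)
    (hns : ∃ (g : sim Q) (c : Fˣ), ¬ IsSquare (c : F) ∧ ∀ v, Q (((g : GL ι F) : Matrix ι ι F) *ᵥ v) = (c : F) * Q v) :
    ∃ φ : ↥(Cfsg.pgoAut F ⇑Q) →* Multiplicative (ZMod 2 × ZMod 2),
      Function.Surjective φ ∧ φ.ker = (Cfsg.psoAut F ⇑Q).subgroupOf (Cfsg.pgoAut F ⇑Q) := by
  have hv := exists_ne_zero_value hQ (by omega)
  let S : sim Q →* ℤˣ × ℤˣ :=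
    { toFun := fun g => (sqSign (mu g : F), dsign m g)
      map_one' := by
        refine Prod.ext ?_ ?_
        · show sqSign (mu (1 : sim Q) : F) = 1
          rw [mu_one hv]
          exact sqSign_of_isSquare IsSquare.one
        · show dsign m (1 : sim Q) = 1
          exact if_pos (by rw [mu_one hv]; simp)
      map_mul' := fun g h => by
        refine Prod.ext ?_ (dsign_mul h2 hQ hm hv g h)
        show sqSign (mu (g * h) : F) = sqSign (mu g : F) * sqSign (mu h : F)
        rw [mu_mul hv, Units.val_mul, sqSign_mul h2 (mu g).ne_zero (mu h).ne_zero] }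
  let Φ : sim Q →* Multiplicative (ZMod 2 × ZMod 2) := pairKlein.comp S
  have hΦ : ∀ g, Φ g = 1 ↔ IsSquare (mu g : F) ∧ ((g : GL ι F) : Matrix ι ι F).det = (mu g : F) ^ m := by
    intro g
    show Multiplicative.ofAdd (if sqSign (mu g : F) = 1 then (0 : ZMod 2) else 1, if dsign m g = 1 then (0 : ZMod 2) else 1) = Multiplicative.ofAdd 0 ↔ _
    rw [Multiplicative.ofAdd.injective.eq_iff, Prod.ext_iff, ← sqSign_eq_one_iff]
    refine and_congr ?_ ?_
    · by_cases h : sqSign (mu g : F) = 1 <;> simp [h]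
    · unfold dsign
      split_ifs with h <;> simp_all
  have hker : (simAut Q).ker ≤ Φ.ker := by
    intro g hg
    obtain ⟨c, hc⟩ := exists_scalar_of_simAut_eq_one hQ h5 hg
    have hmu : mu g = c ^ 2 := mu_unique hv fun v => by
      rw [hc, GeneralLinearGroup.coe_scalar, Units.val_pow_eq_pow_val, Matrix.scalar_apply,
        ← Matrix.smul_one_eq_diagonal, smul_mulVec, one_mulVec, qmap_smul]
    refine (hΦ g).2 ⟨by rw [hmu, Units.val_pow_eq_pow_val, pow_two]; exact ⟨_, rfl⟩, ?_⟩
    rw [hc, hmu, GeneralLinearGroup.coe_scalar, Matrix.scalar_apply, det_diagonal, Finset.prod_const,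
      Finset.card_univ, hm, Units.val_pow_eq_pow_val, pow_mul]
  have hsurjr : Function.Surjective (simAut Q).rangeRestrict := (simAut Q).rangeRestrict_surjective
  let ψ : (simAut Q).range →* Multiplicative (ZMod 2 × ZMod 2) :=
    (simAut Q).rangeRestrict.liftOfSurjective hsurjr ⟨Φ, by rw [MonoidHom.ker_rangeRestrict]; exact hker⟩
  have hψ : ∀ g, ψ ((simAut Q).rangeRestrict g) = Φ g := fun g =>
    MonoidHom.liftOfRightInverse_comp_apply _ _ _ _ g
  let φ : ↥(Cfsg.pgoAut F ⇑Q) →* Multiplicative (ZMod 2 × ZMod 2) :=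
    ψ.comp (MulEquiv.subgroupCongr pgoAut_eq).toMonoidHom
  have hφ : ∀ (g : sim Q) (hg : simAut Q g ∈ Cfsg.pgoAut F ⇑Q), φ ⟨simAut Q g, hg⟩ = Φ g := fun g hg => hψ g
  refine ⟨φ, ?_, ?_⟩
  · obtain ⟨g₁, c, hc, hg₁⟩ := hns
    obtain ⟨v, hv'⟩ := hv
    let g₂ : sim Q := ⟨(reflIso Q v).1, isometry_le_sim (reflIso Q v).2⟩
    have hμ₂ : mu g₂ = 1 := mu_unique ⟨v, hv'⟩ fun w => by
      rw [Units.val_one, one_mul]
      exact (mem_isometryGroup_iff _ _).1 (reflIso Q v).2 w
    have hd₂ : dsign m g₂ = -1 := if_neg (by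
      show ((reflIso Q v : GL ι F) : Matrix ι ι F).det ≠ _
      rw [reflIso_val, det_reflectionMatrix hv', hμ₂, Units.val_one, one_pow]
      intro e
      exact h2 (by linear_combination -e))
    have hs₁ : sqSign (mu g₁ : F) = -1 := by rw [mu_unique ⟨v, hv'⟩ hg₁]; exact sqSign_of_not_isSquare hc
    have hsurjS : Function.Surjective Φ := by
      have h2' : S g₂ = (1, -1) := Prod.ext (by
        show sqSign (mu g₂ : F) = 1
        rw [hμ₂]; exact sqSign_of_isSquare IsSquare.one) hd₂
      have hp : Function.Surjective pairKlein := by decide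
      have hS : Function.Surjective S := by
        rintro ⟨a, b⟩
        have h1 : S g₁ = (-1, (S g₁).2) := Prod.ext hs₁ rfl
        rcases Int.units_eq_one_or a with rfl | rfl
        · rcases Int.units_eq_one_or b with rfl | rfl
          · exact ⟨1, map_one S⟩
          · exact ⟨g₂, h2'⟩
        · rcases Int.units_eq_one_or ((S g₁).2 * b) with e | e
          · refine ⟨g₁, h1.trans (Prod.ext rfl ?_)⟩
            rw [mul_eq_one_iff_eq_inv, Int.units_inv_eq_self] at e
            exact e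
          · refine ⟨g₁ * g₂, ?_⟩
            rw [map_mul, h1, h2']
            refine Prod.ext rfl ?_
            show (S g₁).2 * -1 = b
            rw [← e, ← mul_assoc, Int.units_mul_self, one_mul]
      exact hp.comp hS
    intro y
    obtain ⟨g, hg⟩ := hsurjS y
    exact ⟨⟨simAut Q g, by rw [pgoAut_eq]; exact ⟨g, rfl⟩⟩, (hφ g _).trans hg⟩
  · ext ⟨x, hx⟩
    rw [MonoidHom.mem_ker, Subgroup.mem_subgroupOf]
    obtain ⟨g, rfl⟩ : x ∈ (simAut Q).range := by rw [← pgoAut_eq]; exact hx
    rw [hφ, hΦ, psoAut_eq]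
    constructor
    · rintro ⟨⟨r, hr⟩, hd⟩
      have hr0 : r ≠ 0 := fun h0 => (mu g).ne_zero (by rw [hr, h0, mul_zero])
      let c : sim Q := ⟨GeneralLinearGroup.scalar ι (Units.mk0 r hr0)⁻¹, scalar_mem_sim _⟩
      refine ⟨c * g, Subgroup.mem_subgroupOf.2 ⟨(mem_isometryGroup_iff _ _).2 fun v => ?_, ?_⟩, ?_⟩
      · rw [Subgroup.coe_mul, Units.val_mul, ← mulVec_mulVec, GeneralLinearGroup.coe_scalar, Matrix.scalar_apply,
          ← Matrix.smul_one_eq_diagonal, smul_mulVec, one_mulVec, qmap_smul, mu_spec, hr, Units.val_inv_eq_inv_val,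
          Units.val_mk0]
        field_simp
      · show (c * g : sim Q).1 ∈ Cfsg.Geo.specialLinear ι F
        refine MonoidHom.mem_ker.2 (Units.ext ?_)
        rw [Subgroup.coe_mul, map_mul, Units.val_mul, GeneralLinearGroup.val_det_apply,
          GeneralLinearGroup.val_det_apply, GeneralLinearGroup.coe_scalar, Matrix.scalar_apply, det_diagonal,
          Finset.prod_const, Finset.card_univ, hm, hd, hr, Units.val_inv_eq_inv_val, Units.val_mk0, Units.val_one,
          pow_mul, ← mul_pow, show r⁻¹ ^ 2 * (r * r) = 1 by field_simp, one_pow]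
      · rw [map_mul, show simAut Q c = 1 from ?_, one_mul]
        refine MulEquiv.ext fun z => ?_
        induction z using QuotientGroup.induction_on with | _ s
        rw [simAut_mk]
        refine congrArg QuotientGroup.mk (Subtype.ext (Subtype.ext ?_))
        rw [omegaConj_val, show (c : GL ι F) * s.1.1 = s.1.1 * (c : GL ι F) from
          GeneralLinearGroup.scalar_commute _ _, mul_inv_cancel_right]
    · rintro ⟨h, hh, e⟩
      obtain ⟨hiso, hdet⟩ := Subgroup.mem_subgroupOf.1 hh
      rw [← hΦ]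
      have he : g * h⁻¹ ∈ (simAut Q).ker := by rw [MonoidHom.mem_ker, map_mul, map_inv, e, mul_inv_cancel]
      have h1 : Φ g = Φ h := by
        have := MonoidHom.mem_ker.1 (hker he)
        rwa [map_mul, map_inv, mul_inv_eq_one] at this
      rw [h1, hΦ]
      have hμ : mu h = 1 := mu_unique hv fun v => by
        rw [Units.val_one, one_mul]; exact (mem_isometryGroup_iff _ _).1 hiso v
      refine ⟨by rw [hμ]; exact IsSquare.one, ?_⟩
      rw [hμ, Units.val_one, one_pow]
      exact congrArg Units.val (MonoidHom.mem_ker.1 hdet)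

end Cfsg.Agent.H58.OrthoKlein

namespace Cfsg.Agent.H58.OrthoKlein

open Matrix Module Cfsg.Agent.Orthogonal Cfsg.Agent.H58.OrthoAut
open QuadraticMap (polar)

/-- A linear map multiplying `Q` by a non-zero scalar gives a similitude. -/
theorem exists_sim_of_linear {F : Type*} [Field F] {ι : Type} [Fintype ι] [DecidableEq ι]
    {Q : QuadraticForm F (ι → F)} (hQ : Nondeg Q) (c : Fˣ) (T : (ι → F) →ₗ[F] (ι → F))
    (hT : ∀ v, Q (T v) = (c : F) * Q v) :
    ∃ (g : sim Q) (d : Fˣ), d = c ∧ ∀ v, Q (((g : GL ι F) : Matrix ι ι F) *ᵥ v) = (d : F) * Q v := by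
  have hinj : Function.Injective T := by
    rw [← LinearMap.ker_eq_bot, eq_bot_iff]
    intro x hx
    rw [LinearMap.mem_ker] at hx
    refine hQ x fun y => mul_left_cancel₀ c.ne_zero ?_
    rw [polar, mul_sub, mul_sub, ← hT, ← hT, ← hT, map_add, hx, zero_add, QuadraticMap.map_zero]
    ring
  have hU : IsUnit (LinearMap.toMatrix' T) := by
    rw [← Matrix.mulVec_injective_iff_isUnit]
    intro x y h
    apply hinj
    rwa [← Matrix.toLin'_toMatrix' T, Matrix.toLin'_apply, Matrix.toLin'_apply]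
  have key : ∀ v, Q (((hU.unit : GL ι F) : Matrix ι ι F) *ᵥ v) = (c : F) * Q v := fun v => by
    rw [IsUnit.unit_spec, ← Matrix.toLin'_apply, Matrix.toLin'_toMatrix', hT]
  exact ⟨⟨hU.unit, c, key⟩, c, rfl, key⟩

end Cfsg.Agent.H58.OrthoKlein
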