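import Mathlib
import Cfsg.Agent.H52.OrthoRank
import Cfsg.Agent.H58.OrthoKlein

/-!
# `PGO` modulo `PΩ` in even dimension and odd characteristic
-/

set_option autoImplicit false
set_option linter.unusedSectionVars false
set_option linter.unusedVariables false

namespace Cfsg.Agent.H58.OrthoOuter

open Matrix Module Cfsg.Agent.Orthogonal Cfsg.Agent.H58.OrthoAut Cfsg.Agent.H58.OrthoKlein
open QuadraticMap (polar)
open Cfsg.Agent.H52.OrthoRank (negSign)

section Transfer

variable {A : Type*} [Group A] {T : Type*} [Group T]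

/-- A surjection with prescribed kernel from an embedding of the target into the ambient quotient. -/
theorem exists_hom (H N : Subgroup A) [N.Normal] (ψ : T →* A ⧸ N) (hψ : Function.Injective ψ)
    (hrange : ψ.range = H.map (QuotientGroup.mk' N)) :
    ∃ φ : ↥H →* T, Function.Surjective φ ∧ φ.ker = N.subgroupOf H := by
  let χ : ↥H →* ↥ψ.range := ((QuotientGroup.mk' N).comp H.subtype).codRestrict ψ.range fun h => by
    rw [hrange]; exact ⟨h.1, h.2, rfl⟩
  have hχ : Function.Surjective χ := by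
    rintro ⟨y, hy⟩
    rw [hrange] at hy
    obtain ⟨h, hh, rfl⟩ := hy
    exact ⟨⟨h, hh⟩, rfl⟩
  refine ⟨(MonoidHom.ofInjective hψ).symm.toMonoidHom.comp χ,
    (MonoidHom.ofInjective hψ).symm.surjective.comp hχ, ?_⟩
  ext h
  rw [MonoidHom.mem_ker, Subgroup.mem_subgroupOf, ← QuotientGroup.eq_one_iff, MonoidHom.comp_apply,
    MulEquiv.coe_toMonoidHom, EmbeddingLike.map_eq_one_iff, ← Subtype.coe_inj]
  rfl

variable {G : Type*} [Group G]

theorem pow_val_add {n : ℕ} [NeZero n] {R : G} (hR : R ^ n = 1) (i j : ZMod n) :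
    R ^ (i + j).val = R ^ i.val * R ^ j.val := by
  rw [← pow_add, ZMod.val_add]
  exact (pow_eq_pow_mod _ hR).symm

/-- The cyclic group of order four into `G`. -/
def cyclicHom (R : G) (hR : R ^ 4 = 1) : Multiplicative (ZMod 4) →* G where
  toFun i := R ^ (Multiplicative.toAdd i).val
  map_one' := pow_zero R
  map_mul' i j := pow_val_add hR _ _

theorem cyclicHom_injective {R : G} (hR : R ^ 4 = 1) (h2 : R ^ 2 ≠ 1) :
    Function.Injective (cyclicHom R hR) := by
  rw [injective_iff_map_eq_one]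
  intro i hi
  change R ^ (Multiplicative.toAdd i).val = 1 at hi
  have hlt := ZMod.val_lt (Multiplicative.toAdd i)
  have hcase : (Multiplicative.toAdd i).val = 0 ∨ (Multiplicative.toAdd i).val = 1 ∨
      (Multiplicative.toAdd i).val = 2 ∨ (Multiplicative.toAdd i).val = 3 := by omega
  rcases hcase with h | h | h | h <;> rw [h] at hi
  · rw [ZMod.val_eq_zero] at h
    exact h
  · rw [pow_one] at hi
    exact absurd (by rw [hi, one_pow]) h2
  · exact absurd hi h2
  · refine absurd ?_ h2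
    calc R ^ 2 = R ^ 2 * R ^ 4 := by rw [hR, mul_one]
      _ = (R ^ 3) ^ 2 := by group
      _ = 1 := by rw [hi, one_pow]

theorem range_cyclicHom_le {R : G} (hR : R ^ 4 = 1) (x : G) (h : x ∈ (cyclicHom R hR).range) :
    x ∈ Subgroup.zpowers R := by
  obtain ⟨i, rfl⟩ := h
  exact Subgroup.npow_mem_zpowers R _

/-- The Klein group into `G`. -/
def kleinHom (R T : G) (hR : R ^ 2 = 1) (hT : T ^ 2 = 1) (hc : Commute R T) :
    Multiplicative (ZMod 2 × ZMod 2) →* G where
  toFun x := R ^ (Multiplicative.toAdd x).1.val * T ^ (Multiplicative.toAdd x).2.val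
  map_one' := by simp
  map_mul' x y := by
    show R ^ ((Multiplicative.toAdd x).1 + (Multiplicative.toAdd y).1).val *
      T ^ ((Multiplicative.toAdd x).2 + (Multiplicative.toAdd y).2).val = _
    rw [pow_val_add hR, pow_val_add hT, mul_assoc, ← mul_assoc (R ^ _) (T ^ _) (T ^ _),
      (hc.pow_pow _ _).eq]
    group

/-- The dihedral group of order eight into `G`. -/
def dihedralHom (R S : G) (hR : R ^ 4 = 1) (hS : S * S = 1) (hSR : S * R * (S * R) = 1) :
    DihedralGroup 4 →* G where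
  toFun
    | DihedralGroup.r i => R ^ i.val
    | DihedralGroup.sr i => S * R ^ i.val
  map_one' := pow_zero R
  map_mul' := by
    have hSinv : S⁻¹ = S := inv_eq_of_mul_eq_one_right hS
    have hRS : R * S = S * R⁻¹ := by
      calc R * S = S⁻¹ * (S * R * (S * R)) * R⁻¹ := by group
        _ = S * R⁻¹ := by rw [hSR, mul_one, hSinv]
    have hneg : ∀ i : ZMod 4, R ^ (-i).val = (R ^ i.val)⁻¹ := fun i =>
      eq_inv_of_mul_eq_one_left (by rw [← pow_val_add hR, neg_add_cancel]; simp)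
    have hk : ∀ i : ZMod 4, R ^ i.val * S = S * R ^ (-i).val := fun i => by
      have h : SemiconjBy S R⁻¹ R := hRS.symm
      rw [hneg, ← inv_pow]
      exact ((h.pow_right i.val).eq).symm
    rintro (i | i) (j | j)
    · exact pow_val_add hR i j
    · show S * R ^ (j - i).val = R ^ i.val * (S * R ^ j.val)
      rw [← mul_assoc, hk, mul_assoc, ← pow_val_add hR, neg_add_eq_sub]
    · show S * R ^ (i + j).val = S * R ^ i.val * R ^ j.val
      rw [mul_assoc, ← pow_val_add hR]
    · show R ^ (j - i).val = S * R ^ i.val * (S * R ^ j.val)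
      rw [← mul_assoc, mul_assoc S, hk, ← mul_assoc, hS, one_mul, ← pow_val_add hR, neg_add_eq_sub]

theorem mem_range_cyclicHom {R : G} (hR : R ^ 4 = 1) : R ∈ (cyclicHom R hR).range :=
  ⟨Multiplicative.ofAdd 1, pow_one R⟩

theorem cyclicHom_range_le' {R : G} (hR : R ^ 4 = 1) {P : Subgroup G} (h : R ∈ P) : (cyclicHom R hR).range ≤ P := by
  rintro _ ⟨i, rfl⟩
  exact pow_mem h _

/-- The group of order two into `G`. -/
def twoHom (R : G) (hR : R ^ 2 = 1) : Multiplicative (ZMod 2) →* G where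
  toFun i := R ^ (Multiplicative.toAdd i).val
  map_one' := pow_zero R
  map_mul' _ _ := pow_val_add hR _ _

theorem twoHom_injective {R : G} (hR : R ^ 2 = 1) (h1 : R ≠ 1) : Function.Injective (twoHom R hR) := by
  rw [injective_iff_map_eq_one]
  intro i hi
  change R ^ (Multiplicative.toAdd i).val = 1 at hi
  have hlt := ZMod.val_lt (Multiplicative.toAdd i)
  have hcase : (Multiplicative.toAdd i).val = 0 ∨ (Multiplicative.toAdd i).val = 1 := by omega
  rcases hcase with h | h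
  · exact (ZMod.val_eq_zero _).1 h
  · rw [h, pow_one] at hi
    exact absurd hi h1

theorem mem_range_twoHom {R : G} (hR : R ^ 2 = 1) : R ∈ (twoHom R hR).range := ⟨Multiplicative.ofAdd 1, pow_one R⟩

theorem twoHom_range_le {R : G} (hR : R ^ 2 = 1) {P : Subgroup G} (h : R ∈ P) : (twoHom R hR).range ≤ P := by
  rintro _ ⟨i, rfl⟩
  exact pow_mem h _

theorem kleinHom_injective {R T : G} (hR : R ^ 2 = 1) (hT : T ^ 2 = 1) (hc : Commute R T) (hR1 : R ≠ 1)
    (hT1 : T ≠ 1) (hRT : R * T ≠ 1) : Function.Injective (kleinHom R T hR hT hc) := by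
  rw [injective_iff_map_eq_one]
  rintro ⟨a, b⟩ hx
  change R ^ a.val * T ^ b.val = 1 at hx
  fin_cases a <;> fin_cases b
  · rfl
  · exact absurd (show R ^ 0 * T ^ 1 = 1 from hx) (by rwa [pow_zero, pow_one, one_mul])
  · exact absurd (show R ^ 1 * T ^ 0 = 1 from hx) (by rwa [pow_zero, pow_one, mul_one])
  · exact absurd (show R ^ 1 * T ^ 1 = 1 from hx) (by rwa [pow_one, pow_one])

theorem mem_range_kleinHom {R T : G} (hR : R ^ 2 = 1) (hT : T ^ 2 = 1) (hc : Commute R T) :
    R ∈ (kleinHom R T hR hT hc).range ∧ T ∈ (kleinHom R T hR hT hc).range :=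
  ⟨⟨Multiplicative.ofAdd (1, 0), show R ^ 1 * T ^ 0 = R by simp⟩,
    ⟨Multiplicative.ofAdd (0, 1), show R ^ 0 * T ^ 1 = T by simp⟩⟩

theorem kleinHom_range_le {R T : G} (hR : R ^ 2 = 1) (hT : T ^ 2 = 1) (hc : Commute R T) {P : Subgroup G}
    (h : R ∈ P) (h' : T ∈ P) : (kleinHom R T hR hT hc).range ≤ P := by
  rintro _ ⟨i, rfl⟩
  exact mul_mem (pow_mem h _) (pow_mem h' _)

theorem dihedralHom_injective {R S : G} (hR : R ^ 4 = 1) (hS : S * S = 1) (hSR : S * R * (S * R) = 1)
    (h2 : R ^ 2 ≠ 1) (h1 : ∀ k : ℕ, S * R ^ k ≠ 1) : Function.Injective (dihedralHom R S hR hS hSR) := by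
  rw [injective_iff_map_eq_one]
  rintro (i | i) hi
  · have h : cyclicHom R hR (Multiplicative.ofAdd i) = cyclicHom R hR 1 := by rw [map_one]; exact hi
    rw [show i = 0 from cyclicHom_injective hR h2 h]; rfl
  · exact absurd hi (h1 _)

theorem mem_range_dihedralHom {R S : G} (hR : R ^ 4 = 1) (hS : S * S = 1) (hSR : S * R * (S * R) = 1) :
    R ∈ (dihedralHom R S hR hS hSR).range ∧ S ∈ (dihedralHom R S hR hS hSR).range :=
  ⟨⟨.r 1, show R ^ 1 = R by simp⟩, ⟨.sr 0, show S * R ^ 0 = S by simp⟩⟩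

theorem dihedralHom_range_le {R S : G} (hR : R ^ 4 = 1) (hS : S * S = 1) (hSR : S * R * (S * R) = 1)
    {P : Subgroup G} (h : R ∈ P) (h' : S ∈ P) : (dihedralHom R S hR hS hSR).range ≤ P := by
  rintro _ ⟨i | i, rfl⟩
  · exact pow_mem h _
  · exact mul_mem h' (pow_mem h _)

theorem sq_eq_of_conj {R S T : G} (h1 : R * S * (R * S) = 1) (h2 : S * R * (S * R) = T * (R * R))
    (hT : T * T = 1) : R * R = T := by
  have h3 : S * R * (S * R) = 1 := by
    calc S * R * (S * R) = R⁻¹ * (R * S * (R * S)) * R := by group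
      _ = 1 := by rw [h1, mul_one, inv_mul_cancel]
  rw [h3] at h2
  rw [eq_inv_of_mul_eq_one_right h2.symm]
  exact inv_eq_of_mul_eq_one_right hT

theorem sq_eq_one_of_comm {R T : G} (h1 : R * T * (R * T) = 1) (hc : Commute R T) (hT : T * T = 1) : R * R = 1 := by
  rwa [mul_assoc, ← mul_assoc T, ← hc.eq, mul_assoc, ← mul_assoc, hT, mul_one] at h1

theorem sq_conj_of_sq_one {R S T : G} (h : S * R * (S * R) = T * (R * R)) (e : R * R = 1) :
    S * R * (S * R) = T := by rw [h, e, mul_one]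

theorem pow_four_eq_one {R T : G} (hR : R * R = T) (hT : T * T = 1) : R ^ 4 = 1 := by
  rw [show R ^ 4 = (R ^ 2) * R ^ 2 by rw [← pow_add], pow_two, hR, hT]

end Transfer

variable {F : Type*} [Field F] [Fintype F] {ι : Type} [Fintype ι] [DecidableEq ι] {Q : QuadraticForm F (ι → F)}

instance Inn_normal' {G : Type*} [Group G] : (Cfsg.Inn G).Normal := by
  constructor
  rintro _ ⟨y, rfl⟩ α
  exact ⟨α y, MulEquiv.ext fun z => by simp [MulAut.conj_apply, MulAut.inv_def]⟩

/-- An isometry as a similitude. -/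
abbrev toSim (Q : QuadraticForm F (ι → F)) : Cfsg.isometryGroup F ⇑Q →* sim Q :=
  Subgroup.inclusion isometry_le_sim

/-- The class of a similitude modulo inner automorphisms. -/
noncomputable def outHom (Q : QuadraticForm F (ι → F)) :
    sim Q →* MulAut (Cfsg.POmega F ⇑Q) ⧸ Cfsg.Inn (Cfsg.POmega F ⇑Q) :=
  (QuotientGroup.mk' (Cfsg.Inn (Cfsg.POmega F ⇑Q))).comp (simAut Q)

theorem outHom_eq_one {g : sim Q} : outHom Q g = 1 ↔ simAut Q g ∈ Cfsg.Inn (Cfsg.POmega F ⇑Q) :=
  QuotientGroup.eq_one_iff _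

theorem inn_eq : Cfsg.Inn (Cfsg.POmega F ⇑Q) = (Cfsg.Omega F ⇑Q).map ((simAut Q).comp (toSim Q)) := by
  have key : ∀ s : Cfsg.Omega F ⇑Q, simAut Q (toSim Q s.1) = MulAut.conj (QuotientGroup.mk s : Cfsg.POmega F ⇑Q) := by
    intro s
    refine MulEquiv.ext fun x => ?_
    induction x using QuotientGroup.induction_on with | _ y
    rw [simAut_mk, MulAut.conj_apply, ← QuotientGroup.mk_inv, ← QuotientGroup.mk_mul, ← QuotientGroup.mk_mul]
    exact congrArg QuotientGroup.mk (Subtype.ext (Subtype.ext rfl))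
  refine le_antisymm ?_ ?_
  · rintro _ ⟨y, rfl⟩
    induction y using QuotientGroup.induction_on with | _ s
    exact ⟨s.1, s.2, key s⟩
  · rintro _ ⟨s, hs, rfl⟩
    exact ⟨_, (key ⟨s, hs⟩).symm⟩

theorem toSim_coe (s : Cfsg.isometryGroup F ⇑Q) : ((toSim Q s : sim Q) : GL ι F) = s.1 := rfl

variable (Q)

/-- The standing hypotheses. -/
structure Setup (m : ℕ) : Prop where
  nondeg : Nondeg Q
  two : (2 : F) ≠ 0
  card : Fintype.card ι = 2 * m
  five : 5 ≤ Fintype.card ι

variable {Q} {m : ℕ}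

namespace Setup

theorem value (H : Setup Q m) : ∃ v, Q v ≠ 0 := exists_ne_zero_value H.nondeg (by have := H.five; omega)

/-- Spinor norm on the matrix group. -/
noncomputable def th (H : Setup Q m) : Cfsg.isometryGroup F ⇑Q →* ℤˣ :=
  (spinor Q H.nondeg H.two).comp (toO Q).toMonoidHom

/-- Sign of the determinant on the matrix group. -/
noncomputable def dt (H : Setup Q m) : Cfsg.isometryGroup F ⇑Q →* ℤˣ :=
  (detSign Q H.nondeg H.two).comp (toO Q).toMonoidHom

theorem det_toO (s : Cfsg.isometryGroup F ⇑Q) :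
    LinearMap.det ((toO Q s : (ι → F) ≃ₗ[F] (ι → F)) : (ι → F) →ₗ[F] (ι → F)) = (s.1 : Matrix ι ι F).det := by
  rw [← LinearMap.det_toLin' (s.1 : Matrix ι ι F)]
  exact congrArg LinearMap.det (LinearMap.ext fun x => rfl)

theorem dt_eq_one_iff (H : Setup Q m) (s : Cfsg.isometryGroup F ⇑Q) : H.dt s = 1 ↔ (s.1 : Matrix ι ι F).det = 1 := by
  rw [← det_toO]; exact detSign_eq_one_iff H.nondeg H.two _

theorem mem_omega (H : Setup Q m) (s : Cfsg.isometryGroup F ⇑Q) :
    s ∈ Cfsg.Omega F ⇑Q ↔ H.dt s = 1 ∧ H.th s = 1 := by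
  rw [mem_omega_iff, mem_commutator_iff H.nondeg H.two]; rfl

theorem mu_toSim (H : Setup Q m) (s : Cfsg.isometryGroup F ⇑Q) : mu (toSim Q s) = 1 := mu_unique H.value fun v => by
  rw [Units.val_one, one_mul]; exact (mem_isometryGroup_iff _ _).1 s.2 v

/-- Square class of the multiplier. -/
noncomputable def sg (H : Setup Q m) : sim Q →* ℤˣ where
  toFun g := sqSign (mu g : F)
  map_one' := by
    show sqSign (mu (1 : sim Q) : F) = 1
    rw [mu_one H.value]; exact sqSign_of_isSquare IsSquare.one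
  map_mul' g h := by
    show sqSign (mu (g * h) : F) = sqSign (mu g : F) * sqSign (mu h : F)
    rw [mu_mul H.value, Units.val_mul, sqSign_mul H.two (mu g).ne_zero (mu h).ne_zero]

/-- `det / μ^m`. -/
noncomputable def ds (H : Setup Q m) : sim Q →* ℤˣ where
  toFun g := dsign m g
  map_one' := if_pos (by rw [mu_one H.value]; simp)
  map_mul' := dsign_mul H.two H.nondeg H.card H.value

theorem ds_eq_one_iff (H : Setup Q m) (g : sim Q) :
    H.ds g = 1 ↔ ((g : GL ι F) : Matrix ι ι F).det = (mu g : F) ^ m := by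
  show dsign m g = 1 ↔ _
  unfold dsign
  split_ifs with h <;> simp [h]

theorem sg_toSim (H : Setup Q m) (s : Cfsg.isometryGroup F ⇑Q) : H.sg (toSim Q s) = 1 := by
  show sqSign (mu (toSim Q s) : F) = 1
  rw [mu_toSim H]; exact sqSign_of_isSquare IsSquare.one

theorem ds_toSim (H : Setup Q m) (s : Cfsg.isometryGroup F ⇑Q) : H.ds (toSim Q s) = H.dt s := by
  have h1 : H.ds (toSim Q s) = 1 ↔ H.dt s = 1 := by
    rw [ds_eq_one_iff, dt_eq_one_iff, mu_toSim H, Units.val_one, one_pow]; rfl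
  rcases Int.units_eq_one_or (H.ds (toSim Q s)) with h | h <;> rcases Int.units_eq_one_or (H.dt s) with h' | h'
  · rw [h, h']
  · exact absurd (h'.symm.trans (h1.1 h)) (by decide)
  · exact absurd (h.symm.trans (h1.2 h')) (by decide)
  · rw [h, h']

theorem scalar_simAut (c : Fˣ) : simAut Q ⟨GeneralLinearGroup.scalar ι c, scalar_mem_sim c⟩ = 1 := by
  refine MulEquiv.ext fun z => ?_
  induction z using QuotientGroup.induction_on with | _ s
  rw [simAut_mk]
  refine congrArg QuotientGroup.mk (Subtype.ext (Subtype.ext ?_))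
  rw [omegaConj_val, GeneralLinearGroup.scalar_commute, mul_inv_cancel_right]

theorem exists_SO (H : Setup Q m) {g : sim Q} (h1 : H.sg g = 1) (h2 : H.ds g = 1) :
    ∃ s : Cfsg.isometryGroup F ⇑Q, H.dt s = 1 ∧ simAut Q g = simAut Q (toSim Q s) := by
  obtain ⟨r, hr⟩ := sqSign_eq_one_iff.1 h1
  have hr0 : r ≠ 0 := fun h0 => (mu g).ne_zero (by rw [hr, h0, mul_zero])
  let c : sim Q := ⟨GeneralLinearGroup.scalar ι (Units.mk0 r hr0)⁻¹, scalar_mem_sim _⟩
  have hiso : ((c * g : sim Q) : GL ι F) ∈ Cfsg.isometryGroup F ⇑Q := by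
    refine (mem_isometryGroup_iff _ _).2 fun v => ?_
    rw [Subgroup.coe_mul, Units.val_mul, ← mulVec_mulVec, GeneralLinearGroup.coe_scalar, Matrix.scalar_apply,
      ← Matrix.smul_one_eq_diagonal, smul_mulVec, one_mulVec, qmap_smul, mu_spec, hr, Units.val_inv_eq_inv_val,
      Units.val_mk0]
    field_simp
  refine ⟨⟨_, hiso⟩, (dt_eq_one_iff H _).2 ?_, ?_⟩
  · show (((c * g : sim Q) : GL ι F) : Matrix ι ι F).det = 1
    rw [Subgroup.coe_mul, Units.val_mul, det_mul, GeneralLinearGroup.coe_scalar, Matrix.scalar_apply, det_diagonal,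
      Finset.prod_const, Finset.card_univ, H.card, (ds_eq_one_iff H g).1 h2, hr, Units.val_inv_eq_inv_val,
      Units.val_mk0, pow_mul, ← mul_pow, show r⁻¹ ^ 2 * (r * r) = 1 by field_simp, one_pow]
  · show simAut Q g = simAut Q (c * g)
    rw [map_mul, scalar_simAut, one_mul]

theorem sg_ds_of_inn (H : Setup Q m) {g : sim Q} (h : simAut Q g ∈ Cfsg.Inn (Cfsg.POmega F ⇑Q)) :
    H.sg g = 1 ∧ H.ds g = 1 := by
  rw [inn_eq] at h
  obtain ⟨s, hs, e⟩ := h
  have hk : simAut Q (g * (toSim Q s)⁻¹) = 1 := by rw [map_mul, map_inv, ← e]; exact mul_inv_cancel _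
  obtain ⟨c, hc⟩ := exists_scalar_of_simAut_eq_one H.nondeg H.five hk
  have hmu : mu (g * (toSim Q s)⁻¹) = c ^ 2 := mu_unique H.value fun v => by
    rw [hc, GeneralLinearGroup.coe_scalar, Units.val_pow_eq_pow_val, Matrix.scalar_apply,
      ← Matrix.smul_one_eq_diagonal, smul_mulVec, one_mulVec, qmap_smul]
  have h1 : H.sg (g * (toSim Q s)⁻¹) = 1 := by
    show sqSign _ = 1
    rw [hmu, Units.val_pow_eq_pow_val, pow_two]
    exact sqSign_of_isSquare ⟨_, rfl⟩
  have h2 : H.ds (g * (toSim Q s)⁻¹) = 1 := by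
    rw [ds_eq_one_iff, hmu, hc, GeneralLinearGroup.coe_scalar, Matrix.scalar_apply, det_diagonal, Finset.prod_const,
      Finset.card_univ, H.card, Units.val_pow_eq_pow_val, pow_mul]
  rw [map_mul, map_inv, sg_toSim, inv_one, mul_one] at h1
  rw [map_mul, map_inv, ds_toSim, ((mem_omega H s).1 hs).1, inv_one, mul_one] at h2
  exact ⟨h1, h2⟩

/-- `-1` as an isometry. -/
noncomputable def negIso (_H : Setup Q m) : Cfsg.isometryGroup F ⇑Q :=
  (toO Q).symm ⟨LinearEquiv.neg F, fun x => QuadraticMap.map_neg Q x⟩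

theorem negIso_coe (H : Setup Q m) : ((H.negIso).1 : Matrix ι ι F) = -1 :=
  Matrix.ext_iff_mulVec.2 fun x => by
    rw [negIso, toO_symm_apply, neg_mulVec, one_mulVec]; rfl

theorem th_negIso (H : Setup Q m) : H.th H.negIso = negSign Q H.nondeg H.two :=
  congrArg (spinor Q H.nondeg H.two) ((toO Q).apply_symm_apply _)

theorem dt_negIso (H : Setup Q m) : H.dt H.negIso = 1 := by
  rw [dt_eq_one_iff, negIso_coe, det_neg, det_one, mul_one, H.card, pow_mul, neg_one_sq, one_pow]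

theorem inn_iff (H : Setup Q m) {s : Cfsg.isometryGroup F ⇑Q} (hd : H.dt s = 1) :
    simAut Q (toSim Q s) ∈ Cfsg.Inn (Cfsg.POmega F ⇑Q) ↔ H.th s = 1 ∨ H.th s = negSign Q H.nondeg H.two := by
  constructor
  · intro h
    rw [inn_eq] at h
    obtain ⟨w, hw, e⟩ := h
    have hk : simAut Q (toSim Q (s * w⁻¹)) = 1 := by
      rw [map_mul, map_mul, map_inv, map_inv, ← e]; exact mul_inv_cancel _
    obtain ⟨c, hc⟩ := exists_scalar_of_simAut_eq_one H.nondeg H.five hk
    obtain ⟨v, hv⟩ := H.value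
    have hcc : (c : F) ^ 2 = 1 := by
      have h1 := (mem_isometryGroup_iff _ _).1 (s * w⁻¹).2 v
      rw [show ((s * w⁻¹ : Cfsg.isometryGroup F ⇑Q).1 : GL ι F) = GeneralLinearGroup.scalar ι c from hc,
        GeneralLinearGroup.coe_scalar, Matrix.scalar_apply, ← Matrix.smul_one_eq_diagonal, smul_mulVec, one_mulVec,
        qmap_smul] at h1
      exact mul_right_cancel₀ hv (h1.trans (one_mul _).symm)
    have hw1 := (mem_omega H w).1 hw
    rcases sq_eq_one_iff.1 hcc with h1 | h1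
    · left
      have : s = w := mul_inv_eq_one.1 (Subtype.ext (hc.trans (by
        rw [show c = 1 from Units.ext h1, map_one]; rfl)))
      rw [this, hw1.2]
    · right
      have : s * w⁻¹ = H.negIso := Subtype.ext (Units.ext (by
        rw [negIso_coe, show ((s * w⁻¹ : Cfsg.isometryGroup F ⇑Q).1 : GL ι F) = _ from hc,
          GeneralLinearGroup.coe_scalar, h1, map_neg, map_one]))
      rw [eq_mul_of_mul_inv_eq this, map_mul, hw1.2, mul_one, th_negIso]
  · intro h
    rw [inn_eq]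
    rcases h with h | h
    · exact ⟨s, (mem_omega H s).2 ⟨hd, h⟩, rfl⟩
    · refine ⟨H.negIso * s, (mem_omega H _).2 ⟨by rw [map_mul, dt_negIso, hd, one_mul],
        by rw [map_mul, th_negIso, h, Int.units_mul_self]⟩, ?_⟩
      show simAut Q (toSim Q (H.negIso * s)) = _
      rw [map_mul, map_mul, show simAut Q (toSim Q H.negIso) = 1 from ?_, one_mul]
      rw [show toSim Q H.negIso = ⟨GeneralLinearGroup.scalar ι (-1), scalar_mem_sim _⟩ from Subtype.ext (Units.ext (by
        rw [toSim_coe, negIso_coe, GeneralLinearGroup.coe_scalar, Units.val_neg, Units.val_one, map_neg, map_one]))]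
      exact scalar_simAut _

/-- A special isometry of non-square spinor norm. -/
theorem exists_t (H : Setup Q m) : ∃ t : Cfsg.isometryGroup F ⇑Q, H.dt t = 1 ∧ H.th t = -1 := by
  have hn : 2 ≤ finrank F (ι → F) := by rw [finrank_fintype_fun_eq_card]; have := H.five; omega
  obtain ⟨ν, hν⟩ := exists_not_isSquare H.two
  obtain ⟨u, hu⟩ := H.nondeg.exists_value hn 1
  obtain ⟨w, hw⟩ := H.nondeg.exists_value hn ν
  have hν0 : Q w ≠ 0 := by rw [hw]; exact fun h => hν (h ▸ IsSquare.zero)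
  have hu0 : Q u ≠ 0 := by rw [hu]; exact one_ne_zero
  refine ⟨(toO Q).symm (rO Q u * rO Q w), ?_, ?_⟩
  · show detSign Q H.nondeg H.two (toO Q _) = 1
    rw [MulEquiv.apply_symm_apply, map_mul, detSign_rO H.nondeg H.two hu0, detSign_rO H.nondeg H.two hν0]
    rfl
  · show spinor Q H.nondeg H.two (toO Q _) = -1
    rw [MulEquiv.apply_symm_apply, map_mul, spinor_rO H.nondeg H.two hu0, spinor_rO H.nondeg H.two hν0,
      hu, hw, sqSign_of_isSquare IsSquare.one, sqSign_of_not_isSquare hν, one_mul]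

/-- An isometry of determinant `-1`. -/
theorem exists_refl (H : Setup Q m) : ∃ s : Cfsg.isometryGroup F ⇑Q, H.dt s = -1 ∧ s * s = 1 := by
  obtain ⟨v, hv⟩ := H.value
  refine ⟨reflIso Q v, ?_, ?_⟩
  · show detSign Q H.nondeg H.two (toO Q ((toO Q).symm _)) = -1
    rw [MulEquiv.apply_symm_apply, detSign_rO H.nondeg H.two hv]
  · rw [reflIso, ← map_mul, rO_mul_self, map_one]

theorem psoAut_mem (H : Setup Q m) {x : MulAut (Cfsg.POmega F ⇑Q)} :
    x ∈ Cfsg.psoAut F ⇑Q ↔ ∃ s : Cfsg.isometryGroup F ⇑Q, H.dt s = 1 ∧ simAut Q (toSim Q s) = x := by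
  rw [psoAut_eq]
  constructor
  · rintro ⟨g, hg, rfl⟩
    obtain ⟨hiso, hdet⟩ := Subgroup.mem_subgroupOf.1 hg
    exact ⟨⟨g, hiso⟩, (dt_eq_one_iff H _).2 (congrArg Units.val (MonoidHom.mem_ker.1 hdet)), rfl⟩
  · rintro ⟨s, hs, rfl⟩
    exact ⟨_, Subgroup.mem_subgroupOf.2 ⟨s.2, MonoidHom.mem_ker.2 (Units.ext (by
      rw [GeneralLinearGroup.val_det_apply, Units.val_one]; exact (dt_eq_one_iff H s).1 hs))⟩, rfl⟩

theorem inn_le_pso (H : Setup Q m) : Cfsg.Inn (Cfsg.POmega F ⇑Q) ≤ Cfsg.psoAut F ⇑Q := by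
  rw [inn_eq]
  rintro _ ⟨s, hs, rfl⟩
  exact (psoAut_mem H).2 ⟨s, ((mem_omega H s).1 hs).1, rfl⟩

theorem pso_eq_inn (H : Setup Q m) (h0 : negSign Q H.nondeg H.two = -1) :
    Cfsg.psoAut F ⇑Q = Cfsg.Inn (Cfsg.POmega F ⇑Q) := by
  refine le_antisymm (fun x hx => ?_) (inn_le_pso H)
  obtain ⟨s, hs, rfl⟩ := (psoAut_mem H).1 hx
  rw [inn_iff H hs, h0]
  exact Int.units_eq_one_or _

theorem inn_iff_of_sq (H : Setup Q m) (h0 : negSign Q H.nondeg H.two = 1) {s : Cfsg.isometryGroup F ⇑Q}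
    (hd : H.dt s = 1) : simAut Q (toSim Q s) ∈ Cfsg.Inn (Cfsg.POmega F ⇑Q) ↔ H.th s = 1 := by
  rw [inn_iff H hd, h0, or_self]

theorem relIndex_pso (H : Setup Q m) :
    (negSign Q H.nondeg H.two = -1 → (Cfsg.Inn (Cfsg.POmega F ⇑Q)).relIndex (Cfsg.psoAut F ⇑Q) = 1) ∧
    (negSign Q H.nondeg H.two = 1 → (Cfsg.Inn (Cfsg.POmega F ⇑Q)).relIndex (Cfsg.psoAut F ⇑Q) = 2) := by
  refine ⟨fun h => Subgroup.relIndex_eq_one.2 (pso_eq_inn H h).le, fun h => ?_⟩
  obtain ⟨t, htd, htt⟩ := exists_t H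
  rw [Subgroup.relIndex, Subgroup.index_eq_two_iff]
  refine ⟨⟨_, (psoAut_mem H).2 ⟨t, htd, rfl⟩⟩, fun b => ?_⟩
  obtain ⟨s, hs, e⟩ := (psoAut_mem H).1 b.2
  rw [Subgroup.mem_subgroupOf, Subgroup.mem_subgroupOf, Subgroup.coe_mul, ← e, ← map_mul, ← map_mul,
    inn_iff_of_sq H h hs, inn_iff_of_sq H h (by rw [map_mul, hs, htd, one_mul]), map_mul, htt]
  rcases Int.units_eq_one_or (H.th s) with h' | h' <;> rw [h'] <;> simp [Xor']

/-- Spinor norms of conjugates under similitudes. -/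
theorem th_conj (H : Setup Q m) (g : sim Q) (s : Cfsg.isometryGroup F ⇑Q) :
    H.th (conjIso g s) = H.th s * (if H.sg g = 1 then 1 else H.dt s) := by
  have hr : ∀ v, Q v ≠ 0 → toO Q (conjIso g ((toO Q).symm (rO Q v)))
      = rO Q (((g : GL ι F) : Matrix ι ι F) *ᵥ v) := by
    intro v hv
    refine O.ext_app fun x => ?_
    rw [toO_apply]
    show (((g : GL ι F) * ((toO Q).symm (rO Q v)).1 * (g : GL ι F)⁻¹ : GL ι F) : Matrix ι ι F) *ᵥ x = _
    rw [Units.val_mul, Units.val_mul, ← mulVec_mulVec, ← mulVec_mulVec, toO_symm_apply, rO_app, rO_app,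
      mulVec_sub, mulVec_smul, mulVec_mulVec, ← Units.val_mul, mul_inv_cancel, Units.val_one, one_mulVec]
    set y := (((g : GL ι F)⁻¹ : GL ι F) : Matrix ι ι F) *ᵥ x with hy
    have hgy : ((g : GL ι F) : Matrix ι ι F) *ᵥ y = x := by
      rw [hy, mulVec_mulVec, ← Units.val_mul, mul_inv_cancel, Units.val_one, one_mulVec]
    have hp : polar Q (((g : GL ι F) : Matrix ι ι F) *ᵥ v) x = (mu g : F) * polar Q v y := by
      rw [← hgy]
      simp only [polar, ← mulVec_add, mu_spec]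
      ring
    rw [hp, mu_spec]
    congr 2
    field_simp
  let c : O Q →* ℤˣ := H.th.comp ((conjIso g).toMonoidHom.comp (toO Q).symm.toMonoidHom)
  let d : O Q →* ℤˣ := if H.sg g = 1 then spinor Q H.nondeg H.two
    else spinor Q H.nondeg H.two * detSign Q H.nondeg H.two
  have hcd : c = d := by
    refine hom_ext_rO H.nondeg H.two fun v hv => ?_
    show spinor Q H.nondeg H.two (toO Q (conjIso g ((toO Q).symm (rO Q v)))) = d (rO Q v)
    have hgv : Q (((g : GL ι F) : Matrix ι ι F) *ᵥ v) ≠ 0 := by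
      rw [mu_spec]; exact mul_ne_zero (mu g).ne_zero hv
    rw [hr v hv, spinor_rO H.nondeg H.two hgv, mu_spec, sqSign_mul H.two (mu g).ne_zero hv]
    show H.sg g * sqSign (Q v) = _
    rcases Int.units_eq_one_or (H.sg g) with h | h
    · simp only [d, h, if_true, one_mul, spinor_rO H.nondeg H.two hv]
    · simp only [d, h, show ((-1 : ℤˣ) = 1) ↔ False from by decide, if_false, MonoidHom.mul_apply,
        spinor_rO H.nondeg H.two hv, detSign_rO H.nondeg H.two hv]
      exact mul_comm _ _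
  have h := DFunLike.congr_fun hcd (toO Q s)
  simp only [c, MonoidHom.comp_apply, MulEquiv.coe_toMonoidHom, MulEquiv.symm_apply_apply] at h
  rw [h]
  by_cases hh : H.sg g = 1
  · simp only [d, hh, if_true, mul_one]; rfl
  · simp only [d, hh, if_false]; rfl

theorem dt_conj (H : Setup Q m) (g : sim Q) (s : Cfsg.isometryGroup F ⇑Q) : H.dt (conjIso g s) = H.dt s := by
  rw [← ds_toSim, ← ds_toSim, show toSim Q (conjIso g s) = g * toSim Q s * g⁻¹ from Subtype.ext rfl, map_mul, map_mul,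
    map_inv, mul_right_comm, mul_inv_cancel, one_mul]

theorem toSim_conj (g : sim Q) (s : Cfsg.isometryGroup F ⇑Q) : toSim Q (conjIso g s) = g * toSim Q s * g⁻¹ :=
  Subtype.ext rfl

section Square

theorem outHom_SO (H : Setup Q m) (h0 : negSign Q H.nondeg H.two = 1) {t s : Cfsg.isometryGroup F ⇑Q}
    (ht : H.dt t = 1 ∧ H.th t = -1) (hs : H.dt s = 1) :
    (H.th s = 1 → outHom Q (toSim Q s) = 1) ∧ (H.th s = -1 → outHom Q (toSim Q s) = outHom Q (toSim Q t)) := by
  refine ⟨fun h => outHom_eq_one.2 ((inn_iff_of_sq H h0 hs).2 h), fun h => ?_⟩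
  rw [← mul_inv_eq_one, ← map_inv, ← map_mul, ← map_inv, ← map_mul, outHom_eq_one,
    inn_iff_of_sq H h0 (by rw [map_mul, map_inv, hs, ht.1, inv_one, one_mul]), map_mul, map_inv, h, ht.2]
  exact mul_inv_cancel _

theorem out_mem (H : Setup Q m) (h0 : negSign Q H.nondeg H.two = 1) {t : Cfsg.isometryGroup F ⇑Q}
    (ht : H.dt t = 1 ∧ H.th t = -1) {g : sim Q} (h1 : H.sg g = 1) (h2 : H.ds g = 1) :
    outHom Q g = 1 ∨ outHom Q g = outHom Q (toSim Q t) := by
  obtain ⟨s, hs, e⟩ := exists_SO H h1 h2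
  have e' : outHom Q g = outHom Q (toSim Q s) := congrArg (QuotientGroup.mk' _) e
  rw [e']
  exact (Int.units_eq_one_or (H.th s)).imp (outHom_SO H h0 ht hs).1 (outHom_SO H h0 ht hs).2

theorem out_t_ne_one (H : Setup Q m) (h0 : negSign Q H.nondeg H.two = 1) {t : Cfsg.isometryGroup F ⇑Q}
    (ht : H.dt t = 1 ∧ H.th t = -1) : outHom Q (toSim Q t) ≠ 1 := by
  rw [Ne, outHom_eq_one, inn_iff_of_sq H h0 ht.1, ht.2]
  decide

theorem out_t_sq (H : Setup Q m) (h0 : negSign Q H.nondeg H.two = 1) {t : Cfsg.isometryGroup F ⇑Q}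
    (ht : H.dt t = 1 ∧ H.th t = -1) : outHom Q (toSim Q t) * outHom Q (toSim Q t) = 1 := by
  rw [← map_mul, ← map_mul]
  exact (outHom_SO H h0 ht (by rw [map_mul, ht.1, one_mul])).1 (by rw [map_mul, ht.2]; rfl)

theorem out_t_central (H : Setup Q m) (h0 : negSign Q H.nondeg H.two = 1) {t : Cfsg.isometryGroup F ⇑Q}
    (ht : H.dt t = 1 ∧ H.th t = -1) (g : sim Q) : Commute (outHom Q g) (outHom Q (toSim Q t)) := by
  have h := (outHom_SO H h0 ht (s := conjIso g t) (by rw [dt_conj, ht.1])).2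
    (by rw [th_conj, ht.2, ht.1, ite_self, mul_one])
  rw [toSim_conj, map_mul, map_mul, map_inv] at h
  exact mul_inv_eq_iff_eq_mul.1 h

/-- The basic commutation: `(s g)² = t g²` for `det s = -1` and non-square multiplier. -/
theorem out_sq (H : Setup Q m) (h0 : negSign Q H.nondeg H.two = 1) {t : Cfsg.isometryGroup F ⇑Q}
    (ht : H.dt t = 1 ∧ H.th t = -1) {g : sim Q} (hg : H.sg g = -1) {s : Cfsg.isometryGroup F ⇑Q}
    (hs : H.dt s = -1) :
    outHom Q (toSim Q s) * outHom Q g * (outHom Q (toSim Q s) * outHom Q g)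
      = outHom Q (toSim Q t) * (outHom Q g * outHom Q g) := by
  have h := (outHom_SO H h0 ht (s := s * conjIso g s) (by rw [map_mul, dt_conj, hs]; rfl)).2 (by
    rw [map_mul, th_conj, hg, if_neg (by decide), hs, ← mul_assoc, Int.units_mul_self, one_mul])
  rw [map_mul, toSim_conj, map_mul, map_mul, map_mul, map_inv] at h
  rw [← h]
  group

/-- An element of the coset of order dividing two decides the square of a non-square similitude. -/
theorem out_r_sq (H : Setup Q m) (h0 : negSign Q H.nondeg H.two = 1) {t : Cfsg.isometryGroup F ⇑Q}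
    (ht : H.dt t = 1 ∧ H.th t = -1) {g : sim Q} (hg : H.sg g = -1) {s : Cfsg.isometryGroup F ⇑Q} {c : Fˣ}
    (hgs : ((g * toSim Q s) * (g * toSim Q s) : sim Q).1 = GeneralLinearGroup.scalar ι c) :
    (H.dt s = 1 → outHom Q g * outHom Q g = 1) ∧
      (H.dt s = -1 → outHom Q g * outHom Q g = outHom Q (toSim Q t)) := by
  have h1 : outHom Q g * outHom Q (toSim Q s) * (outHom Q g * outHom Q (toSim Q s)) = 1 := by
    rw [← map_mul, ← map_mul, show (g * toSim Q s) * (g * toSim Q s) = ⟨GeneralLinearGroup.scalar ι c, scalar_mem_sim c⟩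
      from Subtype.ext hgs]
    show QuotientGroup.mk' _ (simAut Q _) = 1
    rw [scalar_simAut, map_one]
  constructor
  · intro hs
    rcases out_mem H h0 ht (sg_toSim H s) (by rw [ds_toSim, hs]) with e | e <;> rw [e] at h1
    · rwa [mul_one] at h1
    · exact sq_eq_one_of_comm h1 (out_t_central H h0 ht g) (out_t_sq H h0 ht)
  · intro hs
    exact sq_eq_of_conj h1 (out_sq H h0 ht hg hs) (out_t_sq H h0 ht)

end Square

set_option maxHeartbeats 1000000 in
/-- The full quotient, when the discriminant is a square. -/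
theorem pgo_dihedral (H : Setup Q m) (h0 : negSign Q H.nondeg H.two = 1) (hns : ∃ g : sim Q, H.sg g = -1) :
    ∃ φ : ↥(Cfsg.pgoAut F ⇑Q) →* DihedralGroup 4, Function.Surjective φ ∧
      φ.ker = (Cfsg.Inn (Cfsg.POmega F ⇑Q)).subgroupOf (Cfsg.pgoAut F ⇑Q) := by
  obtain ⟨t, ht⟩ := exists_t H
  obtain ⟨s, hs, hss⟩ := exists_refl H
  obtain ⟨g₁, hg₁⟩ := hns
  have hS2 : outHom Q (toSim Q s) * outHom Q (toSim Q s) = 1 := by rw [← map_mul, ← map_mul, hss, map_one, map_one]
  obtain ⟨g, hg, hR⟩ : ∃ g : sim Q, H.sg g = -1 ∧ outHom Q g * outHom Q g = outHom Q (toSim Q t) := by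
    rcases out_mem H h0 ht (g := g₁ * g₁) (by rw [map_mul, Int.units_mul_self])
      (by rw [map_mul, Int.units_mul_self]) with e | e
    · refine ⟨toSim Q s * g₁, by rw [map_mul, sg_toSim, hg₁, one_mul], ?_⟩
      rw [map_mul (outHom Q) g₁ g₁] at e
      rw [map_mul (outHom Q) (toSim Q s) g₁]
      exact sq_conj_of_sq_one (out_sq H h0 ht hg₁ hs) e
    · exact ⟨g₁, hg₁, ((map_mul (outHom Q) g₁ g₁).symm).trans e⟩
  set R := outHom Q g with hRdef
  set S := outHom Q (toSim Q s) with hSdef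
  set T := outHom Q (toSim Q t) with hTdef
  have hR4 : R ^ 4 = 1 := pow_four_eq_one hR (out_t_sq H h0 ht)
  have hSR : S * R * (S * R) = 1 := by rw [out_sq H h0 ht hg hs, hR, out_t_sq H h0 ht]
  refine exists_hom _ _ (dihedralHom R S hR4 hS2 hSR) ?_ ?_
  · refine dihedralHom_injective _ _ _ (by rw [pow_two, hR]; exact out_t_ne_one H h0 ht) fun k hk => ?_
    rw [hSdef, hRdef, ← map_pow, ← map_mul, outHom_eq_one] at hk
    obtain ⟨a, b⟩ := sg_ds_of_inn H hk
    rw [map_mul, map_pow, sg_toSim, one_mul, hg, neg_one_pow_eq_one_iff_even (by decide)] at a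
    obtain ⟨j, rfl⟩ := a
    rw [map_mul, map_pow, ds_toSim, hs, ← two_mul, pow_mul, Int.units_sq, one_pow] at b
    exact absurd b (by decide)
  · have hmem : ∀ y : sim Q, outHom Q y ∈ (Cfsg.pgoAut F ⇑Q).map (QuotientGroup.mk' (Cfsg.Inn (Cfsg.POmega F ⇑Q))) :=
      fun y => ⟨simAut Q y, by rw [pgoAut_eq]; exact ⟨y, rfl⟩, rfl⟩
    refine le_antisymm (dihedralHom_range_le _ _ _ (hmem g) (hmem _)) ?_
    · rintro _ ⟨x, hx, rfl⟩
      rw [pgoAut_eq] at hx
      obtain ⟨y, rfl⟩ := hx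
      show outHom Q y ∈ _
      obtain ⟨hRm, hSm⟩ := mem_range_dihedralHom hR4 hS2 hSR
      have hTm : T ∈ (dihedralHom R S hR4 hS2 hSR).range := hR ▸ mul_mem hRm hRm
      have main : ∀ z : sim Q, H.sg z = 1 → H.ds z = 1 → outHom Q z ∈ (dihedralHom R S hR4 hS2 hSR).range := by
        intro z a b
        rcases out_mem H h0 ht a b with e | e <;> rw [e]
        · exact one_mem _
        · exact hTm
      have main' : ∀ z : sim Q, H.sg z = 1 → outHom Q z ∈ (dihedralHom R S hR4 hS2 hSR).range := by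
        intro z a
        rcases Int.units_eq_one_or (H.ds z) with b | b
        · exact main z a b
        · have := main (toSim Q s * z) (by rw [map_mul, sg_toSim, a, one_mul]) (by rw [map_mul, ds_toSim, hs, b]; rfl)
          rw [map_mul] at this
          exact (Subgroup.mul_mem_cancel_left _ hSm).1 this
      rcases Int.units_eq_one_or (H.sg y) with a | a
      · exact main' y a
      · have := main' (g * y) (by rw [map_mul, hg, a]; rfl)
        rw [map_mul] at this
        exact (Subgroup.mul_mem_cancel_left _ hRm).1 this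

theorem sg_surj_ds_ker (H : Setup Q m) {g : sim Q} (hg : H.sg g = -1) (hd : H.ds g = 1) (P : Subgroup _)
    (hR : outHom Q g ∈ P) (h1 : ∀ z : sim Q, H.sg z = 1 → H.ds z = 1 → outHom Q z ∈ P) :
    H.ds.ker.map (outHom Q) ≤ P := by
  rintro _ ⟨y, hy, rfl⟩
  rw [SetLike.mem_coe, MonoidHom.mem_ker] at hy
  rcases Int.units_eq_one_or (H.sg y) with a | a
  · exact h1 y a hy
  · have := h1 (g * y) (by rw [map_mul, hg, a]; rfl) (by rw [map_mul, hd, hy, one_mul])
    rw [map_mul] at this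
    exact (Subgroup.mul_mem_cancel_left _ hR).1 this

theorem inndiag_two (H : Setup Q m) (h0 : negSign Q H.nondeg H.two = -1) {g : sim Q} (hg : H.sg g = -1)
    (hd : H.ds g = 1) :
    ∃ φ : ↥(H.ds.ker.map (simAut Q)) →* Multiplicative (ZMod 2), Function.Surjective φ ∧
      φ.ker = (Cfsg.Inn (Cfsg.POmega F ⇑Q)).subgroupOf (H.ds.ker.map (simAut Q)) := by
  have hR2 : outHom Q g * outHom Q g = 1 := by
    rw [← map_mul, outHom_eq_one]
    obtain ⟨s, hs, e⟩ := exists_SO H (g := g * g) (by rw [map_mul, Int.units_mul_self]) (by rw [map_mul, hd, one_mul])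
    rw [e, inn_iff H hs, h0]
    exact Int.units_eq_one_or _
  have h1 : ∀ z : sim Q, H.sg z = 1 → H.ds z = 1 → outHom Q z = 1 := by
    intro z a b
    obtain ⟨s, hs, e⟩ := exists_SO H a b
    rw [outHom_eq_one, e, inn_iff H hs, h0]
    exact Int.units_eq_one_or _
  have hR2' : outHom Q g ^ 2 = 1 := by rw [pow_two, hR2]
  refine exists_hom _ _ (twoHom _ hR2') (twoHom_injective hR2' fun hi =>
    absurd (hg.symm.trans (sg_ds_of_inn H (outHom_eq_one.1 hi)).1) (by decide)) ?_
  rw [Subgroup.map_map]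
  refine le_antisymm (twoHom_range_le hR2' ⟨g, hd, rfl⟩)
    (sg_surj_ds_ker H hg hd (twoHom _ hR2').range (mem_range_twoHom hR2') fun z a b => ?_)
  rw [h1 z a b]; exact one_mem _

theorem inndiag_four (H : Setup Q m) (h0 : negSign Q H.nondeg H.two = 1) {g : sim Q} (hg : H.sg g = -1)
    (hd : H.ds g = 1) {s : Cfsg.isometryGroup F ⇑Q} {c : Fˣ}
    (hgs : ((g * toSim Q s) * (g * toSim Q s) : sim Q).1 = GeneralLinearGroup.scalar ι c) :
    (H.dt s = -1 → ∃ φ : ↥(H.ds.ker.map (simAut Q)) →* Multiplicative (ZMod 4), Function.Surjective φ ∧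
      φ.ker = (Cfsg.Inn (Cfsg.POmega F ⇑Q)).subgroupOf (H.ds.ker.map (simAut Q))) ∧
    (H.dt s = 1 → ∃ φ : ↥(H.ds.ker.map (simAut Q)) →* Multiplicative (ZMod 2 × ZMod 2), Function.Surjective φ ∧
      φ.ker = (Cfsg.Inn (Cfsg.POmega F ⇑Q)).subgroupOf (H.ds.ker.map (simAut Q))) := by
  obtain ⟨t, ht⟩ := exists_t H
  have hRm : outHom Q g ∈ H.ds.ker.map (outHom Q) := ⟨g, hd, rfl⟩
  have hTm : outHom Q (toSim Q t) ∈ H.ds.ker.map (outHom Q) :=
    ⟨_, MonoidHom.mem_ker.2 (by rw [ds_toSim, ht.1]), rfl⟩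
  have hsg1 : outHom Q g ≠ 1 := fun hi =>
    absurd (hg.symm.trans (sg_ds_of_inn H ((outHom_eq_one (g := g)).1 hi)).1) (by decide)
  constructor
  · intro hs
    have hR := (out_r_sq H h0 ht hg hgs).2 hs
    have hR4 : outHom Q g ^ 4 = 1 := by
      exact pow_four_eq_one hR (out_t_sq H h0 ht)
    refine exists_hom _ _ (cyclicHom _ hR4) (cyclicHom_injective hR4 (by rw [pow_two, hR]; exact out_t_ne_one H h0 ht)) ?_
    rw [Subgroup.map_map]
    refine le_antisymm (cyclicHom_range_le' hR4 hRm)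
      (sg_surj_ds_ker H hg hd (cyclicHom _ hR4).range (mem_range_cyclicHom hR4) fun z a b => ?_)
    rcases out_mem H h0 ht a b with e | e <;> rw [e]
    · exact one_mem _
    · have hmR := mem_range_cyclicHom hR4
      rw [← hR]
      exact mul_mem hmR hmR
  · intro hs
    have hR := (out_r_sq H h0 ht hg hgs).1 hs
    have hR2 : outHom Q g ^ 2 = 1 := by rw [pow_two, hR]
    have hT2 : outHom Q (toSim Q t) ^ 2 = 1 := by rw [pow_two, out_t_sq H h0 ht]
    have hc := out_t_central H h0 ht g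
    refine exists_hom _ _ (kleinHom _ _ hR2 hT2 hc) (kleinHom_injective hR2 hT2 hc hsg1 (out_t_ne_one H h0 ht) ?_) ?_
    · intro hx
      rw [← map_mul, outHom_eq_one] at hx
      have := (sg_ds_of_inn H hx).1
      rw [map_mul, hg, sg_toSim, mul_one] at this
      exact absurd this (by decide)
    · rw [Subgroup.map_map]
      obtain ⟨hRr, hTr⟩ := mem_range_kleinHom hR2 hT2 hc
      refine le_antisymm (kleinHom_range_le hR2 hT2 hc hRm hTm) (sg_surj_ds_ker H hg hd _ hRr fun z a b => ?_)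
      rcases out_mem H h0 ht a b with e | e <;> rw [e]
      · exact one_mem _
      · exact hTr

end Setup

end Cfsg.Agent.H58.OrthoOuter
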