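import Mathlib
import Cfsg.Prelude.Def_LieTypeDatum

/-! Forms that are linearly equivalent have isomorphic projective similarity groups. -/

set_option autoImplicit false

namespace Cfsg.Agent.H58.SimIso

open Matrix

variable {F : Type*} [Field F] {ι κ : Type} [Fintype ι] [DecidableEq ι] [Fintype κ] [DecidableEq κ]

/-- Transport of matrices along a linear equivalence. -/
noncomputable def phiAlg (E : (κ → F) ≃ₗ[F] (ι → F)) : Matrix ι ι F ≃ₐ[F] Matrix κ κ F :=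
  (Matrix.toLinAlgEquiv'.trans (E.symm.conjAlgEquiv F)).trans Matrix.toLinAlgEquiv'.symm

theorem phiAlg_mulVec (E : (κ → F) ≃ₗ[F] (ι → F)) (M : Matrix ι ι F) (x : κ → F) :
    phiAlg E M *ᵥ x = E.symm (M *ᵥ E x) := by
  have h : Matrix.toLinAlgEquiv' (phiAlg E M) = E.symm.conjAlgEquiv F (Matrix.toLinAlgEquiv' M) := by
    simp [phiAlg]
  have h2 := LinearMap.congr_fun h x
  simpa using h2

/-- Transport of invertible matrices along a linear equivalence. -/
noncomputable def phi (E : (κ → F) ≃ₗ[F] (ι → F)) : GL ι F ≃* GL κ F :=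
  Units.mapEquiv (phiAlg E).toMulEquiv

theorem phi_coe (E : (κ → F) ≃ₗ[F] (ι → F)) (g : GL ι F) :
    (phi E g : Matrix κ κ F) = phiAlg E (g : Matrix ι ι F) := rfl

theorem phi_mulVec (E : (κ → F) ≃ₗ[F] (ι → F)) (g : GL ι F) (x : κ → F) :
    (phi E g : Matrix κ κ F) *ᵥ x = E.symm ((g : Matrix ι ι F) *ᵥ E x) := by
  rw [phi_coe, phiAlg_mulVec]

theorem phi_mem_scalars (E : (κ → F) ≃ₗ[F] (ι → F)) (g : GL ι F) :
    phi E g ∈ Cfsg.Geo.scalars κ F ↔ g ∈ Cfsg.Geo.scalars ι F := by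
  rw [Cfsg.Geo.mem_scalars_iff, Cfsg.Geo.mem_scalars_iff]
  refine exists_congr fun c => ?_
  rw [phi_coe]
  constructor
  · intro h
    refine (phiAlg E).injective ?_
    rw [h, map_smul, map_one]
  · intro h
    rw [h, map_smul, map_one]

theorem mem_sim_iff (E : (κ → F) ≃ₗ[F] (ι → F)) {Q : (ι → F) → F} {Q' : (κ → F) → F} {l : F} (hl : l ≠ 0)
    (h : ∀ x, Q (E x) = l * Q' x) (g : GL ι F) :
    phi E g ∈ Cfsg.Geo.quadSimilarityGroup (F := F) Q' ↔ g ∈ Cfsg.Geo.quadSimilarityGroup (F := F) Q := by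
  show (∃ c : Fˣ, ∀ x, Q' ((phi E g : Matrix κ κ F) *ᵥ x) = c * Q' x) ↔
    ∃ c : Fˣ, ∀ v, Q ((g : Matrix ι ι F) *ᵥ v) = c * Q v
  refine exists_congr fun c => ⟨fun hc v => ?_, fun hc x => ?_⟩
  · have h1 := hc (E.symm v)
    rw [phi_mulVec, LinearEquiv.apply_symm_apply] at h1
    have h2 := h (E.symm ((g : Matrix ι ι F) *ᵥ v))
    rw [LinearEquiv.apply_symm_apply, h1] at h2
    have h3 := h (E.symm v)
    rw [LinearEquiv.apply_symm_apply] at h3
    rw [h2, h3]; ring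
  · refine mul_left_cancel₀ hl ?_
    rw [← h, phi_mulVec, LinearEquiv.apply_symm_apply, hc, h]
    ring

/-- Equivalent forms (up to a scalar factor) have isomorphic `PGO`. -/
theorem nonempty_PGO_iso (E : (κ → F) ≃ₗ[F] (ι → F)) {Q : (ι → F) → F} {Q' : (κ → F) → F} {l : F} (hl : l ≠ 0)
    (h : ∀ x, Q (E x) = l * Q' x) : Nonempty (Cfsg.PGO F Q ≃* Cfsg.PGO F Q') := by
  have hmap : (Cfsg.Geo.quadSimilarityGroup (F := F) Q).map ((phi E : GL ι F ≃* GL κ F) : GL ι F →* GL κ F)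
      = Cfsg.Geo.quadSimilarityGroup (F := F) Q' := by
    ext y
    obtain ⟨x, rfl⟩ := (phi E).surjective y
    exact (Subgroup.mem_map_iff_mem (f := ((phi E : GL ι F ≃* GL κ F) : GL ι F →* GL κ F)) (phi E).injective).trans
      (mem_sim_iff E hl h x).symm
  let ψ := ((phi E).subgroupMap (Cfsg.Geo.quadSimilarityGroup (F := F) Q)).trans (MulEquiv.subgroupCongr hmap)
  refine ⟨QuotientGroup.congr _ _ ψ ?_⟩
  ext y
  obtain ⟨x, rfl⟩ := ψ.surjective y
  constructor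
  · intro hy
    obtain ⟨x', hx', e⟩ := Subgroup.mem_map.mp hy
    obtain rfl : x' = x := ψ.injective e
    exact (phi_mem_scalars E x'.1).mpr hx'
  · intro hy
    exact Subgroup.mem_map.mpr ⟨x, (phi_mem_scalars E x.1).mp hy, rfl⟩

end Cfsg.Agent.H58.SimIso
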