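import Mathlib
import Cfsg.Agent.H58.SimIso

/-!
# Bilinear forms of matrices: similarity groups, transport, congruence up to a scalar
-/

set_option autoImplicit false
set_option linter.unusedSectionVars false

namespace Cfsg.Agent.H58.FormSim

open Matrix Cfsg.Agent.H58.SimIso

variable {F : Type*} [Field F] {ι κ μ : Type} [Fintype ι] [DecidableEq ι] [Fintype κ] [DecidableEq κ]
  [Fintype μ] [DecidableEq μ]

/-- The bilinear form of a matrix. -/
def bf (H : Matrix ι ι F) (u v : ι → F) : F := u ⬝ᵥ (H *ᵥ v)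

theorem bf_single (H : Matrix ι ι F) (i j : ι) : bf H (Pi.single i 1) (Pi.single j 1) = H i j := by
  simp [bf]

theorem bf_mulVec (H A : Matrix ι ι F) (u v : ι → F) : bf H (A *ᵥ u) (A *ᵥ v) = bf (Aᵀ * H * A) u v := by
  rw [bf, bf, Matrix.mulVec_mulVec, Matrix.dotProduct_mulVec, Matrix.dotProduct_mulVec, ← Matrix.vecMul_transpose A u,
    Matrix.vecMul_vecMul, Matrix.mul_assoc]

theorem bf_inj {H H' : Matrix ι ι F} (h : ∀ u v, bf H u v = bf H' u v) : H = H' :=
  Matrix.ext fun i j => by rw [← bf_single H, ← bf_single H', h]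

theorem bf_smul_mat (l : F) (H : Matrix ι ι F) (u v : ι → F) : bf (l • H) u v = l * bf H u v := by
  simp [bf, Matrix.smul_mulVec, dotProduct_smul]

theorem bf_transpose (H : Matrix ι ι F) (u v : ι → F) : bf Hᵀ u v = bf H v u := by
  rw [bf, bf, Matrix.mulVec_transpose, dotProduct_comm, Matrix.dotProduct_mulVec]

theorem bf_comm {H : Matrix ι ι F} (hH : Hᵀ = H) (u v : ι → F) : bf H u v = bf H v u := by
  rw [← bf_transpose, hH]

theorem bf_eq_zero_left {H : Matrix ι ι F} (hH : H.det ≠ 0) {u : ι → F} (h : ∀ v, bf H u v = 0) : u = 0 := by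
  have h1 : u ᵥ* H = 0 := by
    funext j
    have := h (Pi.single j 1)
    rw [bf, Matrix.dotProduct_mulVec] at this
    simpa using this
  have h2 := congrArg (fun w => w ᵥ* H⁻¹) h1
  simpa [Matrix.vecMul_vecMul, Matrix.mul_nonsing_inv H (Ne.isUnit hH)] using h2

/-- The similarity group of the form of `H`. -/
abbrev sim (H : Matrix ι ι F) : Subgroup (GL ι F) := Cfsg.Geo.similarityGroup (F := F) (bf H)

theorem mem_sim_iff {H : Matrix ι ι F} {g : GL ι F} :
    g ∈ sim H ↔ ∃ c : Fˣ, (g : Matrix ι ι F)ᵀ * H * (g : Matrix ι ι F) = (c : F) • H := by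
  refine exists_congr fun c => ⟨fun h => bf_inj fun u v => ?_, fun h u v => ?_⟩
  · rw [← bf_mulVec, bf_smul_mat, h]
  · rw [bf_mulVec, h, bf_smul_mat]

theorem gsp_eq (m : ℕ) : Cfsg.GSp m F = sim (Matrix.J (Fin m) F) := rfl

/-- Congruence up to a scalar. -/
def Congr (H : Matrix ι ι F) (K : Matrix κ κ F) : Prop :=
  ∃ (E : (κ → F) ≃ₗ[F] (ι → F)) (l : F), l ≠ 0 ∧ ∀ u v, bf H (E u) (E v) = l * bf K u v

theorem Congr.refl (H : Matrix ι ι F) : Congr H H :=
  ⟨LinearEquiv.refl F _, 1, one_ne_zero, fun u v => (one_mul _).symm⟩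

theorem Congr.symm {H : Matrix ι ι F} {K : Matrix κ κ F} (h : Congr H K) : Congr K H := by
  obtain ⟨E, l, hl, h⟩ := h
  refine ⟨E.symm, l⁻¹, inv_ne_zero hl, fun u v => ?_⟩
  have h1 := h (E.symm u) (E.symm v)
  rw [E.apply_symm_apply, E.apply_symm_apply] at h1
  rw [h1, inv_mul_cancel_left₀ hl]

theorem Congr.trans {H : Matrix ι ι F} {K : Matrix κ κ F} {L : Matrix μ μ F} (h : Congr H K) (h' : Congr K L) :
    Congr H L := by
  obtain ⟨E, l, hl, h⟩ := h
  obtain ⟨E', l', hl', h'⟩ := h'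
  exact ⟨E'.trans E, l * l', mul_ne_zero hl hl', fun u v => by
    rw [LinearEquiv.trans_apply, LinearEquiv.trans_apply, h, h', mul_assoc]⟩

theorem congr_reindex (e : ι ≃ κ) (H : Matrix ι ι F) : Congr H (Matrix.reindex e e H) := by
  refine ⟨LinearEquiv.funCongrLeft F F e, 1, one_ne_zero, fun u v => ?_⟩
  simp only [bf, Matrix.mulVec, dotProduct, one_mul, LinearEquiv.funCongrLeft_apply, LinearMap.funLeft_apply,
    Matrix.reindex_apply, Matrix.submatrix_apply]
  refine Fintype.sum_equiv e _ _ fun i => ?_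
  rw [Equiv.symm_apply_apply]
  congr 1
  exact Fintype.sum_equiv e _ _ fun j => by rw [Equiv.symm_apply_apply]

theorem congr_of_eq {H H' : Matrix ι ι F} (Y : GL ι F) (l : F) (hl : l ≠ 0)
    (h : H' = l • ((Y : Matrix ι ι F)ᵀ * H * (Y : Matrix ι ι F))) : Congr H H' := by
  refine ⟨Matrix.toLinearEquiv' (Y : Matrix ι ι F) (Y.invertible), l⁻¹, inv_ne_zero hl, fun u v => ?_⟩
  show bf H ((Y : Matrix ι ι F) *ᵥ u) ((Y : Matrix ι ι F) *ᵥ v) = _
  rw [bf_mulVec, h, bf_smul_mat, inv_mul_cancel_left₀ hl]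

theorem congr_iff_matrix {H H' : Matrix ι ι F} :
    Congr H H' ↔ ∃ (Y : GL ι F) (l : Fˣ), H' = (l : F) • ((Y : Matrix ι ι F)ᵀ * H * (Y : Matrix ι ι F)) := by
  constructor
  · rintro ⟨E, l, hl, h⟩
    have hdet : (LinearMap.toMatrix' (E : (ι → F) →ₗ[F] (ι → F))).det ≠ 0 := by
      rw [LinearMap.det_toMatrix']
      exact (LinearEquiv.isUnit_det' E).ne_zero
    refine ⟨GeneralLinearGroup.mkOfDetNeZero _ hdet, (Units.mk0 l hl)⁻¹, bf_inj fun u v => ?_⟩
    show bf H' u v = bf (_ • ((LinearMap.toMatrix' (E : (ι → F) →ₗ[F] (ι → F)))ᵀ * H * _)) u v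
    rw [bf_smul_mat, Units.val_inv_eq_inv_val, Units.val_mk0, eq_inv_mul_iff_mul_eq₀ hl, ← h]
    conv_rhs => rw [GeneralLinearGroup.val_mkOfDetNeZero, ← bf_mulVec]
    simp only [← Matrix.toLin'_apply, Matrix.toLin'_toMatrix', LinearEquiv.coe_coe]
  · rintro ⟨Y, l, h⟩
    exact congr_of_eq Y l l.ne_zero h

/-- Forms congruent up to a scalar have isomorphic projective similarity groups. -/
theorem Congr.nonempty_iso {H : Matrix ι ι F} {K : Matrix κ κ F} (hc : Congr H K) :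
    Nonempty (Cfsg.projQuot (sim H) ≃* Cfsg.projQuot (sim K)) := by
  obtain ⟨E, l, hl, h⟩ := hc
  have hmem : ∀ g : GL ι F, phi E g ∈ sim K ↔ g ∈ sim H := by
    intro g
    refine exists_congr fun c => ⟨fun hg u v => ?_, fun hg u v => ?_⟩
    · have h1 := hg (E.symm u) (E.symm v)
      simp only [phi_mulVec, E.apply_symm_apply] at h1
      have h2 := h (E.symm ((g : Matrix ι ι F) *ᵥ u)) (E.symm ((g : Matrix ι ι F) *ᵥ v))
      have h3 := h (E.symm u) (E.symm v)
      rw [E.apply_symm_apply, E.apply_symm_apply] at h2 h3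
      rw [h2, h3, h1]; ring
    · refine mul_left_cancel₀ hl ?_
      rw [← h, phi_mulVec, phi_mulVec, E.apply_symm_apply, E.apply_symm_apply, hg, h]
      ring
  have hmap : (sim H).map ((phi E : GL ι F ≃* GL κ F) : GL ι F →* GL κ F) = sim K := by
    ext y
    obtain ⟨x, rfl⟩ := (phi E).surjective y
    exact (Subgroup.mem_map_iff_mem (f := ((phi E : GL ι F ≃* GL κ F) : GL ι F →* GL κ F)) (phi E).injective).trans
      (hmem x).symm
  let ψ := ((phi E).subgroupMap (sim H)).trans (MulEquiv.subgroupCongr hmap)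
  refine ⟨QuotientGroup.congr _ _ ψ ?_⟩
  ext y
  obtain ⟨x, rfl⟩ := ψ.surjective y
  constructor
  · intro hy
    obtain ⟨x', hx', e⟩ := Subgroup.mem_map.mp hy
    obtain rfl : x' = x := ψ.injective e
    exact (phi_mem_scalars E x'.1).mpr hx'
  · intro hy
    exact Subgroup.mem_map.mpr ⟨x, (phi_mem_scalars E x.1).mp hy, rfl⟩

/-- The determinant of a similarity squares to a power of its multiplier. -/
theorem det_sq {H : Matrix ι ι F} (hH : H.det ≠ 0) {g : GL ι F} {c : F}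
    (h : (g : Matrix ι ι F)ᵀ * H * (g : Matrix ι ι F) = c • H) : (g : Matrix ι ι F).det ^ 2 = c ^ Fintype.card ι := by
  have h1 := congrArg Matrix.det h
  rw [det_mul, det_mul, det_transpose, det_smul] at h1
  exact mul_right_cancel₀ hH (by linear_combination h1)

/-- The sign of a congruence class is preserved. -/
theorem Congr.transpose_eq {H : Matrix ι ι F} {K : Matrix κ κ F} (hc : Congr H K) {c : F} (hH : Hᵀ = c • H) :
    Kᵀ = c • K := by
  obtain ⟨E, l, hl, h⟩ := hc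
  refine bf_inj fun u v => mul_left_cancel₀ hl ?_
  rw [bf_transpose, ← h, bf_smul_mat, mul_left_comm, ← h, ← bf_smul_mat, ← hH, bf_transpose]

theorem Congr.det_ne_zero {H : Matrix ι ι F} {K : Matrix κ κ F} (hc : Congr H K) (hH : H.det ≠ 0) : K.det ≠ 0 := by
  obtain ⟨E, l, hl, h⟩ := hc
  intro h0
  obtain ⟨v, hv, hv0⟩ := Matrix.exists_vecMul_eq_zero_iff.2 h0
  refine hv (E.injective ?_)
  rw [map_zero]
  refine bf_eq_zero_left hH fun w => ?_
  rw [← E.apply_symm_apply w, h]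
  simp [bf, Matrix.dotProduct_mulVec, hv0]

/-- An abstract criterion for `projQuot S ≅ I`. -/
theorem projQuot_iso {S I : Subgroup (GL ι F)} (hIS : I ≤ S) (hI : ∀ g ∈ I, g ∈ Cfsg.Geo.scalars ι F → g = 1)
    (hS : ∀ g ∈ S, ∃ z ∈ Cfsg.Geo.scalars ι F, z * g ∈ I) : Nonempty (Cfsg.projQuot S ≃* ↥I) := by
  let f : ↥I →* Cfsg.projQuot S := (QuotientGroup.mk' _).comp (Subgroup.inclusion hIS)
  refine ⟨(MulEquiv.ofBijective f ⟨?_, ?_⟩).symm⟩
  · rw [injective_iff_map_eq_one]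
    intro g hg
    exact Subtype.ext (hI g g.2 ((QuotientGroup.eq_one_iff (Subgroup.inclusion hIS g)).1 hg))
  · intro y
    obtain ⟨g, rfl⟩ := QuotientGroup.mk'_surjective _ y
    obtain ⟨z, hz, hzg⟩ := hS g g.2
    refine ⟨⟨z * g, hzg⟩, ?_⟩
    refine (QuotientGroup.mk'_eq_mk' _).2 ⟨(Subgroup.inclusion hIS ⟨z * g, hzg⟩)⁻¹ * g, ?_, by rw [mul_inv_cancel_left]⟩
    rw [Subgroup.mem_subgroupOf]
    show (z * (g : GL ι F))⁻¹ * (g : GL ι F) ∈ _
    obtain ⟨c, rfl⟩ := hz
    rw [_root_.mul_inv_rev, mul_assoc, ← map_inv,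
      show Units.map (Matrix.scalar ι : F →+* Matrix ι ι F).toMonoidHom c⁻¹ * (g : GL ι F)
        = (g : GL ι F) * Units.map (Matrix.scalar ι : F →+* Matrix ι ι F).toMonoidHom c⁻¹ from
        GeneralLinearGroup.scalar_commute _ _, inv_mul_cancel_left]
    exact ⟨c⁻¹, rfl⟩

end Cfsg.Agent.H58.FormSim
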