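import Mathlib
import Cfsg.Agent.H58.FormSim
import Cfsg.Agent.Orthogonal.StdForms
import Cfsg.Agent.Symplectic.Std
import Cfsg.Agent.Orthogonal.Spinor
import Cfsg.Agent.H57.Discriminant

/-!
# Classification of symmetric and alternating forms up to a scalar, odd characteristic
-/

set_option autoImplicit false
set_option linter.unusedSectionVars false

namespace Cfsg.Agent.H58.FormClass

open Matrix Module Cfsg.Agent.Orthogonal Cfsg.Agent.H58.FormSim
open QuadraticMap (polar)

variable {F : Type*} [Field F] {ι κ : Type} [Fintype ι] [DecidableEq ι] [Fintype κ] [DecidableEq κ]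

/-! ### Alternating forms -/

/-- A non-singular alternating form is congruent to the standard one. -/
theorem congr_J {H : Matrix ι ι F} (hH : H.det ≠ 0) (halt : ∀ v, bf H v v = 0) :
    ∃ m, Fintype.card ι = 2 * m ∧ Congr H (Matrix.J (Fin m) F) := by
  have hbf : ∀ u v, Matrix.toBilin' H u v = bf H u v := fun u v => Matrix.toBilin'_apply' H u v
  obtain ⟨m, k, b, hb, hrad⟩ := Symplectic.exists_hyp_basis (Matrix.toBilin' H)
    (fun v => by rw [hbf]; exact halt v)
  obtain rfl : k = 0 := by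
    by_contra hk
    refine b.ne_zero (Sum.inr ⟨0, Nat.pos_of_ne_zero hk⟩) (bf_eq_zero_left hH fun v => ?_)
    rw [← hbf]
    exact hrad _ v
  let b' := b.reindex (Equiv.sumEmpty (Fin m ⊕ Fin m) (Fin 0))
  have hb' : ∀ s, b' s = b (Sum.inl s) := fun s => by simp [b']
  refine ⟨m, ?_, b'.equivFun.symm, -1, neg_ne_zero.2 one_ne_zero, ?_⟩
  · have h1 := Module.finrank_eq_card_basis b'
    simp only [Module.finrank_fintype_fun_eq_card, Fintype.card_sum, Fintype.card_fin] at h1
    omega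
  · set M : Matrix ι (Fin m ⊕ Fin m) F :=
      LinearMap.toMatrix' (b'.equivFun.symm : (Fin m ⊕ Fin m → F) →ₗ[F] (ι → F)) with hM
    have hMv : ∀ u, b'.equivFun.symm u = M *ᵥ u := fun u => by
      rw [hM, LinearMap.toMatrix'_mulVec]; rfl
    have key : ∀ u v, bf H (M *ᵥ u) (M *ᵥ v) = bf (Mᵀ * H * M) u v := fun u v => by
      rw [bf, bf, Matrix.mulVec_mulVec, Matrix.dotProduct_mulVec, Matrix.dotProduct_mulVec,
        ← Matrix.vecMul_transpose M u, Matrix.vecMul_vecMul, Matrix.mul_assoc]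
    have hMHM : Mᵀ * H * M = -Matrix.J (Fin m) F := by
      ext s t
      rw [← bf_single (Mᵀ * H * M), ← key, ← hMv, ← hMv, ← hbf]
      have h1 : ∀ s, b'.equivFun.symm (Pi.single s 1) = b (Sum.inl s) := fun s => by
        rw [← hb']
        exact b'.equivFun.symm_apply_eq.2 (funext fun j => by rw [b'.equivFun_self, Pi.single_apply]; simp [eq_comm])
      rw [h1, h1, Matrix.neg_apply, Matrix.J]
      rcases s with i | i <;> rcases t with j | j
      · simpa using hb.2.1 i j
      · simpa [Matrix.one_apply] using hb.1 i j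
      · have hswap : Matrix.toBilin' H (b (.inl (.inr i))) (b (.inl (.inl j)))
            = - Matrix.toBilin' H (b (.inl (.inl j))) (b (.inl (.inr i))) :=
          Symplectic.alt_swap (fun v => by rw [hbf]; exact halt v) _ _
        rw [hswap, hb.1 j i]
        simp [Matrix.one_apply, eq_comm]
      · simpa using hb.2.2 i j
    intro u v
    rw [hMv, hMv, key, hMHM, ← neg_one_smul F (Matrix.J (Fin m) F), bf_smul_mat]

theorem alt_of_skew (h2 : (2 : F) ≠ 0) {H : Matrix ι ι F} (hH : Hᵀ = (-1 : F) • H) (v : ι → F) : bf H v v = 0 := by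
  have h := bf_transpose H v v
  rw [hH, bf_smul_mat] at h
  exact (mul_eq_zero.1 (show (2 : F) * bf H v v = 0 by linear_combination -h)).resolve_left h2

/-! ### Quadratic forms and their Gram matrices -/

/-- The Gram matrix of the polar form. -/
noncomputable def gram (Q : QuadraticForm F (ι → F)) : Matrix ι ι F := LinearMap.BilinForm.toMatrix' Q.polarBilin

theorem bf_gram (Q : QuadraticForm F (ι → F)) (u v : ι → F) : bf (gram Q) u v = polar Q u v := by
  rw [bf, gram, ← Matrix.toBilin'_apply', Matrix.toBilin'_toMatrix', polarBilin_apply']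

theorem gram_transpose (Q : QuadraticForm F (ι → F)) : (gram Q)ᵀ = gram Q :=
  bf_inj fun u v => by rw [bf_transpose, bf_gram, bf_gram, QuadraticMap.polar_comm]

theorem gram_det {Q : QuadraticForm F (ι → F)} (hQ : Nondeg Q) : (gram Q).det ≠ 0 :=
  (LinearMap.BilinForm.nondegenerate_toMatrix'_iff).2 hQ.polarBilin |> Matrix.nondegenerate_iff_det_ne_zero.1

theorem bf_gram_self (Q : QuadraticForm F (ι → F)) (v : ι → F) : bf (gram Q) v v = 2 * Q v := by
  rw [bf_gram, polar_self']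

theorem sim_gram (h2 : (2 : F) ≠ 0) (Q : QuadraticForm F (ι → F)) :
    sim (gram Q) = Cfsg.Geo.quadSimilarityGroup (F := F) ⇑Q := by
  ext g
  refine exists_congr fun c => ⟨fun h v => ?_, fun h u v => ?_⟩
  · have := h v v
    rw [bf_gram_self, bf_gram_self] at this
    exact mul_left_cancel₀ h2 (this.trans (mul_left_comm _ _ _))
  · rw [bf_gram, bf_gram, polar, polar, ← Matrix.mulVec_add, h, h, h]
    ring

/-- The quadratic form of a symmetric matrix. -/
noncomputable def qf (H : Matrix ι ι F) : QuadraticForm F (ι → F) := (Matrix.toBilin' H).toQuadraticMap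

theorem qf_apply (H : Matrix ι ι F) (v : ι → F) : qf H v = bf H v v := by
  rw [qf, LinearMap.BilinMap.toQuadraticMap_apply, Matrix.toBilin'_apply']
  rfl

theorem polar_qf {H : Matrix ι ι F} (hH : Hᵀ = H) (u v : ι → F) : polar (qf H) u v = 2 * bf H u v := by
  rw [polar, qf_apply, qf_apply, qf_apply]
  have e : bf H (u + v) (u + v) = bf H u u + bf H u v + (bf H v u + bf H v v) := by
    simp only [bf, Matrix.mulVec_add, add_dotProduct, dotProduct_add]; ring
  rw [e, bf_comm hH v u]; ring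

theorem qf_nondeg (h2 : (2 : F) ≠ 0) {H : Matrix ι ι F} (hH : Hᵀ = H) (hd : H.det ≠ 0) : Nondeg (qf H) :=
  fun x hx => bf_eq_zero_left hd fun y => by
    have := hx y
    rw [polar_qf hH] at this
    exact (mul_eq_zero.1 this).resolve_left h2

/-- Similar quadratic forms have congruent Gram matrices. -/
theorem congr_gram (h2 : (2 : F) ≠ 0) {H : Matrix ι ι F} (hH : Hᵀ = H) {Q : QuadraticForm F (κ → F)}
    (E : (κ → F) ≃ₗ[F] (ι → F)) {α : F} (hα : α ≠ 0) (h : ∀ x, qf H (E x) = α * Q x) : Congr H (gram Q) := by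
  refine ⟨E, α / 2, div_ne_zero hα h2, fun u v => mul_left_cancel₀ h2 ?_⟩
  rw [← polar_qf hH, bf_gram, polar, polar, ← map_add, h, h, h]
  field_simp

variable [Fintype F]

theorem congr_odd (h2 : (2 : F) ≠ 0) {H : Matrix ι ι F} (hH : Hᵀ = H) (hd : H.det ≠ 0) {m : ℕ}
    (hn : Fintype.card ι = 2 * m + 1) : Congr H (gram (formOdd F m)) := by
  obtain ⟨-, α, E, hα, hE⟩ := (qf_nondeg h2 hH hd).classify_odd (m := m)
    (by rw [Module.finrank_fintype_fun_eq_card, hn])
  exact congr_gram h2 hH E hα hE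

/-- Completing the square in the anisotropic binary part. -/
theorem congr_minus (h2 : (2 : F) ≠ 0) (k : ℕ) {a b a' b' : F}
    (hab : ∀ z₁ z₂ : F, z₁ ^ 2 + a * z₁ * z₂ + b * z₂ ^ 2 = 0 → z₁ = 0 ∧ z₂ = 0)
    (hab' : ∀ z₁ z₂ : F, z₁ ^ 2 + a' * z₁ * z₂ + b' * z₂ ^ 2 = 0 → z₁ = 0 ∧ z₂ = 0) :
    Congr (gram (formMinus F k a' b')) (gram (formMinus F k a b)) := by
  have hodd : Odd (Fintype.card F) := by
    rw [← Nat.card_eq_fintype_card]; exact odd_natCard_of_two_ne_zero h2
  have hd := H57.disc_nonsquare hodd hab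
  have hd' := H57.disc_nonsquare hodd hab'
  have h0 : a' ^ 2 - 4 * b' ≠ 0 := fun h => hd' (h ▸ IsSquare.zero)
  have h0' : a ^ 2 - 4 * b ≠ 0 := fun h => hd (h ▸ IsSquare.zero)
  obtain ⟨r, hr⟩ : IsSquare ((a ^ 2 - 4 * b) * (a' ^ 2 - 4 * b')) :=
    (H57.isSquare_mul_nonsquare h0' h0 hd').2 hd
  set c := r / (a' ^ 2 - 4 * b') with hc
  have hc2 : c * c * (a' ^ 2 - 4 * b') = a ^ 2 - 4 * b := by
    rw [hc]; field_simp; linear_combination -hr
  have hc0 : c ≠ 0 := fun h => h0' (by rw [← hc2, h, zero_mul, zero_mul])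
  let T : ((Fin k ⊕ Fin k) ⊕ Fin 2 → F) →ₗ[F] ((Fin k ⊕ Fin k) ⊕ Fin 2 → F) :=
    { toFun := fun v => Sum.elim (fun s => v (.inl s))
        ![v (.inr 0) + a / 2 * v (.inr 1) - a' / 2 * (c * v (.inr 1)), c * v (.inr 1)]
      map_add' := fun v w => by
        funext s; rcases s with s | j
        · rfl
        · fin_cases j <;> simp <;> ring
      map_smul' := fun l v => by
        funext s; rcases s with s | j
        · rfl
        · fin_cases j <;> simp <;> ring }
  have hinj : Function.Injective T := by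
    rw [← LinearMap.ker_eq_bot, eq_bot_iff]
    intro v hv
    have e1 : c * v (.inr 1) = 0 := congrFun hv (.inr 1)
    have e0 : v (.inr 0) + a / 2 * v (.inr 1) - a' / 2 * (c * v (.inr 1)) = 0 := congrFun hv (.inr 0)
    have hv1 := (mul_eq_zero.1 e1).resolve_left hc0
    funext s; rcases s with s | j
    · exact congrFun hv (.inl s)
    · fin_cases j
      · show v (.inr 0) = 0
        simpa [hv1] using e0
      · exact hv1
  refine ⟨LinearEquiv.ofInjectiveEndo T hinj, 1, one_ne_zero, fun u v => ?_⟩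
  have h : ∀ x, formMinus F k a' b' (T x) = formMinus F k a b x := fun x => by
    simp only [T, formMinus_coe, Cfsg.quadFormMinus, LinearMap.coe_mk, AddHom.coe_mk, Sum.elim_inl, Sum.elim_inr,
      Matrix.cons_val_zero, Matrix.cons_val_one]
    congr 1
    field_simp
    linear_combination -(x (.inr 1) ^ 2) * hc2
  rw [one_mul, bf_gram, bf_gram, polar, polar, ← map_add, LinearEquiv.coe_ofInjectiveEndo, h, h, h]

theorem congr_even (h2 : (2 : F) ≠ 0) {H : Matrix ι ι F} (hH : Hᵀ = H) (hd : H.det ≠ 0) {k : ℕ}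
    (hn : Fintype.card ι = 2 * (k + 1)) {a b : F}
    (hab : ∀ z₁ z₂ : F, z₁ ^ 2 + a * z₁ * z₂ + b * z₂ ^ 2 = 0 → z₁ = 0 ∧ z₂ = 0) :
    Congr H (gram (formPlus F (k + 1))) ∨ Congr H (gram (formMinus F k a b)) := by
  rcases (qf_nondeg h2 hH hd).classify_even (m := k) (by rw [Module.finrank_fintype_fun_eq_card, hn]) with
    ⟨E, hE⟩ | ⟨ζ, E, hζ, hE⟩
  · exact Or.inl (congr_gram h2 hH E one_ne_zero fun x => (hE x).trans (one_mul _).symm)
  · exact Or.inr ((congr_gram h2 hH E one_ne_zero fun x => (hE x).trans (one_mul _).symm).trans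
      (congr_minus h2 k hab (aniso_of_no_root hζ)))

theorem exists_aniso (h2 : (2 : F) ≠ 0) :
    ∃ a b : F, ∀ z₁ z₂ : F, z₁ ^ 2 + a * z₁ * z₂ + b * z₂ ^ 2 = 0 → z₁ = 0 ∧ z₂ = 0 := by
  obtain ⟨ν, hν⟩ := exists_not_isSquare h2
  refine ⟨0, -ν, fun z₁ z₂ h => ?_⟩
  by_cases hz : z₂ = 0
  · subst hz; exact ⟨by simpa using h, rfl⟩
  · refine absurd ⟨z₁ / z₂, ?_⟩ hν
    field_simp
    linear_combination -h

theorem not_congr_plus_minus (h2 : (2 : F) ≠ 0) (k : ℕ) {a b : F}
    (hab : ∀ z₁ z₂ : F, z₁ ^ 2 + a * z₁ * z₂ + b * z₂ ^ 2 = 0 → z₁ = 0 ∧ z₂ = 0) :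
    ¬ Congr (gram (formPlus F (k + 1))) (gram (formMinus F k a b)) := by
  intro hc
  have hodd : Odd (Fintype.card F) := by
    rw [← Nat.card_eq_fintype_card]; exact odd_natCard_of_two_ne_zero h2
  let e : Fin (k + 1) ⊕ Fin (k + 1) ≃ (Fin k ⊕ Fin k) ⊕ Fin 2 :=
    Fintype.equivOfCardEq (by simp; omega)
  obtain ⟨Y, l, hY⟩ := congr_iff_matrix.1 ((congr_reindex e _).symm.trans hc)
  have hP : gram (formPlus F (k + 1)) = fromBlocks 0 1 1 0 := by
    rw [← H57.gram_quadFormPlus (F := F) (k + 1)]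
    ext i j
    rw [← bf_single (gram _), bf_gram]
    rfl
  have hM : gram (formMinus F k a b) = fromBlocks (fromBlocks 0 1 1 0) 0 0 !![2, a; a, 2 * b] := by
    rw [← H57.gram_quadFormMinus (F := F) k a b]
    ext i j
    rw [← bf_single (gram _), bf_gram]
    rfl
  have h := congrArg Matrix.det hY
  rw [det_smul, det_mul, det_mul, det_transpose, det_reindex_self, hP, hM, H57.det_hyperbolicGram,
    det_fromBlocks_zero₂₁, H57.det_hyperbolicGram, det_fin_two_of] at h
  have hcard : Fintype.card ((Fin k ⊕ Fin k) ⊕ Fin 2) = 2 * (k + 1) := by simp; omega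
  rw [hcard] at h
  apply H57.disc_nonsquare hodd hab
  refine ⟨(l : F) ^ (k + 1) * ((Y : Matrix ((Fin k ⊕ Fin k) ⊕ Fin 2) ((Fin k ⊕ Fin k) ⊕ Fin 2) F)).det, ?_⟩
  have h1 : ((-1 : F) ^ k) * ((-1 : F) ^ k) = 1 := by rw [← mul_pow, neg_one_mul, neg_neg, one_pow]
  linear_combination -(-1 : F) ^ k * h - ((a ^ 2 - 4 * b) -
    ((l : F) ^ (k + 1) * ((Y : Matrix ((Fin k ⊕ Fin k) ⊕ Fin 2) ((Fin k ⊕ Fin k) ⊕ Fin 2) F)).det) ^ 2) * h1

end Cfsg.Agent.H58.FormClass
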