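import Mathlib
import Cfsg.Agent.H58.FormClass
import Cfsg.Agent.H58.OrthoKlein
import Cfsg.Agent.S0269

/-!
# Determinants of similarities; symplectic and orthogonal projective similarity groups differ
-/

set_option autoImplicit false
set_option linter.unusedSectionVars false

namespace Cfsg.Agent.H58.FormInvariants

open Matrix Module Cfsg.Agent.Orthogonal Cfsg.Agent.H58.FormSim Cfsg.Agent.H58.FormClass Cfsg.Agent.H58.SimIso
open Cfsg.Agent.H58.OrthoKlein (dsign dsign_mul mu mu_mul mu_one mu_unique mu_spec)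
open QuadraticMap (polar)

variable {F : Type*} [Field F] {ι κ : Type} [Fintype ι] [DecidableEq ι] [Fintype κ] [DecidableEq κ]

/-- `g` multiplies the form of `H` by `c`. -/
def Sims (H : Matrix ι ι F) (g : Matrix ι ι F) (c : F) : Prop := gᵀ * H * g = c • H

/-- Similarities transport along congruences, with the same determinant and multiplier. -/
theorem transport {H : Matrix ι ι F} {K : Matrix κ κ F} (hc : Congr H K) {g : Matrix ι ι F} {c : F}
    (hg : Sims H g c) : ∃ g' : Matrix κ κ F, Sims K g' c ∧ g'.det = g.det := by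
  obtain ⟨E, l, hl, h⟩ := hc
  refine ⟨phiAlg E g, bf_inj fun u v => ?_, ?_⟩
  · refine mul_left_cancel₀ hl ?_
    rw [← bf_mulVec, ← h, phiAlg_mulVec, phiAlg_mulVec, E.apply_symm_apply, E.apply_symm_apply, bf_mulVec,
      show gᵀ * H * g = c • H from hg, bf_smul_mat, bf_smul_mat, h]
    ring
  · rw [← LinearMap.det_toLin' (phiAlg E g), ← LinearMap.det_toLin' g]
    have : Matrix.toLin' (phiAlg E g)
        = (E.symm : (ι → F) →ₗ[F] (κ → F)) ∘ₗ Matrix.toLin' g ∘ₗ (E : (κ → F) →ₗ[F] (ι → F)) :=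
      LinearMap.ext fun x => by simp [phiAlg_mulVec]
    rw [this]
    exact LinearMap.det_conj (Matrix.toLin' g) E.symm

/-! ### Symplectic similarities -/

theorem det_symplectic (h2 : (2 : F) ≠ 0) {m : ℕ} (A : Matrix.symplecticGroup (Fin m) F) :
    (A : Matrix (Fin m ⊕ Fin m) (Fin m ⊕ Fin m) F).det = 1 := by
  let d : Matrix.symplecticGroup (Fin m) F →* F :=
    { toFun := fun A => (A : Matrix (Fin m ⊕ Fin m) (Fin m ⊕ Fin m) F).det
      map_one' := Matrix.det_one
      map_mul' := fun A B => Matrix.det_mul _ _ }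
  have hsq : ∀ B, d B * d B = 1 := fun B => by
    have h := congrArg Matrix.det ((SymplecticGroup.mem_iff').1 B.2)
    rw [det_mul, det_mul, det_transpose] at h
    have hJ : (Matrix.J (Fin m) F).det ≠ 0 := (Matrix.isUnit_det_J (Fin m) F).ne_zero
    exact mul_right_cancel₀ hJ (by linear_combination h)
  show d A = 1
  have hA : A ∈ Subgroup.closure (Symplectic.TSet m F) := by rw [Symplectic.closure_TSet]; trivial
  induction hA using Subgroup.closure_induction with
  | mem x hx =>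
    obtain ⟨w, c, rfl⟩ := hx
    rw [show Symplectic.T w c = Symplectic.T w (c / 2) * Symplectic.T w (c / 2) by
      rw [Symplectic.T_mul]; congr 1; field_simp; ring, map_mul, hsq]
  | one => exact map_one d
  | mul x y _ _ hx hy => rw [map_mul, hx, hy, one_mul]
  | inv x _ hx =>
    have h := map_mul d x x⁻¹
    rw [mul_inv_cancel, map_one, hx, one_mul] at h
    exact h.symm

theorem exists_sim_J (m : ℕ) (c : F) :
    ∃ g, Sims (Matrix.J (Fin m) F) g c ∧ g.det = c ^ m := by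
  refine ⟨fromBlocks (c • (1 : Matrix (Fin m) (Fin m) F)) 0 0 1, ?_, ?_⟩
  · simp [Sims, Matrix.J, fromBlocks_transpose, fromBlocks_multiply, fromBlocks_smul]
  · rw [det_fromBlocks_zero₂₁, det_smul, det_one, Fintype.card_fin, mul_one, mul_one]

theorem det_sim_J (h2 : (2 : F) ≠ 0) {m : ℕ} {g : Matrix (Fin m ⊕ Fin m) (Fin m ⊕ Fin m) F} {c : F} (hc : c ≠ 0)
    (hg : Sims (Matrix.J (Fin m) F) g c) : g.det = c ^ m := by
  obtain ⟨D, hD, hdD⟩ := exists_sim_J m c⁻¹
  have hmem : g * D ∈ Matrix.symplecticGroup (Fin m) F := by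
    rw [SymplecticGroup.mem_iff', Matrix.transpose_mul, show Dᵀ * gᵀ * Matrix.J (Fin m) F * (g * D)
      = Dᵀ * (gᵀ * Matrix.J (Fin m) F * g) * D by simp only [Matrix.mul_assoc], show gᵀ * _ * g = _ from hg,
      Matrix.mul_smul, Matrix.smul_mul, show Dᵀ * _ * D = _ from hD, smul_smul, mul_inv_cancel₀ hc, one_smul]
  have h := det_symplectic h2 ⟨_, hmem⟩
  simp only [det_mul, hdD, inv_pow] at h
  exact mul_inv_eq_one₀ (pow_ne_zero m hc) |>.1 h

theorem skew_det (h2 : (2 : F) ≠ 0) {H : Matrix ι ι F} (hd : H.det ≠ 0) (hH : Hᵀ = (-1 : F) • H) :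
    ∃ m, Fintype.card ι = 2 * m ∧ (∀ g c, c ≠ 0 → Sims H g c → g.det = c ^ m) ∧
      ∀ c, ∃ g, Sims H g c ∧ g.det = c ^ m := by
  obtain ⟨m, hm, hc⟩ := congr_J hd (alt_of_skew h2 hH)
  refine ⟨m, hm, fun g c hc0 hg => ?_, fun c => ?_⟩
  · obtain ⟨g', hg', e⟩ := transport hc hg
    rw [← e, det_sim_J h2 hc0 hg']
  · obtain ⟨g, hg, e⟩ := exists_sim_J (F := F) m c
    obtain ⟨g', hg', e'⟩ := transport hc.symm hg
    exact ⟨g', hg', e'.trans e⟩

/-! ### Orthogonal similarities -/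

theorem sims_gram {Q : QuadraticForm F (ι → F)} {g : Matrix ι ι F} {c : F} (h : ∀ v, Q (g *ᵥ v) = c * Q v) :
    Sims (gram Q) g c := bf_inj fun u v => by
  rw [← bf_mulVec, bf_smul_mat, bf_gram, bf_gram, polar, polar, ← Matrix.mulVec_add, h, h, h]
  ring

theorem sim_eq_qf (h2 : (2 : F) ≠ 0) {H : Matrix ι ι F} (hH : Hᵀ = H) :
    sim H = Cfsg.Geo.quadSimilarityGroup (F := F) ⇑(qf H) := by
  ext g
  refine exists_congr fun c => ⟨fun h v => by rw [qf_apply, qf_apply]; exact h v v, fun h u v => ?_⟩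
  refine mul_left_cancel₀ h2 ?_
  rw [← polar_qf hH, mul_left_comm, ← polar_qf hH, polar, polar, ← Matrix.mulVec_add, h, h, h]
  ring

theorem exists_refl (h2 : (2 : F) ≠ 0) {H : Matrix ι ι F} (hH : Hᵀ = H) (hd : H.det ≠ 0) (hn : 0 < Fintype.card ι) :
    ∃ g, Sims H g 1 ∧ g.det = -1 := by
  obtain ⟨v, hv⟩ := OrthoKlein.exists_ne_zero_value (qf_nondeg h2 hH hd) hn
  refine ⟨Cfsg.reflectionMatrix (⇑(qf H)) v, bf_inj fun u w => ?_, det_reflectionMatrix hv⟩
  rw [← bf_mulVec, bf_smul_mat, one_mul]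
  refine mul_left_cancel₀ h2 ?_
  rw [← polar_qf hH, ← polar_qf hH, ← reflIso_val]
  have hiso := (mem_isometryGroup_iff _ _).1 (reflIso (qf H) v).2
  simp only [polar, ← Matrix.mulVec_add, hiso]

variable [Fintype F]

theorem exists_sim_plus (m : ℕ) (c : F) :
    ∃ g, Sims (gram (formPlus F m)) g c ∧ g.det = c ^ m := by
  refine ⟨fromBlocks (c • (1 : Matrix (Fin m) (Fin m) F)) 0 0 1, sims_gram fun v => ?_, ?_⟩
  · simp [formPlus_coe, Cfsg.quadFormPlus, fromBlocks_mulVec, smul_mulVec, Finset.mul_sum, mul_assoc]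
  · rw [det_fromBlocks_zero₂₁, det_smul, det_one, Fintype.card_fin, mul_one, mul_one]

theorem exists_sim_minus (h2 : (2 : F) ≠ 0) (m : ℕ) {a b : F}
    (hab : ∀ z₁ z₂ : F, z₁ ^ 2 + a * z₁ * z₂ + b * z₂ ^ 2 = 0 → z₁ = 0 ∧ z₂ = 0) (c : F) :
    ∃ g, Sims (gram (formMinus F m a b)) g c ∧ g.det = c ^ (m + 1) := by
  have h4 : (4 : F) ≠ 0 := by rw [show (4 : F) = 2 * 2 by norm_num]; exact mul_ne_zero h2 h2
  have hd : b - a ^ 2 / 4 ≠ 0 := fun h => by
    refine one_ne_zero (hab (-a / 2) 1 ?_).2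
    field_simp at h ⊢
    linear_combination h
  have hodd : Odd (Fintype.card F) := by
    rw [← Nat.card_eq_fintype_card]; exact odd_natCard_of_two_ne_zero h2
  obtain ⟨x, y, hxy⟩ := FiniteField.exists_root_sum_quadratic (f := Polynomial.X ^ 2)
    (g := Polynomial.C (b - a ^ 2 / 4) * Polynomial.X ^ 2 - Polynomial.C c)
    (Polynomial.degree_X_pow 2)
    ((Polynomial.degree_sub_eq_left_of_degree_lt (by
      rw [Polynomial.degree_C_mul_X_pow 2 hd]
      exact Polynomial.degree_C_le.trans_lt (by decide))).trans (Polynomial.degree_C_mul_X_pow 2 hd))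
    (Nat.odd_iff.1 hodd)
  simp only [Polynomial.eval_pow, Polynomial.eval_X, Polynomial.eval_sub, Polynomial.eval_mul, Polynomial.eval_C] at hxy
  set w := x - a / 2 * y with hw
  have hnorm : w ^ 2 + a * w * y + b * y ^ 2 = c := by
    rw [hw]
    field_simp at hxy ⊢
    linear_combination hxy
  refine ⟨fromBlocks (fromBlocks (c • (1 : Matrix (Fin m) (Fin m) F)) 0 0 1) 0 0 !![w, -(b * y); y, w + a * y],
    sims_gram fun v => ?_, ?_⟩
  · simp [formMinus_coe, Cfsg.quadFormMinus, fromBlocks_mulVec, smul_mulVec, Matrix.mulVec, dotProduct,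
      Fin.sum_univ_two, Matrix.one_apply, Finset.mul_sum, mul_add, mul_assoc]
    rw [← hnorm]; ring
  · rw [det_fromBlocks_zero₂₁, det_fromBlocks_zero₂₁, det_smul, det_one, Fintype.card_fin, mul_one, mul_one,
      Matrix.det_fin_two_of, pow_succ c m]
    linear_combination c ^ m * hnorm

/-- Every non-zero scalar is the multiplier of a similarity of the expected determinant. -/
theorem symm_exists_sim (h2 : (2 : F) ≠ 0) {H : Matrix ι ι F} (hH : Hᵀ = H) (hd : H.det ≠ 0) {k : ℕ}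
    (hn : Fintype.card ι = 2 * (k + 1)) (c : F) : ∃ g, Sims H g c ∧ g.det = c ^ (k + 1) := by
  obtain ⟨a, b, hab⟩ := exists_aniso (F := F) h2
  rcases congr_even h2 hH hd hn hab with hc | hc
  · obtain ⟨g, hg, e⟩ := exists_sim_plus (F := F) (k + 1) c
    obtain ⟨g', hg', e'⟩ := transport hc.symm hg
    exact ⟨g', hg', e'.trans e⟩
  · obtain ⟨g, hg, e⟩ := exists_sim_minus h2 k hab c
    obtain ⟨g', hg', e'⟩ := transport hc.symm hg
    exact ⟨g', hg', e'.trans e⟩

/-- The projective similarity group of a symmetric form in even dimension is not that of an alternating one. -/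
theorem not_iso_PGSp (h2 : (2 : F) ≠ 0) {H : Matrix ι ι F} (hH : Hᵀ = H) (hd : H.det ≠ 0) {m : ℕ} (hm : 2 ≤ m)
    (hn : Fintype.card ι = 2 * m) : ¬ Nonempty (Cfsg.projQuot (sim H) ≃* Cfsg.PGSp m F) := by
  rintro ⟨i⟩
  have hodd : Odd (Fintype.card F) := by
    rw [← Nat.card_eq_fintype_card]; exact odd_natCard_of_two_ne_zero h2
  have hperf : commutator (Matrix.symplecticGroup (Fin m) F) = ⊤ := by
    refine S0269.result m ?_
    rcases Nat.lt_or_ge m 3 with h | h
    · refine Or.inr (Or.inl ⟨by omega, ?_⟩)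
      have := Fintype.one_lt_card (α := F)
      rw [Nat.odd_iff] at hodd
      omega
    · exact Or.inl h
  -- the two signs on the orthogonal side
  have hQ := qf_nondeg h2 hH hd
  have hv := OrthoKlein.exists_ne_zero_value hQ (by omega)
  let S : Cfsg.Geo.quadSimilarityGroup (F := F) ⇑(qf H) →* ℤˣ × ℤˣ :=
    { toFun := fun g => (sqSign (mu g : F), dsign m g)
      map_one' := by
        refine Prod.ext ?_ ?_
        · show sqSign (mu (1 : OrthoAut.sim (qf H)) : F) = 1
          rw [mu_one hv]; exact sqSign_of_isSquare IsSquare.one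
        · show dsign m (1 : OrthoAut.sim (qf H)) = 1
          exact if_pos (by rw [mu_one hv]; simp)
      map_mul' := fun g h => by
        refine Prod.ext ?_ (dsign_mul h2 hQ hn hv g h)
        show sqSign (mu (g * h) : F) = sqSign (mu g : F) * sqSign (mu h : F)
        rw [mu_mul hv, Units.val_mul, sqSign_mul h2 (mu g).ne_zero (mu h).ne_zero] }
  classical
  let S' : sim H →* ℤˣ × ℤˣ := S.comp (MulEquiv.subgroupCongr (sim_eq_qf h2 hH)).toMonoidHom
  have hS : ∀ (g : sim H) (c : Fˣ), Sims H ((g : GL ι F) : Matrix ι ι F) c →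
      S' g = (sqSign (c : F), if ((g : GL ι F) : Matrix ι ι F).det = (c : F) ^ m then 1 else -1) := by
    intro g c hc
    have hmu : mu ((MulEquiv.subgroupCongr (sim_eq_qf h2 hH)) g) = c := mu_unique hv fun v => by
      rw [qf_apply, qf_apply]
      show bf H (_ *ᵥ v) (_ *ᵥ v) = _
      rw [bf_mulVec]
      exact (congrArg (fun M => bf M v v) hc).trans (bf_smul_mat _ _ _ _)
    show (sqSign ((mu ((MulEquiv.subgroupCongr (sim_eq_qf h2 hH)) g) : Fˣ) : F),
      dsign m ((MulEquiv.subgroupCongr (sim_eq_qf h2 hH)) g)) = _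
    rw [hmu]
    refine Prod.ext rfl ?_
    unfold dsign
    rw [hmu]
    rfl
  have hker : (Cfsg.Geo.scalars ι F).subgroupOf (sim H) ≤ S'.ker := by
    intro g hg
    obtain ⟨c, hc⟩ := (Cfsg.Geo.mem_scalars_iff _).1 (Subgroup.mem_subgroupOf.1 hg)
    have hs : Sims H ((g : GL ι F) : Matrix ι ι F) ((c ^ 2 : Fˣ) : F) := by
      rw [Sims, hc, Matrix.transpose_smul, Matrix.transpose_one, Matrix.smul_mul, Matrix.one_mul, Matrix.mul_smul,
        Matrix.mul_one, smul_smul, Units.val_pow_eq_pow_val, pow_two]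
    rw [MonoidHom.mem_ker, hS g _ hs, if_pos]
    · exact Prod.ext (sqSign_of_isSquare (by rw [Units.val_pow_eq_pow_val, pow_two]; exact ⟨_, rfl⟩)) rfl
    · rw [hc, det_smul, det_one, mul_one, hn, Units.val_pow_eq_pow_val, pow_mul]
  let φ : Cfsg.projQuot (sim H) →* ℤˣ × ℤˣ := QuotientGroup.lift _ S' hker
  have hsurj : Function.Surjective φ := by
    obtain ⟨k, rfl⟩ : ∃ k, m = k + 1 := ⟨m - 1, by omega⟩
    obtain ⟨ν, hν⟩ := exists_not_isSquare (F := F) h2
    have hν0 : ν ≠ 0 := fun h => hν (h ▸ IsSquare.zero)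
    obtain ⟨R, hR, hRd⟩ := symm_exists_sim h2 hH hd hn ν
    obtain ⟨T, hT, hTd⟩ := exists_refl h2 hH hd (by omega)
    let R' : sim H := ⟨GeneralLinearGroup.mkOfDetNeZero R (hRd ▸ pow_ne_zero _ hν0),
      mem_sim_iff.2 ⟨Units.mk0 ν hν0, hR⟩⟩
    let T' : sim H := ⟨GeneralLinearGroup.mkOfDetNeZero T (hTd ▸ neg_ne_zero.2 one_ne_zero),
      mem_sim_iff.2 ⟨1, hT⟩⟩
    have h1 : φ (QuotientGroup.mk R') = (-1, 1) := by
      show S' R' = _
      rw [hS R' (Units.mk0 ν hν0) hR]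
      refine (Prod.ext (sqSign_of_not_isSquare hν) (if_pos ?_) : (_, _) = ((-1, 1) : ℤˣ × ℤˣ))
      exact hRd
    have h3 : φ (QuotientGroup.mk T') = (1, -1) := by
      show S' T' = _
      rw [hS T' 1 (by rw [Units.val_one]; exact hT), if_neg]
      · exact Prod.ext (sqSign_of_isSquare (by rw [Units.val_one]; exact IsSquare.one)) rfl
      · show ¬ T.det = _
        rw [hTd, Units.val_one, one_pow]
        exact fun h => h2 (by linear_combination -h)
    rintro ⟨x, y⟩
    rcases Int.units_eq_one_or x with rfl | rfl <;> rcases Int.units_eq_one_or y with rfl | rfl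
    · exact ⟨1, map_one φ⟩
    · exact ⟨_, h3⟩
    · exact ⟨_, h1⟩
    · exact ⟨_, (map_mul φ (QuotientGroup.mk R') (QuotientGroup.mk T')).trans (by rw [h1, h3]; rfl)⟩
  -- no such surjection on the symplectic side
  let f : ↥(Cfsg.GSp m F) →* ℤˣ × ℤˣ := (φ.comp i.symm.toMonoidHom).comp (QuotientGroup.mk' _)
  have hf : Function.Surjective f := (hsurj.comp i.symm.surjective).comp (QuotientGroup.mk'_surjective _)
  have hfsp : ∀ g : ↥(Cfsg.GSp m F), Sims (Matrix.J (Fin m) F)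
      ((g : GL (Fin m ⊕ Fin m) F) : Matrix (Fin m ⊕ Fin m) (Fin m ⊕ Fin m) F) 1 → f g = 1 := by
    intro g hg
    let sp : Matrix.symplecticGroup (Fin m) F →* ↥(Cfsg.GSp m F) :=
      ((MonoidHom.toHomUnits (Matrix.symplecticGroup (Fin m) F).subtype).codRestrict _ fun A => mem_sim_iff.2 ⟨1, by
            rw [Units.val_one, one_smul]
            exact (SymplecticGroup.mem_iff').1 A.2⟩)
    have hmem : ((g : GL (Fin m ⊕ Fin m) F) : Matrix (Fin m ⊕ Fin m) (Fin m ⊕ Fin m) F) ∈ Matrix.symplecticGroup (Fin m) F :=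
      (SymplecticGroup.mem_iff').2 (by unfold Sims at hg; rw [one_smul] at hg; exact hg)
    have : g = sp ⟨_, hmem⟩ := by
      refine Subtype.ext (Units.ext ?_)
      rfl
    rw [this]
    have hle : commutator (Matrix.symplecticGroup (Fin m) F) ≤ (f.comp sp).ker := Abelianization.commutator_subset_ker _
    exact hle (by rw [hperf]; trivial)
  have hsq : ∀ (g : ↥(Cfsg.GSp m F)) (r : Fˣ),
      Sims (Matrix.J (Fin m) F) ((g : GL (Fin m ⊕ Fin m) F) : Matrix (Fin m ⊕ Fin m) (Fin m ⊕ Fin m) F) ((r : F) * r) → f g = 1 := by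
    intro g r hg
    let z : ↥(Cfsg.GSp m F) := ⟨GeneralLinearGroup.scalar _ r⁻¹, mem_sim_iff.2 ⟨r⁻¹ * r⁻¹, by
      rw [GeneralLinearGroup.coe_scalar, Matrix.scalar_apply, ← Matrix.smul_one_eq_diagonal, Matrix.transpose_smul,
        Matrix.transpose_one, Matrix.smul_mul, Matrix.one_mul, Matrix.mul_smul, Matrix.mul_one, smul_smul, Units.val_mul]⟩⟩
    have hz : f z = 1 := by
      have : (QuotientGroup.mk' ((Cfsg.Geo.scalars _ F).subgroupOf (Cfsg.GSp m F))) z = 1 :=
        (QuotientGroup.eq_one_iff z).2 (Subgroup.mem_subgroupOf.2 ⟨r⁻¹, rfl⟩)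
      show φ (i.symm (QuotientGroup.mk' _ z)) = 1
      rw [this, map_one, map_one]
    have hzg := hfsp (z * g) (by
      have hz' : (((z * g : ↥(Cfsg.GSp m F)) : GL (Fin m ⊕ Fin m) F) : Matrix (Fin m ⊕ Fin m) (Fin m ⊕ Fin m) F)
          = ((r⁻¹ : Fˣ) : F) • ((g : GL (Fin m ⊕ Fin m) F) : Matrix (Fin m ⊕ Fin m) (Fin m ⊕ Fin m) F) := by
        rw [Subgroup.coe_mul, Units.val_mul, GeneralLinearGroup.coe_scalar, Matrix.scalar_apply,
          ← Matrix.smul_one_eq_diagonal, Matrix.smul_mul, Matrix.one_mul]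
      rw [Sims, hz', Matrix.transpose_smul, Matrix.smul_mul, Matrix.smul_mul, Matrix.mul_smul,
        show ((g : GL (Fin m ⊕ Fin m) F) : Matrix (Fin m ⊕ Fin m) (Fin m ⊕ Fin m) F)ᵀ * Matrix.J (Fin m) F * _ = _ from hg,
        smul_smul, smul_smul, Units.val_inv_eq_inv_val, show (r : F)⁻¹ * (r : F)⁻¹ * ((r : F) * r) = 1 by
          field_simp])
    rwa [map_mul, hz, one_mul] at hzg
  have hns : ∀ (g h : ↥(Cfsg.GSp m F)), f g ≠ 1 → f h ≠ 1 → f g = f h := by
    intro g h hgne hhne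
    obtain ⟨a, ha⟩ := mem_sim_iff.1 g.2
    obtain ⟨b, hb⟩ := mem_sim_iff.1 h.2
    have ha' : ¬ IsSquare (a : F) := fun ⟨r, hr⟩ => hgne (hsq g (Units.mk0 r fun h0 => a.ne_zero (by rw [hr, h0, mul_zero])) (by
      rw [Units.val_mk0, ← hr]; exact ha))
    have hb' : ¬ IsSquare (b : F) := fun ⟨r, hr⟩ => hhne (hsq h (Units.mk0 r fun h0 => b.ne_zero (by rw [hr, h0, mul_zero])) (by
      rw [Units.val_mk0, ← hr]; exact hb))
    obtain ⟨r, hr⟩ : IsSquare ((a : F) * b) := (H57.isSquare_mul_nonsquare a.ne_zero b.ne_zero hb').2 ha'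
    have h1 : f (g * h) = 1 := hsq (g * h) (Units.mk0 r fun h0 => mul_ne_zero a.ne_zero b.ne_zero (by rw [hr, h0, mul_zero])) (by
      rw [Units.val_mk0, ← hr, Sims, Subgroup.coe_mul, Units.val_mul, Matrix.transpose_mul,
        show ∀ A B M : Matrix (Fin m ⊕ Fin m) (Fin m ⊕ Fin m) F, Bᵀ * Aᵀ * M * (A * B) = Bᵀ * (Aᵀ * M * A) * B from
          fun A B M => by simp only [Matrix.mul_assoc], ha, Matrix.mul_smul, Matrix.smul_mul, hb, smul_smul])
    rw [map_mul] at h1
    have hinv : ∀ x : ℤˣ × ℤˣ, x * x = 1 := fun x => Prod.ext (Int.units_mul_self _) (Int.units_mul_self _)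
    calc f g = f g * (f h * f h) := by rw [hinv, mul_one]
      _ = f h := by rw [← mul_assoc, h1, one_mul]
  obtain ⟨g, hg⟩ := hf (-1, 1)
  obtain ⟨h, hh⟩ := hf (1, -1)
  have e := hns g h (by rw [hg]; decide) (by rw [hh]; decide)
  rw [hg, hh] at e
  exact absurd e (by decide)

end Cfsg.Agent.H58.FormInvariants
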