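import Mathlib
import Cfsg.Agent.H58.FormClass
import Cfsg.Agent.H27.OddTwo

/-!
# Symmetric forms in characteristic two and their similarity groups
-/

set_option autoImplicit false
set_option linter.unusedSectionVars false

namespace Cfsg.Agent.H58.FormCharTwo

open Matrix Module Cfsg.Agent.H58.FormSim Cfsg.Agent.H58.FormClass
open Cfsg.Agent.Symplectic (sympForm_eq T T_mulVec T_conj sp_ext mem_symplectic_iff_form)

variable {F : Type*} [Field F] [Fintype F] [CharP F 2] {ι : Type} [Fintype ι] [DecidableEq ι]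

theorem exists_sqrt (a : F) : ∃ b : F, b * b = a := by
  obtain ⟨b, hb⟩ := FiniteField.isSquare_of_char_two (ringChar.eq F 2) a
  exact ⟨b, hb.symm⟩

/-- `f` is orthonormal for `H`. -/
def ON {k : ℕ} (H : Matrix ι ι F) (f : Fin k → ι → F) : Prop :=
  ∀ i j, bf H (f i) (f j) = if i = j then 1 else 0

omit [CharP F 2] in
theorem bf_add_left (H : Matrix ι ι F) (u v w : ι → F) : bf H (u + v) w = bf H u w + bf H v w := add_dotProduct _ _ _

omit [CharP F 2] in
theorem bf_add_right (H : Matrix ι ι F) (u v w : ι → F) : bf H u (v + w) = bf H u v + bf H u w := by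
  simp [bf, Matrix.mulVec_add, dotProduct_add]

omit [CharP F 2] in
theorem bf_smul_left (H : Matrix ι ι F) (c : F) (u w : ι → F) : bf H (c • u) w = c * bf H u w := smul_dotProduct _ _ _

omit [CharP F 2] in
theorem bf_smul_right (H : Matrix ι ι F) (c : F) (u w : ι → F) : bf H u (c • w) = c * bf H u w := by
  simp [bf, Matrix.mulVec_smul, dotProduct_smul]

theorem self_add {H : Matrix ι ι F} (hH : Hᵀ = H) (u v : ι → F) : bf H (u + v) (u + v) = bf H u u + bf H v v := by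
  rw [bf_add_left, bf_add_right, bf_add_right, bf_comm hH v u]
  linear_combination bf H u v * (CharTwo.two_eq_zero (R := F))

/-- The vectors of `W` orthogonal to `v`. -/
def orth (H : Matrix ι ι F) (W : Submodule F (ι → F)) (v : ι → F) : Submodule F (ι → F) where
  carrier := {x | x ∈ W ∧ bf H x v = 0}
  add_mem' {a b} ha hb := ⟨W.add_mem ha.1 hb.1, by rw [bf_add_left, ha.2, hb.2, add_zero]⟩
  zero_mem' := ⟨W.zero_mem, zero_dotProduct _⟩
  smul_mem' c x hx := ⟨W.smul_mem c hx.1, by rw [bf_smul_left, hx.2, mul_zero]⟩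

omit [CharP F 2] in
theorem mem_orth {H : Matrix ι ι F} {W : Submodule F (ι → F)} {v x : ι → F} :
    x ∈ orth H W v ↔ x ∈ W ∧ bf H x v = 0 := Iff.rfl

theorem exists_ON {H : Matrix ι ι F} (hH : Hᵀ = H) (W : Submodule F (ι → F))
    (hW : ∀ u ∈ W, (∀ v ∈ W, bf H u v = 0) → u = 0) (hna : W = ⊥ ∨ ∃ v ∈ W, bf H v v ≠ 0) :
    ∃ (k : ℕ) (f : Fin k → ι → F), ON H f ∧ Submodule.span F (Set.range f) = W := by
  induction hd : Module.finrank F W using Nat.strong_induction_on generalizing W with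
  | h d ih =>
  rcases hna with hbot | ⟨v₀, hv₀W, hv₀⟩
  · exact ⟨0, Fin.elim0, fun i => i.elim0, by simp [hbot]⟩
  obtain ⟨c, hc⟩ := exists_sqrt (bf H v₀ v₀)⁻¹
  have hv1 : bf H (c • v₀) (c • v₀) = 1 := by rw [bf_smul_left, bf_smul_right, ← mul_assoc, hc, inv_mul_cancel₀ hv₀]
  set v₁ := c • v₀ with hv₁def
  have hv₁W : v₁ ∈ W := W.smul_mem c hv₀W
  have hsplit : ∀ v ∈ W, bf H v v = 1 → ∀ x ∈ W, x - bf H x v • v ∈ orth H W v := fun v hv h1 x hx =>
    ⟨W.sub_mem hx (W.smul_mem _ hv), by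
      rw [sub_eq_add_neg, ← neg_smul, bf_add_left, bf_smul_left, h1, mul_one, add_neg_cancel]⟩
  have hnd : ∀ v ∈ W, bf H v v = 1 → ∀ u ∈ orth H W v, (∀ x ∈ orth H W v, bf H u x = 0) → u = 0 := by
    intro v hv h1 u hu h
    refine hW u hu.1 fun x hx => ?_
    have h2 := h _ (hsplit v hv h1 x hx)
    rwa [sub_eq_add_neg, ← neg_smul, bf_add_right, bf_smul_right, hu.2, mul_zero, add_zero] at h2
  obtain ⟨v, hvW, hv, hna'⟩ : ∃ v ∈ W, bf H v v = 1 ∧
      (orth H W v = ⊥ ∨ ∃ w ∈ orth H W v, bf H w w ≠ 0) := by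
    by_cases h : orth H W v₁ = ⊥ ∨ ∃ w ∈ orth H W v₁, bf H w w ≠ 0
    · exact ⟨v₁, hv₁W, hv1, h⟩
    · push Not at h
      obtain ⟨e, he, he0⟩ := (orth H W v₁).exists_mem_ne_zero_of_ne_bot h.1
      obtain ⟨f, hf, hef⟩ : ∃ f ∈ orth H W v₁, bf H e f ≠ 0 := by
        by_contra hcon
        push Not at hcon
        exact he0 (hnd v₁ hv₁W hv1 e he hcon)
      set f' := (bf H e f)⁻¹ • f with hf'
      have hf'm : f' ∈ orth H W v₁ := Submodule.smul_mem _ _ hf
      have hef' : bf H e f' = 1 := by rw [hf', bf_smul_right, inv_mul_cancel₀ hef]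
      refine ⟨v₁ + e, W.add_mem hv₁W he.1, by rw [self_add hH, hv1, h.2 e he, add_zero],
        Or.inr ⟨v₁ + f', ⟨W.add_mem hv₁W hf'm.1, ?_⟩, by rw [self_add hH, hv1, h.2 f' hf'm, add_zero]; exact one_ne_zero⟩⟩
      rw [bf_add_left, bf_add_right, bf_add_right, hv1, bf_comm hH v₁ e, he.2, hf'm.2, bf_comm hH f' e, hef', add_zero,
        zero_add, CharTwo.add_self_eq_zero]
  have hlt : Module.finrank F (orth H W v) < d := by
    rw [← hd]
    refine Submodule.finrank_lt_finrank_of_lt (lt_of_le_of_ne (fun x hx => hx.1) fun h => ?_)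
    have : v ∈ orth H W v := h.symm ▸ hvW
    exact one_ne_zero (hv.symm.trans this.2)
  obtain ⟨k, f, hf, hspan⟩ := ih _ hlt _ (hnd v hvW hv) hna' rfl
  have hfv : ∀ i, bf H (f i) v = 0 := fun i =>
    ((hspan ▸ Submodule.subset_span ⟨i, rfl⟩ : f i ∈ orth H W v)).2
  refine ⟨k + 1, Fin.cons v f, ?_, ?_⟩
  · intro i j
    refine Fin.cases ?_ (fun i => ?_) i <;> refine Fin.cases ?_ (fun j => ?_) j
    · simpa using hv
    · simpa [(Fin.succ_ne_zero j).symm, bf_comm hH v (f j)] using hfv j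
    · simpa [Fin.succ_ne_zero i] using hfv i
    · simpa using hf i j
  rw [Fin.range_cons, Submodule.span_insert, hspan]
  refine le_antisymm (sup_le ((Submodule.span_singleton_le_iff_mem _ _).2 hvW) fun x hx => hx.1) ?_
  intro x hx
  rw [← add_sub_cancel (bf H x v • v) x]
  exact Submodule.add_mem_sup (Submodule.smul_mem _ _ (Submodule.mem_span_singleton_self v)) (hsplit v hvW hv x hx)

/-- A symmetric non-alternating form is congruent to the identity. -/
theorem congr_one {H : Matrix ι ι F} (hH : Hᵀ = H) (hd : H.det ≠ 0) (hna : ∃ v, bf H v v ≠ 0) :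
    Congr H (1 : Matrix (Fin (Fintype.card ι)) (Fin (Fintype.card ι)) F) := by
  obtain ⟨v, hv⟩ := hna
  obtain ⟨k, f, hf, hspan⟩ := exists_ON hH ⊤ (fun u _ h => bf_eq_zero_left hd fun w => h w trivial)
    (Or.inr ⟨v, trivial, hv⟩)
  have hli : LinearIndependent F f := by
    rw [Fintype.linearIndependent_iff]
    intro c hc j
    have h1 : bf H (∑ i, c i • f i) (f j) = c j := by
      rw [show bf H (∑ i, c i • f i) (f j) = ∑ i, c i * bf H (f i) (f j) from by
        simp only [bf, sum_dotProduct, smul_dotProduct, smul_eq_mul]]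
      simp [hf _ j]
    rw [hc, show bf H (0 : ι → F) (f j) = 0 from zero_dotProduct _] at h1
    exact h1.symm
  have hk : k = Fintype.card ι := by
    have := finrank_span_eq_card hli
    rw [hspan] at this
    simpa using this.symm
  subst hk
  let b : Module.Basis (Fin (Fintype.card ι)) F (ι → F) := Module.Basis.mk hli hspan.ge
  refine ⟨b.equivFun.symm, 1, one_ne_zero, fun u w => ?_⟩
  have hb : ∀ u, b.equivFun.symm u = ∑ i, u i • f i := fun u => by simp [b, Module.Basis.equivFun_symm_apply]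
  rw [hb, hb, one_mul]
  simp only [bf, sum_dotProduct, smul_dotProduct, Matrix.mulVec_sum, Matrix.mulVec_smul, dotProduct_sum,
    dotProduct_smul, smul_eq_mul, Matrix.one_mulVec]
  have hf' : ∀ i j, f i ⬝ᵥ H *ᵥ f j = if i = j then (1 : F) else 0 := hf
  simp only [hf']
  simp [dotProduct, mul_comm]

theorem congr_one_of_nonalt {ι κ : Type} [Fintype ι] [DecidableEq ι] [Fintype κ] [DecidableEq κ]
    {H : Matrix ι ι F} {K : Matrix κ κ F} (hH : Hᵀ = H) (hd : H.det ≠ 0) (hna : ∃ v, bf H v v ≠ 0)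
    (hK : Kᵀ = K) (hdK : K.det ≠ 0) (hnaK : ∃ v, bf K v v ≠ 0) (hcard : Fintype.card ι = Fintype.card κ) :
    Congr H K := by
  have h1 := congr_one hH hd hna
  have h2 := congr_one hK hdK hnaK
  rw [hcard] at h1
  exact h1.trans h2.symm

omit [Fintype F] [CharP F 2] in
/-- Congruent forms are simultaneously alternating. -/
theorem alt_iff {ι κ : Type} [Fintype ι] [DecidableEq ι] [Fintype κ] [DecidableEq κ]
    {H : Matrix ι ι F} {K : Matrix κ κ F} (hc : Congr H K) (hH : ∀ v, bf H v v = 0) (v : κ → F) : bf K v v = 0 := by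
  obtain ⟨E, l, hl, h⟩ := hc
  exact (mul_eq_zero.1 ((h v v).symm.trans (hH _))).resolve_left hl

/-! ### Similarity and isometry groups -/

/-- The isometry group of the form of `H`. -/
abbrev isoGL (H : Matrix ι ι F) : Subgroup (GL ι F) :=
  Cfsg.preserving (Units.coeHom (Matrix ι ι F)) (bf H)

omit [Fintype F] [CharP F 2] in
theorem mem_isoGL {H : Matrix ι ι F} {g : GL ι F} :
    g ∈ isoGL H ↔ ∀ u v, bf H ((g : Matrix ι ι F) *ᵥ u) ((g : Matrix ι ι F) *ᵥ v) = bf H u v := Iff.rfl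

omit [Fintype F] in
theorem eq_one_of_sq {c : F} (h : c * c = 1) : c = 1 := by
  have h1 : (c + 1) * (c + 1) = 0 := by linear_combination h + (c + 1) * (CharTwo.two_eq_zero (R := F))
  have h2 := mul_self_eq_zero.1 h1
  rw [← sub_eq_zero, CharTwo.sub_eq_add]
  exact h2

theorem projQuot_sim_iso {H : Matrix ι ι F} (hH : ∃ u v, bf H u v ≠ 0) :
    Nonempty (Cfsg.projQuot (sim H) ≃* ↥(isoGL H)) := by
  refine projQuot_iso (fun g hg => ⟨1, fun u v => by rw [Units.val_one, one_mul]; exact hg u v⟩) ?_ ?_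
  · intro g hg hs
    obtain ⟨c, hc⟩ := (Cfsg.Geo.mem_scalars_iff g).1 hs
    obtain ⟨u, v, huv⟩ := hH
    have h1 := mem_isoGL.1 hg u v
    rw [hc, smul_mulVec, smul_mulVec, one_mulVec, one_mulVec, bf_smul_left, bf_smul_right, ← mul_assoc] at h1
    have hc1 : (c : F) = 1 := eq_one_of_sq (mul_right_cancel₀ huv (h1.trans (one_mul _).symm))
    exact Units.ext (by rw [hc, hc1, one_smul, Units.val_one])
  · rintro g ⟨c, hc⟩
    obtain ⟨r, hr⟩ := exists_sqrt ((c : F))⁻¹
    have hr0 : r ≠ 0 := fun h => inv_ne_zero c.ne_zero (by rw [← hr, h, zero_mul])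
    refine ⟨GeneralLinearGroup.scalar ι (Units.mk0 r hr0), ⟨_, rfl⟩, mem_isoGL.2 fun u v => ?_⟩
    rw [Units.val_mul, GeneralLinearGroup.coe_scalar, Matrix.scalar_apply, ← Matrix.smul_one_eq_diagonal,
      Matrix.smul_mul, Matrix.one_mul, smul_mulVec, smul_mulVec, bf_smul_left, bf_smul_right, hc, ← mul_assoc,
      Units.val_mk0, hr, inv_mul_cancel_left₀ c.ne_zero]

theorem projQuot_quad_iso {Q : (ι → F) → F} (hsm : ∀ (a : F) v, Q (a • v) = a * a * Q v) (hQ : ∃ v, Q v ≠ 0) :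
    Nonempty (Cfsg.PGO F Q ≃* ↥(Cfsg.isometryGroup F Q)) := by
  refine projQuot_iso (fun g hg => ⟨1, fun v => by
    rw [Units.val_one, one_mul]; exact (Orthogonal.mem_isometryGroup_iff _ g).1 hg v⟩) ?_ ?_
  · intro g hg hs
    obtain ⟨c, hc⟩ := (Cfsg.Geo.mem_scalars_iff g).1 hs
    obtain ⟨v, hv⟩ := hQ
    have h1 := (Orthogonal.mem_isometryGroup_iff _ g).1 hg v
    rw [hc, smul_mulVec, one_mulVec, hsm] at h1
    have hc1 : (c : F) = 1 := eq_one_of_sq (mul_right_cancel₀ hv (h1.trans (one_mul _).symm))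
    exact Units.ext (by rw [hc, hc1, one_smul, Units.val_one])
  · rintro g ⟨c, hc⟩
    obtain ⟨r, hr⟩ := exists_sqrt ((c : F))⁻¹
    have hr0 : r ≠ 0 := fun h => inv_ne_zero c.ne_zero (by rw [← hr, h, zero_mul])
    refine ⟨GeneralLinearGroup.scalar ι (Units.mk0 r hr0), ⟨_, rfl⟩, (Orthogonal.mem_isometryGroup_iff _ _).2 fun v => ?_⟩
    rw [Units.val_mul, GeneralLinearGroup.coe_scalar, Matrix.scalar_apply, ← Matrix.smul_one_eq_diagonal,
      Matrix.smul_mul, Matrix.one_mul, smul_mulVec, hsm, hc, Units.val_mk0, hr, inv_mul_cancel_left₀ c.ne_zero]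

variable {m : ℕ}

omit [Fintype F] [CharP F 2] in
theorem bf_J (u v : Fin m ⊕ Fin m → F) : bf (Matrix.J (Fin m) F) u v = Cfsg.sympForm m F u v := rfl

omit [Fintype F] [CharP F 2] in
/-- An invertible matrix from a symplectic one. -/
noncomputable def spToGL : Matrix.symplecticGroup (Fin m) F →* GL (Fin m ⊕ Fin m) F :=
  MonoidHom.toHomUnits
    { toFun := fun A => (A : Matrix (Fin m ⊕ Fin m) (Fin m ⊕ Fin m) F), map_one' := rfl, map_mul' := fun _ _ => rfl }

omit [Fintype F] [CharP F 2] in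
theorem spToGL_coe (A : Matrix.symplecticGroup (Fin m) F) :
    ((spToGL A : GL (Fin m ⊕ Fin m) F) : Matrix (Fin m ⊕ Fin m) (Fin m ⊕ Fin m) F) = A := rfl

omit [Fintype F] [CharP F 2] in
/-- `isoGL J` is the symplectic group. -/
noncomputable def isoJ : isoGL (Matrix.J (Fin m) F) ≃* Matrix.symplecticGroup (Fin m) F where
  toFun g := ⟨((g : GL (Fin m ⊕ Fin m) F) : Matrix (Fin m ⊕ Fin m) (Fin m ⊕ Fin m) F),
    (mem_symplectic_iff_form _).2 g.2⟩
  invFun A := ⟨spToGL A, fun u v => (mem_symplectic_iff_form _).1 A.2 u v⟩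
  left_inv g := Subtype.ext (Units.ext rfl)
  right_inv A := Subtype.ext rfl
  map_mul' g h := Subtype.ext rfl

theorem sim_J_iso (hm : 0 < m) :
    Nonempty (Cfsg.projQuot (sim (Matrix.J (Fin m) F)) ≃* ↥(Matrix.symplecticGroup (Fin m) F)) := by
  obtain ⟨i⟩ := projQuot_sim_iso (H := Matrix.J (Fin m) F)
    ⟨Pi.single (.inl ⟨0, hm⟩) 1, Pi.single (.inr ⟨0, hm⟩) 1, by rw [bf_single, Matrix.J]; simp⟩
  exact ⟨i.trans isoJ⟩

/-- The non-alternating form with isometry group the centraliser of a transvection. -/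
def tvForm (u : Fin m ⊕ Fin m → F) : Matrix (Fin m ⊕ Fin m) (Fin m ⊕ Fin m) F :=
  Matrix.J (Fin m) F + Matrix.vecMulVec (u ᵥ* Matrix.J (Fin m) F) (u ᵥ* Matrix.J (Fin m) F)

omit [Fintype F] [CharP F 2] in
theorem bf_tvForm (u x y : Fin m ⊕ Fin m → F) :
    bf (tvForm u) x y = Cfsg.sympForm m F x y + Cfsg.sympForm m F u x * Cfsg.sympForm m F u y := by
  have h : ∀ z, (u ᵥ* Matrix.J (Fin m) F) ⬝ᵥ z = Cfsg.sympForm m F u z := fun z =>
    (Matrix.dotProduct_mulVec _ _ _).symm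
  rw [bf, tvForm, Matrix.add_mulVec, dotProduct_add, Matrix.vecMulVec_mulVec, op_smul_eq_smul, dotProduct_smul, h,
    dotProduct_comm x (u ᵥ* _), h, smul_eq_mul, mul_comm (Cfsg.sympForm m F u y)]
  rfl

omit [Fintype F] in
theorem sp_self (x : Fin m ⊕ Fin m → F) : Cfsg.sympForm m F x x = 0 := by rw [sympForm_eq]; simp [mul_comm]

omit [Fintype F] in
theorem bf_tvForm_self (u x : Fin m ⊕ Fin m → F) : bf (tvForm u) x x = Cfsg.sympForm m F u x * Cfsg.sympForm m F u x := by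
  rw [bf_tvForm, sp_self, zero_add]

omit [Fintype F] in
theorem sp_comm (x y : Fin m ⊕ Fin m → F) : Cfsg.sympForm m F x y = Cfsg.sympForm m F y x := by
  rw [sympForm_eq, sympForm_eq]
  refine Finset.sum_congr rfl fun i _ => ?_
  simp only [CharTwo.sub_eq_add]
  ring

omit [Fintype F] in
theorem tvForm_transpose (u : Fin m ⊕ Fin m → F) : (tvForm u)ᵀ = tvForm u :=
  bf_inj fun x y => by rw [bf_transpose, bf_tvForm, bf_tvForm, sp_comm y x, mul_comm]

omit [Fintype F] [CharP F 2] in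
theorem sp_nondeg {x : Fin m ⊕ Fin m → F} (h : ∀ y, Cfsg.sympForm m F x y = 0) : x = 0 :=
  bf_eq_zero_left (Matrix.isUnit_det_J (Fin m) F).ne_zero h

omit [Fintype F] in
theorem tvForm_det (u : Fin m ⊕ Fin m → F) : (tvForm u).det ≠ 0 := by
  intro h0
  obtain ⟨v, hv, hv0⟩ := Matrix.exists_vecMul_eq_zero_iff.2 h0
  refine hv (sp_nondeg fun y => ?_)
  have hz : ∀ y, bf (tvForm u) v y = 0 := fun y => by simp [bf, Matrix.dotProduct_mulVec, hv0]
  have h1 := hz v
  rw [bf_tvForm_self] at h1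
  have h2 := hz y
  rwa [bf_tvForm, mul_self_eq_zero.1 h1, zero_mul, add_zero] at h2

omit [Fintype F] in
theorem tvForm_nonalt {u : Fin m ⊕ Fin m → F} (hu : u ≠ 0) : ∃ v, bf (tvForm u) v v ≠ 0 := by
  by_contra h
  push Not at h
  exact hu (sp_nondeg fun y => mul_self_eq_zero.1 ((bf_tvForm_self u y).symm.trans (h y)))

theorem sim_tvForm_iso {u : Fin m ⊕ Fin m → F} (hu : u ≠ 0) :
    Nonempty (Cfsg.projQuot (sim (tvForm u)) ≃*
      ↥(Subgroup.centralizer ({T u 1} : Set ↥(Matrix.symplecticGroup (Fin m) F)))) := by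
  obtain ⟨v, hv⟩ := tvForm_nonalt hu
  obtain ⟨i⟩ := projQuot_sim_iso (H := tvForm u) ⟨v, v, hv⟩
  have hfix : ∀ g : Matrix (Fin m ⊕ Fin m) (Fin m ⊕ Fin m) F,
      (∀ x y, bf (tvForm u) (g *ᵥ x) (g *ᵥ y) = bf (tvForm u) x y) →
      (∀ x, Cfsg.sympForm m F u (g *ᵥ x) = Cfsg.sympForm m F u x) ∧ g ∈ Matrix.symplecticGroup (Fin m) F := by
    intro g hg
    have h1 : ∀ x, Cfsg.sympForm m F u (g *ᵥ x) = Cfsg.sympForm m F u x := fun x => by
      have h := hg x x
      rw [bf_tvForm_self, bf_tvForm_self] at h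
      rcases mul_self_eq_mul_self_iff.1 h with h | h
      · exact h
      · rw [h, CharTwo.neg_eq]
    refine ⟨h1, (mem_symplectic_iff_form _).2 fun x y => ?_⟩
    have h := hg x y
    rw [bf_tvForm, bf_tvForm, h1, h1] at h
    exact add_right_cancel h
  have hT : ∀ g : Matrix.symplecticGroup (Fin m) F, g ∈ Subgroup.centralizer {T u 1} ↔
      (g : Matrix (Fin m ⊕ Fin m) (Fin m ⊕ Fin m) F) *ᵥ u = u := by
    intro g
    rw [Subgroup.mem_centralizer_singleton_iff]
    constructor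
    · intro h
      have h1 : T ((g : Matrix (Fin m ⊕ Fin m) (Fin m ⊕ Fin m) F) *ᵥ u) (1 : F) = T u 1 := by
        rw [← T_conj, h, mul_inv_cancel_right]
      set w := (g : Matrix (Fin m ⊕ Fin m) (Fin m ⊕ Fin m) F) *ᵥ u
      obtain ⟨y, hy⟩ : ∃ y, Cfsg.sympForm m F y u = 1 := by
        obtain ⟨y, hy⟩ : ∃ y, Cfsg.sympForm m F u y ≠ 0 := by
          by_contra hc; push Not at hc; exact hu (sp_nondeg hc)
        exact ⟨(Cfsg.sympForm m F u y)⁻¹ • y, by
          rw [sp_comm, ← bf_J, bf_smul_right, bf_J, inv_mul_cancel₀ hy]⟩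
      have h2 := congrArg (fun A : Matrix.symplecticGroup (Fin m) F =>
        (A : Matrix (Fin m ⊕ Fin m) (Fin m ⊕ Fin m) F) *ᵥ y) h1
      simp only [T_mulVec, one_mul, hy, one_smul] at h2
      have h3 : u = Cfsg.sympForm m F y w • w := (add_left_cancel h2).symm
      have hw0 : Cfsg.sympForm m F y w ≠ 0 := fun h0 => hu (by rw [h3, h0, zero_smul])
      have h4 : Cfsg.sympForm m F y w * Cfsg.sympForm m F y w = 1 := by
        conv_rhs => rw [← hy, h3, ← bf_J, bf_smul_right, bf_J]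
      rw [h3, eq_one_of_sq h4, one_smul]
    · intro h
      have h1 : g * T u 1 * g⁻¹ = T u 1 := by rw [T_conj, h]
      exact mul_inv_eq_iff_eq_mul.1 h1
  let j : isoGL (tvForm u) →* Matrix.symplecticGroup (Fin m) F :=
    { toFun := fun g => ⟨_, (hfix _ g.2).2⟩
      map_one' := Subtype.ext rfl
      map_mul' := fun _ _ => Subtype.ext rfl }
  have hj : j.range = Subgroup.centralizer {T u 1} := by
    ext A
    rw [hT]
    constructor
    · rintro ⟨g, rfl⟩
      obtain ⟨h1, h2⟩ := hfix _ g.2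
      simp only [Units.coeHom_apply] at h1 h2
      rw [← sub_eq_zero]
      refine sp_nondeg fun y => ?_
      obtain ⟨z, rfl⟩ : ∃ z, ((g : GL (Fin m ⊕ Fin m) F) : Matrix (Fin m ⊕ Fin m) (Fin m ⊕ Fin m) F) *ᵥ z = y :=
        ⟨(((g : GL (Fin m ⊕ Fin m) F)⁻¹ : GL (Fin m ⊕ Fin m) F) : Matrix (Fin m ⊕ Fin m) (Fin m ⊕ Fin m) F) *ᵥ y, by
          rw [Matrix.mulVec_mulVec, Units.mul_inv, Matrix.one_mulVec]⟩
      rw [← bf_J, sub_eq_add_neg, bf_add_left, ← neg_one_smul F u, bf_smul_left, bf_J, bf_J, h1]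
      rw [show Cfsg.sympForm m F (((j g : Matrix.symplecticGroup (Fin m) F) : Matrix (Fin m ⊕ Fin m) (Fin m ⊕ Fin m) F) *ᵥ u)
        (((g : GL (Fin m ⊕ Fin m) F) : Matrix (Fin m ⊕ Fin m) (Fin m ⊕ Fin m) F) *ᵥ z)
        = Cfsg.sympForm m F u z from (mem_symplectic_iff_form _).1 h2 u z]
      ring
    · intro h
      refine ⟨⟨spToGL A, fun x y => ?_⟩, Subtype.ext rfl⟩
      have hA := (mem_symplectic_iff_form _).1 A.2
      have hu' : ∀ z, Cfsg.sympForm m F u ((A : Matrix (Fin m ⊕ Fin m) (Fin m ⊕ Fin m) F) *ᵥ z) = Cfsg.sympForm m F u z :=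
        fun z => by conv_lhs => rw [← h, hA]
      show bf (tvForm u) ((A : Matrix (Fin m ⊕ Fin m) (Fin m ⊕ Fin m) F) *ᵥ x) ((A : Matrix (Fin m ⊕ Fin m) (Fin m ⊕ Fin m) F) *ᵥ y) = _
      rw [bf_tvForm, bf_tvForm, hA, hu', hu']
  exact ⟨i.trans (((MonoidHom.ofInjective (f := j) fun g h e =>
    Subtype.ext (Units.ext (congrArg Subtype.val e))).trans (MulEquiv.subgroupCongr hj)))⟩

theorem isTransvection_T {u : Fin m ⊕ Fin m → F} (hu : u ≠ 0) :
    Cfsg.IsTransvection ((T u (1 : F) : Matrix.symplecticGroup (Fin m) F) : Matrix (Fin m ⊕ Fin m) (Fin m ⊕ Fin m) F) := by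
  set N := ((T u (1 : F) : Matrix.symplecticGroup (Fin m) F) : Matrix (Fin m ⊕ Fin m) (Fin m ⊕ Fin m) F) - 1
  have hN : ∀ x, N *ᵥ x = Cfsg.sympForm m F x u • u := fun x => by
    simp [N, Matrix.sub_mulVec, T_mulVec]
  refine ⟨?_, Matrix.ext_iff_mulVec.2 fun x => ?_⟩
  · rw [Matrix.rank]
    have hr : LinearMap.range N.mulVecLin = Submodule.span F {u} := by
      refine le_antisymm ?_ ?_
      · rintro _ ⟨x, rfl⟩
        rw [Matrix.mulVecLin_apply, hN]
        exact Submodule.smul_mem _ _ (Submodule.mem_span_singleton_self u)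
      · rw [Submodule.span_singleton_le_iff_mem]
        obtain ⟨y, hy⟩ : ∃ y, Cfsg.sympForm m F u y ≠ 0 := by
          by_contra hc; push Not at hc; exact hu (sp_nondeg hc)
        refine ⟨(Cfsg.sympForm m F u y)⁻¹ • y, ?_⟩
        rw [Matrix.mulVecLin_apply, Matrix.mulVec_smul, hN, sp_comm y u, smul_smul, inv_mul_cancel₀ hy, one_smul]
    rw [hr, finrank_span_singleton hu]
  · rw [← Matrix.mulVec_mulVec, hN (N *ᵥ x), hN x, ← bf_J, bf_smul_left, bf_J, sp_self, mul_zero, zero_smul, Matrix.zero_mulVec]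

/-- The odd-dimensional non-alternating form. -/
def oddForm (F : Type*) [Field F] (m : ℕ) : Matrix (Unit ⊕ (Fin m ⊕ Fin m)) (Unit ⊕ (Fin m ⊕ Fin m)) F :=
  Matrix.fromBlocks 1 0 0 (Matrix.J (Fin m) F)

omit [Fintype F] [CharP F 2] in
theorem bf_oddForm (x y : Unit ⊕ (Fin m ⊕ Fin m) → F) :
    bf (oddForm F m) x y = x (.inl ()) * y (.inl ()) + Cfsg.sympForm m F (fun i => x (.inr i)) (fun i => y (.inr i)) := by
  rw [bf, oddForm, Matrix.fromBlocks_mulVec, Cfsg.sympForm, dotProduct, Fintype.sum_sum_type]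
  simp only [Matrix.one_mulVec, Matrix.zero_mulVec, add_zero, zero_add, Sum.elim_inl, Sum.elim_inr, dotProduct,
    Function.comp_def, Fintype.sum_unique, PUnit.default_eq_unit]

omit [Fintype F] in
theorem bf_oddForm_self (x : Unit ⊕ (Fin m ⊕ Fin m) → F) : bf (oddForm F m) x x = x (.inl ()) * x (.inl ()) := by
  rw [bf_oddForm, sp_self, add_zero]

omit [Fintype F] in
theorem oddForm_spec : (oddForm F m)ᵀ = oddForm F m ∧ (oddForm F m).det ≠ 0 ∧ ∃ v, bf (oddForm F m) v v ≠ 0 := by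
  refine ⟨bf_inj fun x y => by rw [bf_transpose, bf_oddForm, bf_oddForm, sp_comm, mul_comm], ?_,
    Pi.single (.inl ()) 1, by simp [bf_oddForm_self]⟩
  rw [oddForm, Matrix.det_fromBlocks_zero₂₁, det_one, one_mul]
  exact (Matrix.isUnit_det_J (Fin m) F).ne_zero

theorem sim_oddForm_iso :
    Nonempty (Cfsg.projQuot (sim (oddForm F m)) ≃* Cfsg.PGO F (Cfsg.quadFormOdd m F)) := by
  obtain ⟨-, -, v, hv⟩ := oddForm_spec (F := F) (m := m)
  obtain ⟨i⟩ := projQuot_sim_iso (H := oddForm F m) ⟨v, v, hv⟩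
  obtain ⟨k⟩ := projQuot_quad_iso (Q := Cfsg.quadFormOdd m F)
    (fun a v => by
      simp only [Cfsg.quadFormOdd, Pi.smul_apply, smul_eq_mul, mul_add, Finset.mul_sum]
      refine congrArg₂ (· + ·) (by ring) (Finset.sum_congr rfl fun i _ => by ring))
    ⟨Pi.single (.inl ()) 1, by simp [Cfsg.quadFormOdd]⟩
  obtain ⟨l⟩ := H27.OddTwo.odd_equiv_symplectic (F := F) (m := m)
  let emb : Matrix.symplecticGroup (Fin m) F →* GL (Unit ⊕ (Fin m ⊕ Fin m)) F :=
    MonoidHom.toHomUnits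
      { toFun := fun A => Matrix.fromBlocks (1 : Matrix Unit Unit F) 0 0 (A : Matrix (Fin m ⊕ Fin m) (Fin m ⊕ Fin m) F)
        map_one' := Matrix.fromBlocks_one
        map_mul' := fun A B => by simp [Matrix.fromBlocks_multiply] }
  have hmv : ∀ (A : Matrix.symplecticGroup (Fin m) F) (x : Unit ⊕ (Fin m ⊕ Fin m) → F),
      ((emb A : GL _ F) : Matrix (Unit ⊕ (Fin m ⊕ Fin m)) (Unit ⊕ (Fin m ⊕ Fin m)) F) *ᵥ x
        = Sum.elim (fun _ => x (.inl ())) ((A : Matrix (Fin m ⊕ Fin m) (Fin m ⊕ Fin m) F) *ᵥ fun i => x (.inr i)) := fun A x => by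
    show Matrix.fromBlocks _ _ _ _ *ᵥ x = _
    rw [Matrix.fromBlocks_mulVec]
    funext s
    rcases s with u | s <;> simp [Function.comp_def]
  have hrange : emb.range = isoGL (oddForm F m) := by
    ext g
    constructor
    · rintro ⟨A, rfl⟩
      refine mem_isoGL.2 fun x y => ?_
      rw [hmv, hmv, bf_oddForm, bf_oddForm]
      simp only [Sum.elim_inl, Sum.elim_inr]
      rw [(mem_symplectic_iff_form _).1 A.2]
    · intro hg
      set G := (g : Matrix (Unit ⊕ (Fin m ⊕ Fin m)) (Unit ⊕ (Fin m ⊕ Fin m)) F)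
      have h0 : ∀ x, (G *ᵥ x) (.inl ()) = x (.inl ()) := fun x => by
        have h := hg x x
        rw [Units.coeHom_apply, bf_oddForm_self, bf_oddForm_self] at h
        rcases mul_self_eq_mul_self_iff.1 h with h | h
        · exact h
        · rw [h, CharTwo.neg_eq]
      have hs : ∀ x y, Cfsg.sympForm m F (fun i => (G *ᵥ x) (.inr i)) (fun i => (G *ᵥ y) (.inr i))
          = Cfsg.sympForm m F (fun i => x (.inr i)) (fun i => y (.inr i)) := fun x y => by
        have h := hg x y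
        rw [Units.coeHom_apply, bf_oddForm, bf_oddForm, h0, h0] at h
        exact add_left_cancel h
      have he : ∀ k, (G *ᵥ Pi.single (.inl ()) 1) (.inr k) = 0 := by
        have hz : (fun i => (G *ᵥ Pi.single (.inl ()) 1) (.inr i)) = 0 := sp_nondeg fun y => by
          obtain ⟨z, hz⟩ : ∃ z, G *ᵥ z = Sum.elim (fun _ => 0) y :=
            ⟨((g⁻¹ : GL (Unit ⊕ (Fin m ⊕ Fin m)) F) : Matrix (Unit ⊕ (Fin m ⊕ Fin m)) (Unit ⊕ (Fin m ⊕ Fin m)) F) *ᵥ Sum.elim (fun _ => 0) y, by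
              rw [Matrix.mulVec_mulVec, Units.mul_inv, Matrix.one_mulVec]⟩
          have h := hs (Pi.single (.inl ()) 1) z
          rw [hz] at h
          refine h.trans ?_
          simp [Cfsg.sympForm, dotProduct]
        exact fun k => congrFun hz k
      have hblock : ∀ w : Fin m ⊕ Fin m → F, (fun i => (G *ᵥ Sum.elim (fun _ => 0) w) (.inr i)) = G.toBlocks₂₂ *ᵥ w :=
        fun w => by funext i; simp [Matrix.mulVec, dotProduct, Fintype.sum_sum_type, Matrix.toBlocks₂₂]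
      have hA : G.toBlocks₂₂ ∈ Matrix.symplecticGroup (Fin m) F := (mem_symplectic_iff_form _).2 fun x y => by
        rw [← hblock, ← hblock]; exact hs _ _
      refine ⟨⟨_, hA⟩, Units.ext (Matrix.ext_iff_mulVec.2 fun x => ?_)⟩
      rw [hmv]
      have hx : x = x (.inl ()) • (Pi.single (.inl ()) 1 : Unit ⊕ (Fin m ⊕ Fin m) → F)
          + Sum.elim (fun _ => 0) (fun i => x (.inr i)) := by
        funext s; rcases s with u | s <;> simp
      funext s
      rcases s with u | s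
      · exact (h0 x).symm
      · show (G.toBlocks₂₂ *ᵥ fun i => x (.inr i)) s = (G *ᵥ x) (.inr s)
        conv_rhs => rw [hx, Matrix.mulVec_add, Matrix.mulVec_smul, Pi.add_apply, Pi.smul_apply, he, smul_zero, zero_add]
        exact (congrFun (hblock _) s).symm
  have hinj : Function.Injective emb := fun A B h => Subtype.ext (by
    have := congrArg (fun g : GL _ F => (g : Matrix (Unit ⊕ (Fin m ⊕ Fin m)) (Unit ⊕ (Fin m ⊕ Fin m)) F).toBlocks₂₂) h
    exact this)
  exact ⟨i.trans ((((MonoidHom.ofInjective hinj).trans (MulEquiv.subgroupCongr hrange)).symm.trans l.symm).trans k.symm)⟩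

end Cfsg.Agent.H58.FormCharTwo
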