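import Mathlib
import Cfsg.Agent.H58.FormInvariants

/-!
# Root elements of symmetric and alternating forms
-/

set_option autoImplicit false
set_option linter.unusedSectionVars false

namespace Cfsg.Agent.H58.FormRoot

open Matrix Cfsg.Agent.H58.FormSim Cfsg.Agent.H58.FormInvariants

variable {F : Type*} [Field F] {ι : Type} [Fintype ι] [DecidableEq ι]

theorem bf_add_left (H : Matrix ι ι F) (u v w : ι → F) : bf H (u + v) w = bf H u w + bf H v w :=
  add_dotProduct _ _ _

theorem bf_add_right (H : Matrix ι ι F) (u v w : ι → F) : bf H u (v + w) = bf H u v + bf H u w := by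
  simp [bf, Matrix.mulVec_add, dotProduct_add]

theorem bf_sub_left (H : Matrix ι ι F) (u v w : ι → F) : bf H (u - v) w = bf H u w - bf H v w :=
  sub_dotProduct _ _ _

theorem bf_sub_right (H : Matrix ι ι F) (u v w : ι → F) : bf H u (v - w) = bf H u v - bf H u w := by
  simp [bf, Matrix.mulVec_sub, dotProduct_sub]

theorem bf_smul_left (H : Matrix ι ι F) (a : F) (u v : ι → F) : bf H (a • u) v = a * bf H u v :=
  smul_dotProduct _ _ _

theorem bf_smul_right (H : Matrix ι ι F) (a : F) (u v : ι → F) : bf H u (a • v) = a * bf H u v := by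
  simp [bf, Matrix.mulVec_smul, dotProduct_smul]

theorem bf_zero_left (H : Matrix ι ι F) (u : ι → F) : bf H 0 u = 0 := zero_dotProduct _

theorem bf_zero_right (H : Matrix ι ι F) (u : ι → F) : bf H u 0 = 0 := by simp [bf]

/-- A prescribed pair of values against independent vectors is attained. -/
theorem exists_bf_eq {H : Matrix ι ι F} (hd : H.det ≠ 0) {v w : ι → F} (hv : v ≠ 0)
    (hw : w ∉ Submodule.span F {v}) (a b : F) : ∃ y, bf H v y = a ∧ bf H w y = b := by
  have hli : LinearIndependent F ![v, w] := linearIndependent_fin2.2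
    ⟨fun h => hw (by simp [show w = 0 from h]), fun c hc => by
      change c • w = v at hc
      rcases eq_or_ne c 0 with rfl | hc0
      · exact hv (by rw [← hc, zero_smul])
      · exact hw (Submodule.mem_span_singleton.2 ⟨c⁻¹, by rw [← hc, inv_smul_smul₀ hc0]⟩)⟩
  obtain ⟨φ, hφ⟩ := LinearMap.exists_extend (Module.Basis.constr (Module.Basis.span hli) F ![a, b])
  have h1 : φ v = a ∧ φ w = b := by
    have h : ∀ i, φ (![v, w] i) = ![a, b] i := fun i => by
      have e := LinearMap.congr_fun hφ (Module.Basis.span hli i)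
      rwa [Module.Basis.constr_basis, LinearMap.comp_apply, Submodule.subtype_apply, Module.Basis.span_apply] at e
    exact ⟨h 0, h 1⟩
  refine ⟨H⁻¹ *ᵥ fun i => φ (Pi.single i 1), ?_⟩
  have key : ∀ u, bf H u (H⁻¹ *ᵥ fun i => φ (Pi.single i 1)) = φ u := by
    intro u
    rw [bf, Matrix.mulVec_mulVec, Matrix.mul_nonsing_inv H (Ne.isUnit hd), Matrix.one_mulVec]
    conv_rhs => rw [pi_eq_sum_univ' u]
    simp [dotProduct]
  exact ⟨by rw [key, h1.1], by rw [key, h1.2]⟩

theorem exists_bf_eq_one {H : Matrix ι ι F} (hd : H.det ≠ 0) {v : ι → F} (hv : v ≠ 0) : ∃ y, bf H v y = 1 := by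
  by_contra h
  push Not at h
  refine hv (bf_eq_zero_left hd fun y => ?_)
  by_contra hy
  exact h ((bf H v y)⁻¹ • y) (by rw [bf_smul_right, inv_mul_cancel₀ hy])

/-- The Eichler element of `(v, x)`, as a matrix. -/
def rt (H : Matrix ι ι F) (v x : ι → F) : Matrix ι ι F :=
  1 + (vecMulVec x (v ᵥ* H) - vecMulVec v (x ᵥ* H + (bf H x x / 2) • (v ᵥ* H)))

/-- The transvection of `(v, a)`, as a matrix. -/
def tv (H : Matrix ι ι F) (v : ι → F) (a : F) : Matrix ι ι F := 1 + a • vecMulVec v (v ᵥ* H)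

theorem rt_mulVec (H : Matrix ι ι F) (v x z : ι → F) :
    rt H v x *ᵥ z = z + bf H v z • x - (bf H x z + bf H x x / 2 * bf H v z) • v := by
  rw [rt, add_mulVec, one_mulVec, sub_mulVec, vecMulVec_mulVec, vecMulVec_mulVec, op_smul_eq_smul, op_smul_eq_smul,
    add_dotProduct, smul_dotProduct, ← Matrix.dotProduct_mulVec, ← Matrix.dotProduct_mulVec]
  simp [bf, add_sub]

theorem tv_mulVec (H : Matrix ι ι F) (v z : ι → F) (a : F) : tv H v a *ᵥ z = z + (a * bf H v z) • v := by
  rw [tv, add_mulVec, one_mulVec, smul_mulVec, vecMulVec_mulVec, ← Matrix.dotProduct_mulVec, mul_smul]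
  simp [bf]

theorem ext_mulVec {A B : Matrix ι ι F} (h : ∀ z, A *ᵥ z = B *ᵥ z) : A = B :=
  Matrix.ext_of_mulVec_single fun _ => h _

theorem det_eq_one_of_sq {H : Matrix ι ι F} (hd : H.det ≠ 0) {A B : Matrix ι ι F} (hA : Bᵀ * H * B = H)
    (hB : A = B * B) : A.det = 1 := by
  have h1 := congrArg Matrix.det hA
  rw [det_mul, det_mul, det_transpose] at h1
  rw [hB, det_mul]
  exact mul_right_cancel₀ hd (by linear_combination h1)

/-! ### Transvections -/

section Alt

variable {H : Matrix ι ι F} (halt : ∀ u, bf H u u = 0)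

include halt

theorem alt_swap (u v : ι → F) : bf H v u = - bf H u v := by
  have h := halt (u + v)
  rw [bf_add_left, bf_add_right, bf_add_right, halt, halt] at h
  linear_combination h

theorem tv_sims (v : ι → F) (a : F) : Sims H (tv H v a) 1 := by
  rw [Sims, one_smul]
  refine bf_inj fun u w => ?_
  rw [← bf_mulVec, tv_mulVec, tv_mulVec]
  simp only [bf_add_left, bf_add_right, bf_smul_left, bf_smul_right, halt, alt_swap halt v u]
  ring

theorem tv_mul (v : ι → F) (a b : F) : tv H v a * tv H v b = tv H v (a + b) := by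
  refine ext_mulVec fun z => ?_
  rw [← mulVec_mulVec, tv_mulVec, tv_mulVec, tv_mulVec, bf_add_right, bf_smul_right, halt]
  module

theorem tv_pow (v : ι → F) (a : F) (k : ℕ) : tv H v a ^ k = tv H v (k * a) := by
  induction k with
  | zero => simp [tv]
  | succ k ih => rw [pow_succ, ih, tv_mul halt]; push_cast; ring_nf

theorem tv_det (hd : H.det ≠ 0) (h2 : (2 : F) ≠ 0) (v : ι → F) (a : F) : (tv H v a).det = 1 := by
  refine det_eq_one_of_sq hd (B := tv H v (a / 2)) (by simpa [Sims] using tv_sims halt v (a / 2)) ?_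
  rw [tv_mul halt]
  congr 1
  field_simp
  ring

end Alt

/-! ### Eichler elements -/

section Symm

variable {H : Matrix ι ι F} (hs : Hᵀ = H) (h2 : (2 : F) ≠ 0)

include hs h2

theorem rt_sims {v x : ι → F} (hv : bf H v v = 0) (hvx : bf H v x = 0) : Sims H (rt H v x) 1 := by
  rw [Sims, one_smul]
  refine bf_inj fun u w => ?_
  rw [← bf_mulVec, rt_mulVec, rt_mulVec]
  simp only [bf_add_left, bf_add_right, bf_sub_left, bf_sub_right, bf_smul_left, bf_smul_right, hv, hvx,
    bf_comm hs x v, bf_comm hs u v, bf_comm hs u x]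
  field_simp
  ring

theorem rt_mul {v x y : ι → F} (hv : bf H v v = 0) (hvx : bf H v x = 0) (hvy : bf H v y = 0) :
    rt H v x * rt H v y = rt H v (x + y) := by
  refine ext_mulVec fun z => ?_
  rw [← mulVec_mulVec, rt_mulVec, rt_mulVec, rt_mulVec]
  simp only [bf_add_left, bf_add_right, bf_sub_right, bf_smul_right, hv, hvx, hvy, bf_comm hs x v, bf_comm hs y x]
  match_scalars <;> field_simp <;> ring

theorem rt_pow {v x : ι → F} (hv : bf H v v = 0) (hvx : bf H v x = 0) (k : ℕ) :
    rt H v x ^ k = rt H v ((k : F) • x) := by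
  induction k with
  | zero => simp [rt, bf_zero_left]
  | succ k ih =>
    rw [pow_succ, ih, rt_mul hs h2 hv (by rw [bf_smul_right, hvx, mul_zero]) hvx]
    push_cast
    rw [add_smul, one_smul]

theorem rt_det (hd : H.det ≠ 0) {v x : ι → F} (hv : bf H v v = 0) (hvx : bf H v x = 0) : (rt H v x).det = 1 := by
  have hvx' : bf H v ((2 : F)⁻¹ • x) = 0 := by rw [bf_smul_right, hvx, mul_zero]
  refine det_eq_one_of_sq hd (B := rt H v ((2 : F)⁻¹ • x)) (by simpa [Sims] using rt_sims hs h2 hv hvx') ?_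
  rw [rt_mul hs h2 hv hvx' hvx', ← add_smul]
  rw [show (2 : F)⁻¹ + (2 : F)⁻¹ = 1 by field_simp; ring, one_smul]

end Symm

end Cfsg.Agent.H58.FormRoot
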