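import Mathlib
import Cfsg.Agent.H58.FormClass
import Cfsg.Agent.H58.FormCharTwo

/-!
# Classes of graph automorphisms from classes of bilinear forms: the abstract step
-/

set_option autoImplicit false
set_option linter.unusedSectionVars false

namespace Cfsg.Agent.H58.GraphGeneric

open Matrix Cfsg.Agent.H58.FormSim Cfsg.Agent.H58.FormClass

/-- Non-singular symmetric or skew-symmetric. -/
def Good {K : Type*} [Field K] {ι : Type} [Fintype ι] [DecidableEq ι] (H : Matrix ι ι K) : Prop :=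
  H.det ≠ 0 ∧ (Hᵀ = H ∨ Hᵀ = (-1 : K) • H)

/-- Elements with `P` are described by forms up to congruence and scalars. -/
structure Setup (K : Type*) [Field K] (n : ℕ) {X : Type*} [Group X] (I : Subgroup X) (P : X → Prop) where
  Rep : X → Matrix (Fin n) (Fin n) K → Prop
  exists_rep : ∀ γ, P γ → ∃ H, Good H ∧ Rep γ H
  exists_aut : ∀ H, Good H → ∃ γ, P γ ∧ Rep γ H
  conj_iff : ∀ γ γ' H H', Rep γ H → Rep γ' H' → (Cfsg.IsConjUnder I γ γ' ↔ Congr H H')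
  iso : ∀ γ H, Rep γ H → Nonempty (↥(I ⊓ Subgroup.centralizer {γ}) ≃* Cfsg.projQuot (sim H))

variable {K : Type*} [Field K] {n : ℕ} {X : Type*} [Group X] {I : Subgroup X} {P : X → Prop}

theorem good_of_congr {ι κ : Type} [Fintype ι] [DecidableEq ι] [Fintype κ] [DecidableEq κ] {H : Matrix ι ι K}
    {H' : Matrix κ κ K} (hc : Congr H H') (hH : Good H) : Good H' := by
  refine ⟨hc.det_ne_zero hH.1, hH.2.imp (fun h => ?_) fun h => hc.transpose_eq h⟩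
  simpa using hc.transpose_eq (c := 1) (by rw [one_smul]; exact h)

theorem Setup.exists_of_good (S : Setup K n I P) {κ : Type} [Fintype κ] [DecidableEq κ] (hκ : Fintype.card κ = n)
    (H : Matrix κ κ K) (hH : Good H) :
    ∃ γ H', P γ ∧ S.Rep γ H' ∧ Congr H' H ∧ Good H' := by
  let e : κ ≃ Fin n := Fintype.equivFinOfCardEq hκ
  have hc := congr_reindex e H
  obtain ⟨γ, hP, hR⟩ := S.exists_aut _ (good_of_congr hc hH)
  exact ⟨γ, _, hP, hR, hc.symm, good_of_congr hc hH⟩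

theorem Setup.iso_of_congr (S : Setup K n I P) {κ : Type} [Fintype κ] [DecidableEq κ] {γ : X}
    {H : Matrix (Fin n) (Fin n) K} {M : Matrix κ κ K} (hR : S.Rep γ H) (hc : Congr H M) :
    Nonempty (↥(I ⊓ Subgroup.centralizer {γ}) ≃* Cfsg.projQuot (sim M)) := by
  obtain ⟨i⟩ := S.iso γ H hR
  obtain ⟨j⟩ := hc.nonempty_iso
  exact ⟨i.trans j⟩

/-- Two is non-zero exactly off characteristic two. -/
theorem two_dichotomy (K : Type*) [Field K] : CharP K 2 ∨ (2 : K) ≠ 0 := by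
  by_cases h : (2 : K) = 0
  · exact Or.inl (CharTwo.of_one_ne_zero_of_two_eq_zero one_ne_zero h)
  · exact Or.inr h

theorem not_congr_skew_symm (h2 : (2 : K) ≠ 0) {κ κ' : Type} [Fintype κ] [DecidableEq κ] [Fintype κ'] [DecidableEq κ']
    [Nonempty κ'] {A : Matrix κ κ K} {B : Matrix κ' κ' K} (hB : Good B) (hs : Bᵀ = B) (hA : Aᵀ = (-1 : K) • A) :
    ¬ Congr A B := fun hc => by
  have h := hc.transpose_eq hA
  rw [hs] at h
  refine hB.1 ?_
  have hB0 : B = 0 := Matrix.ext fun i j => by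
    have h' := congrFun (congrFun h i) j
    rw [Matrix.smul_apply, smul_eq_mul] at h'
    exact (mul_eq_zero.1 (show (2 : K) * B i j = 0 by linear_combination h')).resolve_left h2
  rw [hB0, Matrix.det_zero]

variable [Fintype K]

/-- Odd dimension: one class. -/
theorem Setup.odd (S : Setup K n I P) {m : ℕ} (hnm : n = 2 * m + 1) {γ γ' : X} (hγ : P γ) (hγ' : P γ') :
    Nonempty (↥(I ⊓ Subgroup.centralizer {γ}) ≃* Cfsg.PGO K (Cfsg.quadFormOdd m K)) ∧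
      Cfsg.IsConjUnder I γ γ' := by
  obtain ⟨H, hH, hR⟩ := S.exists_rep γ hγ
  obtain ⟨H', hH', hR'⟩ := S.exists_rep γ' hγ'
  rw [S.conj_iff γ γ' H H' hR hR']
  rcases two_dichotomy K with hc2 | h2
  · have hsym : ∀ M : Matrix (Fin n) (Fin n) K, Good M → Mᵀ = M := fun M hM => hM.2.elim id fun h => by
      rwa [CharTwo.neg_eq, one_smul] at h
    have hna : ∀ M : Matrix (Fin n) (Fin n) K, Good M → ∃ v, bf M v v ≠ 0 := fun M hM => by
      by_contra hc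
      push Not at hc
      obtain ⟨k, hk, -⟩ := congr_J hM.1 hc
      rw [Fintype.card_fin] at hk
      omega
    obtain ⟨ho1, ho2, ho3⟩ := FormCharTwo.oddForm_spec (F := K) (m := m)
    have hcard : Fintype.card (Fin n) = Fintype.card (Unit ⊕ (Fin m ⊕ Fin m)) := by simp; omega
    have hc := FormCharTwo.congr_one_of_nonalt (hsym H hH) hH.1 (hna H hH) ho1 ho2 ho3 hcard
    have hc' := FormCharTwo.congr_one_of_nonalt (hsym H' hH') hH'.1 (hna H' hH') ho1 ho2 ho3 hcard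
    obtain ⟨i⟩ := S.iso_of_congr hR hc
    obtain ⟨j⟩ := FormCharTwo.sim_oddForm_iso (F := K) (m := m)
    exact ⟨⟨i.trans j⟩, hc.trans hc'.symm⟩
  · have hsym : ∀ M : Matrix (Fin n) (Fin n) K, Good M → Mᵀ = M := fun M hM => hM.2.elim id fun h => by
      obtain ⟨k, hk, -⟩ := congr_J hM.1 (alt_of_skew h2 h)
      rw [Fintype.card_fin] at hk
      omega
    have hcard : Fintype.card (Fin n) = 2 * m + 1 := by simp [hnm]
    have hc := congr_odd h2 (hsym H hH) hH.1 hcard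
    have hc' := congr_odd h2 (hsym H' hH') hH'.1 hcard
    obtain ⟨i⟩ := S.iso_of_congr hR hc
    rw [sim_gram h2] at i
    exact ⟨⟨i⟩, hc.trans hc'.symm⟩

/-- Even dimension, odd characteristic: three classes. -/
theorem Setup.even_odd (S : Setup K n I P) (h2 : (2 : K) ≠ 0) {m : ℕ} (hm : 2 ≤ m) (hnm : n = 2 * m) :
    ∃ (γ₁ γ₂ γ₃ : X) (a b : K), (∀ z₁ z₂ : K, z₁ ^ 2 + a * z₁ * z₂ + b * z₂ ^ 2 = 0 → z₁ = 0 ∧ z₂ = 0) ∧
      P γ₁ ∧ P γ₂ ∧ P γ₃ ∧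
      ¬ Cfsg.IsConjUnder I γ₁ γ₂ ∧ ¬ Cfsg.IsConjUnder I γ₁ γ₃ ∧ ¬ Cfsg.IsConjUnder I γ₂ γ₃ ∧
      (∀ γ, P γ → Cfsg.IsConjUnder I γ₁ γ ∨ Cfsg.IsConjUnder I γ₂ γ ∨ Cfsg.IsConjUnder I γ₃ γ) ∧
      Nonempty (↥(I ⊓ Subgroup.centralizer {γ₁}) ≃* Cfsg.PGSp m K) ∧
      Nonempty (↥(I ⊓ Subgroup.centralizer {γ₂}) ≃* Cfsg.PGO K (Cfsg.quadFormPlus m K)) ∧
      Nonempty (↥(I ⊓ Subgroup.centralizer {γ₃}) ≃* Cfsg.PGO K (Cfsg.quadFormMinus (m - 1) K a b)) := by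
  obtain ⟨k, rfl⟩ : ∃ k, m = k + 1 := ⟨m - 1, by omega⟩
  obtain ⟨a, b, hab⟩ := exists_aniso (F := K) h2
  have hJ : Good (Matrix.J (Fin (k + 1)) K) :=
    ⟨(Matrix.isUnit_det_J (Fin (k + 1)) K).ne_zero, Or.inr (by rw [Matrix.J_transpose, neg_one_smul])⟩
  have hgood : ∀ {κ : Type} [Fintype κ] [DecidableEq κ] (Q : QuadraticForm K (κ → K)),
      Orthogonal.Nondeg Q → Good (gram Q) := fun Q hQ => ⟨gram_det hQ, Or.inl (gram_transpose Q)⟩
  have hP : Good (gram (Orthogonal.formPlus K (k + 1))) := hgood _ (Orthogonal.formPlus_nondeg K (k + 1))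
  have hM : Good (gram (Orthogonal.formMinus K k a b)) := hgood _ (Orthogonal.formMinus_nondeg _ hab)
  obtain ⟨γ₁, H₁, p₁, R₁, c₁, g₁⟩ := S.exists_of_good (by simp; omega) _ hJ
  obtain ⟨γ₂, H₂, p₂, R₂, c₂, g₂⟩ := S.exists_of_good (by simp; omega) _ hP
  obtain ⟨γ₃, H₃, p₃, R₃, c₃, g₃⟩ := S.exists_of_good (by simp; omega) _ hM
  have hJt : (Matrix.J (Fin (k + 1)) K)ᵀ = (-1 : K) • Matrix.J (Fin (k + 1)) K := by
    rw [Matrix.J_transpose, neg_one_smul]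
  refine ⟨γ₁, γ₂, γ₃, a, b, hab, p₁, p₂, p₃, ?_, ?_, ?_, fun γ hγ => ?_, ?_, ?_, ?_⟩
  · rw [S.conj_iff _ _ _ _ R₁ R₂]
    exact fun h => not_congr_skew_symm h2 hP (gram_transpose _) hJt ((c₁.symm.trans h).trans c₂)
  · rw [S.conj_iff _ _ _ _ R₁ R₃]
    exact fun h => not_congr_skew_symm h2 hM (gram_transpose _) hJt ((c₁.symm.trans h).trans c₃)
  · rw [S.conj_iff _ _ _ _ R₂ R₃]
    exact fun h => not_congr_plus_minus h2 k hab ((c₂.symm.trans h).trans c₃)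
  · obtain ⟨H, hH, hR⟩ := S.exists_rep γ hγ
    rcases hH.2 with hs | hs
    · rcases congr_even h2 hs hH.1 (k := k) (by simp; omega) hab with hc | hc
      · exact Or.inr (Or.inl ((S.conj_iff _ _ _ _ R₂ hR).2 (c₂.trans hc.symm)))
      · exact Or.inr (Or.inr ((S.conj_iff _ _ _ _ R₃ hR).2 (c₃.trans hc.symm)))
    · obtain ⟨j, hj, hc⟩ := congr_J hH.1 (alt_of_skew h2 hs)
      obtain rfl : j = k + 1 := by rw [Fintype.card_fin] at hj; omega
      exact Or.inl ((S.conj_iff _ _ _ _ R₁ hR).2 (c₁.trans hc.symm))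
  · exact S.iso_of_congr R₁ c₁
  · obtain ⟨i⟩ := S.iso_of_congr R₂ c₂
    rw [sim_gram h2] at i
    exact ⟨i⟩
  · obtain ⟨i⟩ := S.iso_of_congr R₃ c₃
    rw [sim_gram h2] at i
    exact ⟨i⟩

/-- Even dimension, characteristic two: two classes. -/
theorem Setup.even_two (S : Setup K n I P) [CharP K 2] {m : ℕ} (hm : 2 ≤ m) (hnm : n = 2 * m) :
    ∃ (γ₁ γ₃ : X) (t : ↥(Matrix.symplecticGroup (Fin m) K)),
      Cfsg.IsTransvection (t : Matrix (Fin m ⊕ Fin m) (Fin m ⊕ Fin m) K) ∧ P γ₁ ∧ P γ₃ ∧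
      ¬ Cfsg.IsConjUnder I γ₁ γ₃ ∧ (∀ γ, P γ → Cfsg.IsConjUnder I γ₁ γ ∨ Cfsg.IsConjUnder I γ₃ γ) ∧
      Nonempty (↥(I ⊓ Subgroup.centralizer {γ₁}) ≃* ↥(Matrix.symplecticGroup (Fin m) K)) ∧
      Nonempty (↥(I ⊓ Subgroup.centralizer {γ₃}) ≃*
        ↥(Subgroup.centralizer ({t} : Set ↥(Matrix.symplecticGroup (Fin m) K)))) := by
  have hsym : ∀ {κ : Type} [Fintype κ] [DecidableEq κ] (M : Matrix κ κ K), Mᵀ = (-1 : K) • M → Mᵀ = M :=
    fun M h => by rwa [CharTwo.neg_eq, one_smul] at h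
  have hJt : (Matrix.J (Fin m) K)ᵀ = Matrix.J (Fin m) K := hsym _ (by rw [Matrix.J_transpose, neg_one_smul])
  have hJalt : ∀ v, bf (Matrix.J (Fin m) K) v v = 0 := fun v => by rw [FormCharTwo.bf_J]; exact FormCharTwo.sp_self v
  set u : Fin m ⊕ Fin m → K := Pi.single (.inl ⟨0, by omega⟩) 1
  have hu : u ≠ 0 := fun h => one_ne_zero (α := K) (by simpa [u] using congrFun h (.inl ⟨0, by omega⟩))
  obtain ⟨γ₁, H₁, p₁, R₁, c₁, g₁⟩ := S.exists_of_good (by simp; omega) (Matrix.J (Fin m) K)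
    ⟨(Matrix.isUnit_det_J (Fin m) K).ne_zero, Or.inl hJt⟩
  obtain ⟨γ₃, H₃, p₃, R₃, c₃, g₃⟩ := S.exists_of_good (by simp; omega) (FormCharTwo.tvForm u)
    ⟨FormCharTwo.tvForm_det u, Or.inl (FormCharTwo.tvForm_transpose u)⟩
  refine ⟨γ₁, γ₃, Symplectic.T u 1, FormCharTwo.isTransvection_T hu, p₁, p₃, ?_, fun γ hγ => ?_, ?_, ?_⟩
  · rw [S.conj_iff _ _ _ _ R₁ R₃]
    intro h
    obtain ⟨v, hv⟩ := FormCharTwo.tvForm_nonalt hu
    exact hv (FormCharTwo.alt_iff ((c₁.symm.trans h).trans c₃) hJalt v)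
  · obtain ⟨H, hH, hR⟩ := S.exists_rep γ hγ
    have hs : Hᵀ = H := hH.2.elim id (hsym H)
    by_cases halt : ∀ v, bf H v v = 0
    · obtain ⟨j, hj, hc⟩ := congr_J hH.1 halt
      obtain rfl : j = m := by rw [Fintype.card_fin] at hj; omega
      exact Or.inl ((S.conj_iff _ _ _ _ R₁ hR).2 (c₁.trans hc.symm))
    · push Not at halt
      have hc := FormCharTwo.congr_one_of_nonalt hs hH.1 halt (FormCharTwo.tvForm_transpose u)
        (FormCharTwo.tvForm_det u) (FormCharTwo.tvForm_nonalt hu) (by simp; omega)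
      exact Or.inr ((S.conj_iff _ _ _ _ R₃ hR).2 (c₃.trans hc.symm))
  · obtain ⟨i⟩ := S.iso_of_congr R₁ c₁
    obtain ⟨j⟩ := FormCharTwo.sim_J_iso (F := K) (m := m) (by omega)
    exact ⟨i.trans j⟩
  · obtain ⟨i⟩ := S.iso_of_congr R₃ c₃
    obtain ⟨j⟩ := FormCharTwo.sim_tvForm_iso hu
    exact ⟨i.trans j⟩

end Cfsg.Agent.H58.GraphGeneric
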