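import Mathlib
import Cfsg.Agent.H58.FormRoot
import Cfsg.Agent.H58.GraphGeneric

/-!
# Subgroups of odd order normalised by the root elements of a form
-/

set_option autoImplicit false
set_option linter.unusedSectionVars false
set_option linter.unusedSimpArgs false

namespace Cfsg.Agent.H58.FormCore

open Matrix Cfsg.Agent.H58.FormSim Cfsg.Agent.H58.FormInvariants Cfsg.Agent.H58.FormRoot

/-! ### Group lemmas -/

theorem exists_mul_pow {X : Type*} [Group X] {M : Subgroup X} {g : X} (hg : ∀ x ∈ M, g * x * g⁻¹ ∈ M) {μ : X}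
    (hμ : μ ∈ M) (k : ℕ) : ∃ ν ∈ M, (μ * g) ^ k = ν * g ^ k := by
  induction k with
  | zero => exact ⟨1, M.one_mem, by simp⟩
  | succ k ih =>
    obtain ⟨ν, hν, e⟩ := ih
    exact ⟨μ * (g * ν * g⁻¹), M.mul_mem hμ (hg ν hν), by rw [pow_succ', e, pow_succ']; group⟩

/-- A product of `r`-elements normalising a subgroup of odd order and of a conjugate has odd order. -/
theorem exists_odd_pow {X : Type*} [Group X] {M : Subgroup X} (hodd : Odd (Nat.card M)) {a b m : X} {r : ℕ}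
    (hr : Odd r) (ha : ∀ x ∈ M, a * x * a⁻¹ ∈ M) (hb : ∀ x ∈ M, b * x * b⁻¹ ∈ M) (hm : m ∈ M)
    (hab : (a * b * a) ^ r = 1) : ∃ N, Odd N ∧ (a * (m * b * m⁻¹) * a) ^ N = 1 := by
  have hg : ∀ x ∈ M, (a * b * a) * x * (a * b * a)⁻¹ ∈ M := by
    intro x hx
    rw [show (a * b * a) * x * (a * b * a)⁻¹ = a * (b * (a * x * a⁻¹) * b⁻¹) * a⁻¹ by group]
    exact ha _ (hb _ (ha _ hx))
  have hμ : a * (m * (b * m⁻¹ * b⁻¹)) * a⁻¹ ∈ M := ha _ (M.mul_mem hm (hb _ (M.inv_mem hm)))
  obtain ⟨ν, hν, e⟩ := exists_mul_pow hg hμ r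
  refine ⟨r * Nat.card M, hr.mul hodd, ?_⟩
  rw [show a * (m * b * m⁻¹) * a = a * (m * (b * m⁻¹ * b⁻¹)) * a⁻¹ * (a * b * a) by group, pow_mul, e, hab, mul_one]
  exact congrArg Subtype.val (pow_card_eq_one' (x := (⟨ν, hν⟩ : M)))

variable {F : Type*} [Field F] [Fintype F] {n : ℕ}

theorem odd_ringChar (h2 : (2 : F) ≠ 0) : Odd (ringChar F) := by
  refine Nat.Prime.odd_of_ne_two (CharP.char_is_prime F (ringChar F)) fun h => h2 ?_
  have := ringChar.Nat.cast_ringChar (R := F)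
  rw [h] at this
  exact_mod_cast this

theorem scalar_of_mulVec {g : GL (Fin n) F} {l : F} (hl : l ≠ 0) (h : ∀ z, (g : Matrix (Fin n) (Fin n) F) *ᵥ z = l • z) :
    g = GeneralLinearGroup.scalar (Fin n) (Units.mk0 l hl) := by
  refine Units.ext (ext_mulVec fun z => ?_)
  rw [h, GeneralLinearGroup.coe_scalar, Units.val_mk0, Matrix.scalar_apply]
  funext i
  rw [mulVec_diagonal]; rfl

theorem mulVec_injective' (g : GL (Fin n) F) {z : Fin n → F} (h : (g : Matrix (Fin n) (Fin n) F) *ᵥ z = 0) : z = 0 := by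
  have := congrArg (fun y => ((g⁻¹ : GL (Fin n) F) : Matrix (Fin n) (Fin n) F) *ᵥ y) h
  simpa [mulVec_mulVec] using this

theorem ne_zero_of_notMem {v w : Fin n → F} (h : w ∉ Submodule.span F {v}) : w ≠ 0 :=
  fun h0 => h (h0 ▸ zero_mem _)

variable {H : Matrix (Fin n) (Fin n) F}

/-- For a symmetric form: a vector orthogonal to a hyperbolic pair that is not singular. -/
theorem exists_aniso_perp (hn : 3 ≤ n) (hd : H.det ≠ 0) (hs : Hᵀ = H) (h2 : (2 : F) ≠ 0) {v w : Fin n → F}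
    (hv : bf H v v = 0) (hw : bf H w w = 0) (hvw : bf H v w = 1) :
    ∃ x, bf H v x = 0 ∧ bf H w x = 0 ∧ bf H x x ≠ 0 := by
  by_contra hc
  push Not at hc
  have hP : ∀ x y, bf H v x = 0 → bf H w x = 0 → bf H v y = 0 → bf H w y = 0 → bf H x y = 0 := by
    intro x y hx hx' hy hy'
    have h1 := hc (x + y) (by rw [bf_add_right, hx, hy, add_zero]) (by rw [bf_add_right, hx', hy', add_zero])
    rw [bf_add_left, bf_add_right, bf_add_right, hc x hx hx', hc y hy hy', bf_comm hs y x] at h1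
    exact (mul_eq_zero.1 (show (2 : F) * bf H x y = 0 by linear_combination h1)).resolve_left h2
  let p : (Fin n → F) → (Fin n → F) := fun y => y - bf H w y • v - bf H v y • w
  have hp1 : ∀ y, bf H v (p y) = 0 := fun y => by
    simp [p, bf_sub_right, bf_smul_right, hv, hvw]
  have hp2 : ∀ y, bf H w (p y) = 0 := fun y => by
    simp [p, bf_sub_right, bf_smul_right, hw, bf_comm hs w v, hvw]
  have hp : ∀ y, p y = 0 := fun y => bf_eq_zero_left hd fun z => by
    have e : z = p z + bf H w z • v + bf H v z • w := by simp only [p]; abel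
    rw [e, bf_add_right, bf_add_right, bf_smul_right, bf_smul_right, hP _ _ (hp1 y) (hp2 y) (hp1 z) (hp2 z),
      bf_comm hs (p y) v, hp1, bf_comm hs (p y) w, hp2, mul_zero, mul_zero, add_zero, add_zero]
  have htop : (⊤ : Submodule F (Fin n → F)) ≤ Submodule.span F (Set.range ![v, w]) := fun y _ => by
    have e : y = p y + bf H w y • v + bf H v y • w := by simp only [p]; abel
    rw [e, hp, zero_add]
    exact add_mem (Submodule.smul_mem _ _ (Submodule.subset_span ⟨0, rfl⟩))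
      (Submodule.smul_mem _ _ (Submodule.subset_span ⟨1, rfl⟩))
  have h := (Submodule.finrank_mono htop).trans (finrank_range_le_card (R := F) ![v, w])
  rw [finrank_top, Module.finrank_fin_fun, Fintype.card_fin] at h
  omega

theorem exists_singular (hn : 3 ≤ n) (hd : H.det ≠ 0) (hs : Hᵀ = H) (h2 : (2 : F) ≠ 0) :
    ∃ v f : Fin n → F, bf H v v = 0 ∧ bf H f f = 0 ∧ bf H v f = 1 := by
  obtain ⟨v, hv0, hv⟩ := (FormClass.qf_nondeg h2 hs hd).exists_singular (by rw [Module.finrank_fin_fun]; exact hn)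
  rw [FormClass.qf_apply] at hv
  obtain ⟨y, hy⟩ := exists_bf_eq_one hd hv0
  refine ⟨v, y - (bf H y y / 2) • v, hv, ?_, ?_⟩
  · simp only [bf_sub_left, bf_sub_right, bf_smul_left, bf_smul_right, hv, bf_comm hs y v, hy]
    field_simp
    ring
  · rw [bf_sub_right, bf_smul_right, hv, hy, mul_zero, sub_zero]

theorem rt_pow_char (hs : Hᵀ = H) (h2 : (2 : F) ≠ 0) {v x : Fin n → F} (hv : bf H v v = 0) (hvx : bf H v x = 0) :
    rt H v x ^ ringChar F = 1 := by
  rw [rt_pow hs h2 hv hvx, ringChar.Nat.cast_ringChar, zero_smul]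
  simp [rt, bf_zero_left]

theorem tv_pow_char (halt : ∀ z, bf H z z = 0) (v : Fin n → F) (a : F) : tv H v a ^ ringChar F = 1 := by
  rw [tv_pow halt, ringChar.Nat.cast_ringChar, zero_mul]
  simp [tv]

section Pi

variable {X : Type*} [Group X] {Γ : Subgroup (GL (Fin n) F)} (π : Γ →* X)

/-- Elements exchanging two points cannot have odd order. -/
theorem false_of_swap (hker : ∀ g : Γ, π g = 1 ↔ ∃ c : Fˣ, (g : GL (Fin n) F) = GeneralLinearGroup.scalar (Fin n) c)
    (e : Γ) {v w : Fin n → F} {p q : F} (hp : p ≠ 0) (hq : q ≠ 0) (hw : w ∉ Submodule.span F {v})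
    (hev : ((e : GL (Fin n) F) : Matrix (Fin n) (Fin n) F) *ᵥ v = p • w)
    (hew : ((e : GL (Fin n) F) : Matrix (Fin n) (Fin n) F) *ᵥ w = q • v) {N : ℕ} (hN : Odd N) (h : π e ^ N = 1) :
    False := by
  rw [← map_pow, hker] at h
  obtain ⟨c, hc⟩ := h
  obtain ⟨k, rfl⟩ := hN
  have key : ∀ j : ℕ, (((e : GL (Fin n) F) : Matrix (Fin n) (Fin n) F) ^ (2 * j + 1)) *ᵥ v = ((p * q) ^ j * p) • w := by
    intro j
    induction j with
    | zero => simpa using hev
    | succ j ih =>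
      rw [show 2 * (j + 1) + 1 = 2 * j + 1 + 1 + 1 from rfl, pow_succ', pow_succ', ← mulVec_mulVec, ← mulVec_mulVec,
        ih, mulVec_smul, hew, mulVec_smul, mulVec_smul, hev, smul_smul, smul_smul]
      congr 1
      ring
  have h1 := key k
  rw [← Units.val_pow_eq_pow_val, ← Subgroup.coe_pow, hc, GeneralLinearGroup.coe_scalar, Matrix.scalar_apply,
    show (Matrix.diagonal fun _ : Fin n => (c : F)) *ᵥ v = (c : F) • v from funext fun i => mulVec_diagonal _ _ _] at h1
  refine hw ?_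
  have hd : (p * q) ^ k * p ≠ 0 := mul_ne_zero (pow_ne_zero _ (mul_ne_zero hp hq)) hp
  rw [← inv_smul_smul₀ hd w, ← h1]
  exact Submodule.smul_mem _ _ (Submodule.smul_mem _ _ (Submodule.mem_span_singleton_self v))

variable (hd : H.det ≠ 0) (h2 : (2 : F) ≠ 0) (hn : 3 ≤ n)
  (hsim : ∀ g ∈ Γ, ∃ c : Fˣ, Sims H (g : Matrix (Fin n) (Fin n) F) (c : F))
  (hiso : ∀ g : GL (Fin n) F, Sims H (g : Matrix (Fin n) (Fin n) F) 1 → (g : Matrix (Fin n) (Fin n) F).det = 1 → g ∈ Γ)
  (hker : ∀ g : Γ, π g = 1 ↔ ∃ c : Fˣ, (g : GL (Fin n) F) = GeneralLinearGroup.scalar (Fin n) c)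
  (M : Subgroup X) (hM : M ≤ π.range) (hodd : Odd (Nat.card M))
  (hnorm : ∀ s : Γ, Sims H ((s : GL (Fin n) F) : Matrix (Fin n) (Fin n) F) 1 →
    ((s : GL (Fin n) F) : Matrix (Fin n) (Fin n) F).det = 1 →
      ((s : GL (Fin n) F) : Matrix (Fin n) (Fin n) F) ^ ringChar F = 1 → ∀ x ∈ M, π s * x * (π s)⁻¹ ∈ M)

/-- A matrix as an element of `Γ`. -/
noncomputable def el (A : Matrix (Fin n) (Fin n) F) (h1 : Sims H A 1) (h : A.det = 1) : Γ :=
  ⟨GeneralLinearGroup.mkOfDetNeZero A (by rw [h]; exact one_ne_zero), hiso _ h1 h⟩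

include hiso in
theorem coe_el (A : Matrix (Fin n) (Fin n) F) (h1 : Sims H A 1) (h : A.det = 1) :
    ((el hiso A h1 h : GL (Fin n) F) : Matrix (Fin n) (Fin n) F) = A := rfl

include hd h2 hiso hker hodd hnorm in
/-- The basic contradiction. -/
theorem false_of_roots {a b : Γ} (m : Γ) (hm : π m ∈ M)
    (ha1 : Sims H ((a : GL (Fin n) F) : Matrix (Fin n) (Fin n) F) 1)
    (ha2 : ((a : GL (Fin n) F) : Matrix (Fin n) (Fin n) F).det = 1)
    (hb1 : Sims H ((b : GL (Fin n) F) : Matrix (Fin n) (Fin n) F) 1)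
    (hb2 : ((b : GL (Fin n) F) : Matrix (Fin n) (Fin n) F).det = 1)
    (ha3 : ((a : GL (Fin n) F) : Matrix (Fin n) (Fin n) F) ^ ringChar F = 1)
    (hb3 : ((b : GL (Fin n) F) : Matrix (Fin n) (Fin n) F) ^ ringChar F = 1)
    (hab : ((a * b * a : Γ) : GL (Fin n) F) ^ ringChar F = 1)
    {v w : Fin n → F} {p q : F} (hp : p ≠ 0) (hq : q ≠ 0) (hw : w ∉ Submodule.span F {v})
    (hev : (((a * (m * b * m⁻¹) * a : Γ) : GL (Fin n) F) : Matrix (Fin n) (Fin n) F) *ᵥ v = p • w)
    (hew : (((a * (m * b * m⁻¹) * a : Γ) : GL (Fin n) F) : Matrix (Fin n) (Fin n) F) *ᵥ w = q • v) :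
    False := by
  obtain ⟨N, hN, h⟩ := exists_odd_pow hodd (odd_ringChar h2) (hnorm a ha1 ha2 ha3) (hnorm b hb1 hb2 hb3) hm
    (by rw [← map_mul, ← map_mul, ← map_pow, show (a * b * a) ^ ringChar F = 1 from Subtype.ext hab, map_one])
  exact false_of_swap π hker _ hp hq hw hev hew hN (by simpa only [map_mul, map_inv] using h)

theorem coe_conj_mulVec (a m b : Γ) (z : Fin n → F) :
    (((a * (m * b * m⁻¹) * a : Γ) : GL (Fin n) F) : Matrix (Fin n) (Fin n) F) *ᵥ z =
      ((a : GL (Fin n) F) : Matrix (Fin n) (Fin n) F) *ᵥ (((m : GL (Fin n) F) : Matrix (Fin n) (Fin n) F) *ᵥ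
        (((b : GL (Fin n) F) : Matrix (Fin n) (Fin n) F) *ᵥ ((((m : GL (Fin n) F)⁻¹ : GL (Fin n) F) : Matrix (Fin n) (Fin n) F) *ᵥ
          (((a : GL (Fin n) F) : Matrix (Fin n) (Fin n) F) *ᵥ z)))) := by
  simp only [Subgroup.coe_mul, Subgroup.coe_inv, Units.val_mul, mulVec_mulVec, mul_assoc]

theorem mul_inv_mulVec (m : GL (Fin n) F) (z : Fin n → F) :
    (m : Matrix (Fin n) (Fin n) F) *ᵥ (((m⁻¹ : GL (Fin n) F) : Matrix (Fin n) (Fin n) F) *ᵥ z) = z := by
  rw [mulVec_mulVec, ← Units.val_mul, mul_inv_cancel, Units.val_one, one_mulVec]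

theorem bf_inv {g : GL (Fin n) F} {c : F} (hc : c ≠ 0) (h : Sims H (g : Matrix (Fin n) (Fin n) F) c)
    (v z : Fin n → F) :
    bf H v (((g⁻¹ : GL (Fin n) F) : Matrix (Fin n) (Fin n) F) *ᵥ z) = c⁻¹ * bf H ((g : Matrix (Fin n) (Fin n) F) *ᵥ v) z := by
  have h1 : bf H ((g : Matrix (Fin n) (Fin n) F) *ᵥ v) ((g : Matrix (Fin n) (Fin n) F) *ᵥ (((g⁻¹ : GL (Fin n) F) : Matrix (Fin n) (Fin n) F) *ᵥ z))
      = c * bf H v (((g⁻¹ : GL (Fin n) F) : Matrix (Fin n) (Fin n) F) *ᵥ z) := by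
    rw [bf_mulVec, h, bf_smul_mat]
  rw [mul_inv_mulVec] at h1
  rw [h1, inv_mul_cancel_left₀ hc]

theorem bf_sims {g : Matrix (Fin n) (Fin n) F} {c : F} (h : Sims H g c) (u z : Fin n → F) :
    bf H (g *ᵥ u) (g *ᵥ z) = c * bf H u z := by rw [bf_mulVec, h, bf_smul_mat]

section Symm

variable (hs : Hᵀ = H)

include hd h2 hn hsim hiso hker hodd hnorm hs in
theorem perp_of_mem (m : Γ) (hm : π m ∈ M) {v : Fin n → F} (hv : bf H v v = 0) :
    bf H v (((m : GL (Fin n) F) : Matrix (Fin n) (Fin n) F) *ᵥ v) = 0 := by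
  by_contra hβ
  obtain ⟨μ, hμ⟩ := hsim _ m.2
  set β := bf H v (((m : GL (Fin n) F) : Matrix (Fin n) (Fin n) F) *ᵥ v) with hβdef
  set w := β⁻¹ • (((m : GL (Fin n) F) : Matrix (Fin n) (Fin n) F) *ᵥ v) with hwdef
  have hvw : bf H v w = 1 := by rw [hwdef, bf_smul_right, ← hβdef, inv_mul_cancel₀ hβ]
  have hww : bf H w w = 0 := by rw [hwdef, bf_smul_left, bf_smul_right, bf_sims hμ, hv, mul_zero, mul_zero, mul_zero]
  have hmv : ((m : GL (Fin n) F) : Matrix (Fin n) (Fin n) F) *ᵥ v = β • w := by rw [hwdef, smul_inv_smul₀ hβ]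
  obtain ⟨x, hvx, hwx, hxx⟩ := exists_aniso_perp hn hd hs h2 hv hww hvw
  set c := bf H x x / 2 with hcdef
  have hc : c ≠ 0 := div_ne_zero hxx h2
  set x' := ((μ : F) * c⁻¹ * β⁻¹) • ((((m : GL (Fin n) F)⁻¹ : GL (Fin n) F) : Matrix (Fin n) (Fin n) F) *ᵥ x)
    with hxdef
  have hmx : ((m : GL (Fin n) F) : Matrix (Fin n) (Fin n) F) *ᵥ x' = ((μ : F) * c⁻¹ * β⁻¹) • x := by
    rw [hxdef, mulVec_smul, mul_inv_mulVec]
  have hvx' : bf H v x' = 0 := by
    rw [hxdef, bf_smul_right, bf_inv μ.ne_zero hμ, hmv, bf_smul_left, hwx]; ring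
  let a : Γ := el hiso (rt H v x) (rt_sims hs h2 hv hvx) (rt_det hs h2 hd hv hvx)
  let b : Γ := el hiso (rt H v x') (rt_sims hs h2 hv hvx') (rt_det hs h2 hd hv hvx')
  have ht : ∀ z, ((m : GL (Fin n) F) : Matrix (Fin n) (Fin n) F) *ᵥ (rt H v x' *ᵥ
      ((((m : GL (Fin n) F)⁻¹ : GL (Fin n) F) : Matrix (Fin n) (Fin n) F) *ᵥ z)) =
      z + (c⁻¹ * bf H w z) • x - (c⁻¹ * bf H x z + c⁻¹ * bf H w z) • w := by
    intro z
    rw [rt_mulVec, mulVec_sub, mulVec_add, mul_inv_mulVec, mulVec_smul _ _ x', mulVec_smul _ _ v, hmx, hmv,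
      bf_inv μ.ne_zero hμ, bf_inv μ.ne_zero hμ, hmv, hmx]
    have e : bf H x' x' = (μ : F)⁻¹ * (((μ : F) * c⁻¹ * β⁻¹) * ((μ : F) * c⁻¹ * β⁻¹) * bf H x x) := by
      have := bf_sims hμ x' x'
      rw [hmx, bf_smul_left, bf_smul_right] at this
      rw [← mul_assoc] at this
      rw [this, inv_mul_cancel_left₀ μ.ne_zero]
    simp only [e, bf_smul_left, smul_smul]
    have hμ0 : (μ : F) ≠ 0 := μ.ne_zero
    have hx2 : bf H x x = 2 * c := by rw [hcdef]; field_simp
    rw [hx2]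
    match_scalars <;> field_simp <;> ring
  refine false_of_roots π hd h2 hiso hker M hodd hnorm m hm (a := a) (b := b) (rt_sims hs h2 hv hvx)
    (rt_det hs h2 hd hv hvx) (rt_sims hs h2 hv hvx') (rt_det hs h2 hd hv hvx') (rt_pow_char hs h2 hv hvx)
    (rt_pow_char hs h2 hv hvx') ?_
    (v := v) (w := w) (p := -c⁻¹) (q := -c) (neg_ne_zero.2 (inv_ne_zero hc)) (neg_ne_zero.2 hc) ?_ ?_ ?_
  · refine Units.ext ?_
    show (rt H v x * rt H v x' * rt H v x) ^ ringChar F = 1
    rw [rt_mul hs h2 hv hvx hvx', rt_mul hs h2 hv (by rw [bf_add_right, hvx, hvx', add_zero]) hvx,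
      rt_pow hs h2 hv (by rw [bf_add_right, bf_add_right, hvx, hvx', add_zero, add_zero]), ringChar.Nat.cast_ringChar,
      zero_smul]
    simp [rt, bf_zero_left]
  · intro hmem
    obtain ⟨k, hk⟩ := Submodule.mem_span_singleton.1 hmem
    rw [← hk, bf_smul_right, hv, mul_zero] at hvw
    exact zero_ne_one hvw
  · rw [coe_conj_mulVec]
    show rt H v x *ᵥ _ = _
    rw [show ((b : GL (Fin n) F) : Matrix (Fin n) (Fin n) F) = rt H v x' from rfl,
      show ((a : GL (Fin n) F) : Matrix (Fin n) (Fin n) F) = rt H v x from rfl, ht, rt_mulVec, rt_mulVec]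
    simp only [bf_add_left, bf_add_right, bf_sub_left, bf_sub_right, bf_smul_left, bf_smul_right, hv, hww, hvx,
      hwx, hvw, bf_comm hs w v, bf_comm hs x v, bf_comm hs x w, ← hcdef,
      show bf H x x = 2 * c by rw [hcdef]; field_simp]
    match_scalars <;> field_simp <;> ring
  · rw [coe_conj_mulVec]
    show rt H v x *ᵥ _ = _
    rw [show ((b : GL (Fin n) F) : Matrix (Fin n) (Fin n) F) = rt H v x' from rfl,
      show ((a : GL (Fin n) F) : Matrix (Fin n) (Fin n) F) = rt H v x from rfl, ht, rt_mulVec, rt_mulVec]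
    simp only [bf_add_left, bf_add_right, bf_sub_left, bf_sub_right, bf_smul_left, bf_smul_right, hv, hww, hvx,
      hwx, hvw, bf_comm hs w v, bf_comm hs x v, bf_comm hs x w, ← hcdef,
      show bf H x x = 2 * c by rw [hcdef]; field_simp]
    match_scalars <;> field_simp <;> ring

include hd h2 hn hsim hiso hker hodd hnorm hs in
theorem fix_of_mem (m : Γ) (hm : π m ∈ M) {v : Fin n → F} (hv : bf H v v = 0) :
    ((m : GL (Fin n) F) : Matrix (Fin n) (Fin n) F) *ᵥ v ∈ Submodule.span F {v} := by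
  by_contra hw
  set w := ((m : GL (Fin n) F) : Matrix (Fin n) (Fin n) F) *ᵥ v with hwdef
  set u := (((m : GL (Fin n) F)⁻¹ : GL (Fin n) F) : Matrix (Fin n) (Fin n) F) *ᵥ v with hudef
  have hv0 : v ≠ 0 := fun h => hw (by rw [hwdef, h, mulVec_zero]; exact zero_mem _)
  have hmu : ((m : GL (Fin n) F) : Matrix (Fin n) (Fin n) F) *ᵥ u = v := mul_inv_mulVec _ _
  have hvw : bf H v w = 0 := perp_of_mem π hd h2 hn hsim hiso hker M hodd hnorm hs m hm hv
  have hvu : bf H v u = 0 :=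
    perp_of_mem π hd h2 hn hsim hiso hker M hodd hnorm hs m⁻¹ (by rw [map_inv]; exact M.inv_mem hm) hv
  have hu : u ∉ Submodule.span F {v} := by
    intro hmem
    obtain ⟨k, hk⟩ := Submodule.mem_span_singleton.1 hmem
    have e : k • w = v := by rw [hwdef, ← mulVec_smul, hk, hmu]
    refine hw (Submodule.mem_span_singleton.2 ⟨k⁻¹, ?_⟩)
    have hk0 : k ≠ 0 := fun h => hv0 (by rw [← e, h, zero_smul])
    rw [← e, inv_smul_smul₀ hk0]
  obtain ⟨x, hvx, hwx⟩ := exists_bf_eq hd hv0 hw 0 (-1)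
  obtain ⟨x', hvx', hux'⟩ := exists_bf_eq hd hv0 hu 0 1
  let a : Γ := el hiso (rt H v x) (rt_sims hs h2 hv hvx) (rt_det hs h2 hd hv hvx)
  let b : Γ := el hiso (rt H v x') (rt_sims hs h2 hv hvx') (rt_det hs h2 hd hv hvx')
  have hav : rt H v x *ᵥ v = v := by
    rw [rt_mulVec]; simp [hv, bf_comm hs x v, hvx]
  have haw : rt H v x *ᵥ w = w + v := by
    rw [rt_mulVec, hvw, bf_comm hs x w, hwx]; module
  have htv : ((m : GL (Fin n) F) : Matrix (Fin n) (Fin n) F) *ᵥ (rt H v x' *ᵥ u) = v - w := by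
    rw [rt_mulVec, hvu, bf_comm hs x' u, hux']
    simp [mulVec_sub, hmu, ← hwdef]
  have htw : ((m : GL (Fin n) F) : Matrix (Fin n) (Fin n) F) *ᵥ (rt H v x' *ᵥ
      ((((m : GL (Fin n) F)⁻¹ : GL (Fin n) F) : Matrix (Fin n) (Fin n) F) *ᵥ w)) = w := by
    rw [hwdef, show (((m : GL (Fin n) F)⁻¹ : GL (Fin n) F) : Matrix (Fin n) (Fin n) F) *ᵥ
        (((m : GL (Fin n) F) : Matrix (Fin n) (Fin n) F) *ᵥ v) = v by
      rw [mulVec_mulVec, ← Units.val_mul, inv_mul_cancel, Units.val_one, one_mulVec]]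
    congr 1
    rw [rt_mulVec]; simp [hv, bf_comm hs x' v, hvx']
  refine false_of_roots π hd h2 hiso hker M hodd hnorm m hm (a := a) (b := b) (rt_sims hs h2 hv hvx)
    (rt_det hs h2 hd hv hvx) (rt_sims hs h2 hv hvx') (rt_det hs h2 hd hv hvx') (rt_pow_char hs h2 hv hvx)
    (rt_pow_char hs h2 hv hvx') ?_
    (v := v) (w := w) (p := -1) (q := 1) (neg_ne_zero.2 one_ne_zero) one_ne_zero hw ?_ ?_
  · refine Units.ext ?_
    show (rt H v x * rt H v x' * rt H v x) ^ ringChar F = 1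
    rw [rt_mul hs h2 hv hvx hvx', rt_mul hs h2 hv (by rw [bf_add_right, hvx, hvx', add_zero]) hvx,
      rt_pow hs h2 hv (by rw [bf_add_right, bf_add_right, hvx, hvx', add_zero, add_zero]), ringChar.Nat.cast_ringChar,
      zero_smul]
    simp [rt, bf_zero_left]
  · rw [coe_conj_mulVec]
    show rt H v x *ᵥ (_ *ᵥ (rt H v x' *ᵥ (_ *ᵥ (rt H v x *ᵥ v)))) = _
    rw [hav, ← hudef, htv, mulVec_sub, hav, haw]
    module
  · rw [coe_conj_mulVec]
    show rt H v x *ᵥ (_ *ᵥ (rt H v x' *ᵥ (_ *ᵥ (rt H v x *ᵥ w)))) = _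
    rw [haw, mulVec_add, mulVec_add, mulVec_add, htw, ← hudef, htv]
    simp [hav]

end Symm

section Alt

variable (halt : ∀ z, bf H z z = 0)

include hd h2 hsim hiso hker hodd hnorm halt in
theorem perp_of_mem_alt (m : Γ) (hm : π m ∈ M) (v : Fin n → F) :
    bf H v (((m : GL (Fin n) F) : Matrix (Fin n) (Fin n) F) *ᵥ v) = 0 := by
  by_contra hβ
  obtain ⟨μ, hμ⟩ := hsim _ m.2
  set β := bf H v (((m : GL (Fin n) F) : Matrix (Fin n) (Fin n) F) *ᵥ v) with hβdef
  set w := β⁻¹ • (((m : GL (Fin n) F) : Matrix (Fin n) (Fin n) F) *ᵥ v) with hwdef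
  have hvw : bf H v w = 1 := by rw [hwdef, bf_smul_right, ← hβdef, inv_mul_cancel₀ hβ]
  have hmv : ((m : GL (Fin n) F) : Matrix (Fin n) (Fin n) F) *ᵥ v = β • w := by rw [hwdef, smul_inv_smul₀ hβ]
  let a : Γ := el hiso (tv H v 1) (tv_sims halt v 1) (tv_det halt hd h2 v 1)
  let b : Γ := el hiso (tv H v ((μ : F) / (β * β))) (tv_sims halt v _) (tv_det halt hd h2 v _)
  have ht : ∀ z, ((m : GL (Fin n) F) : Matrix (Fin n) (Fin n) F) *ᵥ (tv H v ((μ : F) / (β * β)) *ᵥ
      ((((m : GL (Fin n) F)⁻¹ : GL (Fin n) F) : Matrix (Fin n) (Fin n) F) *ᵥ z)) = z + bf H w z • w := by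
    intro z
    rw [tv_mulVec, mulVec_add, mulVec_smul, mul_inv_mulVec, hmv, bf_inv μ.ne_zero hμ, hmv, bf_smul_left, smul_smul]
    congr 2
    have hμ0 : (μ : F) ≠ 0 := μ.ne_zero
    field_simp
  refine false_of_roots π hd h2 hiso hker M hodd hnorm m hm (a := a) (b := b) (tv_sims halt v 1)
    (tv_det halt hd h2 v 1) (tv_sims halt v _) (tv_det halt hd h2 v _) (tv_pow_char halt v 1) (tv_pow_char halt v _) ?_
    (v := v) (w := w) (p := -1) (q := 1) (neg_ne_zero.2 one_ne_zero) one_ne_zero ?_ ?_ ?_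
  · refine Units.ext ?_
    show (tv H v 1 * tv H v ((μ : F) / (β * β)) * tv H v 1) ^ ringChar F = 1
    rw [tv_mul halt, tv_mul halt, tv_pow halt, ringChar.Nat.cast_ringChar, zero_mul]
    simp [tv]
  · intro hmem
    obtain ⟨k, hk⟩ := Submodule.mem_span_singleton.1 hmem
    rw [← hk, bf_smul_right, halt, mul_zero] at hvw
    exact zero_ne_one hvw
  · rw [coe_conj_mulVec]
    show tv H v 1 *ᵥ _ = _
    rw [show ((b : GL (Fin n) F) : Matrix (Fin n) (Fin n) F) = tv H v ((μ : F) / (β * β)) from rfl,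
      show ((a : GL (Fin n) F) : Matrix (Fin n) (Fin n) F) = tv H v 1 from rfl, ht, tv_mulVec, tv_mulVec]
    simp only [bf_add_right, bf_smul_right, halt, hvw, alt_swap halt v w]
    module
  · rw [coe_conj_mulVec]
    show tv H v 1 *ᵥ _ = _
    rw [show ((b : GL (Fin n) F) : Matrix (Fin n) (Fin n) F) = tv H v ((μ : F) / (β * β)) from rfl,
      show ((a : GL (Fin n) F) : Matrix (Fin n) (Fin n) F) = tv H v 1 from rfl, ht, tv_mulVec, tv_mulVec]
    simp only [bf_add_right, bf_smul_right, halt, hvw, alt_swap halt v w]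
    module

end Alt

end Pi

/-! ### Semilinear maps preserving the singular lines -/

theorem eq_scalar_of_symm (hn : 3 ≤ n) (hd : H.det ≠ 0) (hs : Hᵀ = H) (h2 : (2 : F) ≠ 0) (g : GL (Fin n) F)
    (τ : F ≃+* F) (h : ∀ v, bf H v v = 0 → ∃ k : F, (g : Matrix (Fin n) (Fin n) F) *ᵥ (τ ∘ v) = k • v) :
    τ = RingEquiv.refl F ∧ ∃ c : Fˣ, g = GeneralLinearGroup.scalar (Fin n) c := by
  obtain ⟨v, f, hv, hf, hvf⟩ := exists_singular hn hd hs h2
  let L : (Fin n → F) → (Fin n → F) := fun z => (g : Matrix (Fin n) (Fin n) F) *ᵥ (τ ∘ z)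
  have hadd : ∀ y z, L (y + z) = L y + L z := fun y z => by
    simp only [L, ← mulVec_add]; congr 1; funext i; simp
  have hsmul : ∀ (t : F) z, L (t • z) = τ t • L z := fun t z => by
    simp only [L, ← mulVec_smul]; congr 1; funext i; simp
  obtain ⟨l, hl⟩ : ∃ k, L v = k • v := h v hv
  obtain ⟨ν, hν⟩ : ∃ k, L f = k • f := h f hf
  have hv0 : v ≠ 0 := fun h0 => by rw [h0, bf_zero_left] at hvf; exact zero_ne_one hvf
  have hl0 : l ≠ 0 := fun h0 => by
    rw [h0, zero_smul] at hl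
    exact hv0 (funext fun i => τ.injective ((congrFun (mulVec_injective' g hl) i).trans (map_zero τ).symm))
  have key : ∀ p, bf H v p = 0 → bf H f p = 0 → bf H p p ≠ 0 →
      L p = l • p ∧ (∀ t, τ t = t) ∧ ν = l := by
    intro p hvp hfp hpp
    set a := -(bf H p p / 2) with hadef
    have ha : a ≠ 0 := neg_ne_zero.2 (div_ne_zero hpp h2)
    have hx : ∀ t : F, ∃ k : F, l • v + τ (t * t * a) • ν • f + τ t • L p = k • (v + (t * t * a) • f + t • p) := by
      intro t
      obtain ⟨k, hk⟩ : ∃ k, L (v + (t * t * a) • f + t • p) = k • (v + (t * t * a) • f + t • p) := by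
        refine h _ ?_
        simp only [bf_add_left, bf_add_right, bf_smul_left, bf_smul_right, hv, hf, hvf, hvp, hfp,
          bf_comm hs f v, bf_comm hs p v, bf_comm hs p f]
        rw [hadef]; field_simp; ring
      exact ⟨k, by rw [← hk, hadd, hadd, hsmul, hsmul, hl, hν]⟩
    obtain ⟨k, hk⟩ := hx 1
    obtain ⟨k', hk'⟩ := hx (-1)
    simp only [one_mul, map_one, one_smul, map_neg, neg_smul, neg_mul_neg] at hk hk'
    have hkk' : k = k' := by
      have e := congrArg (fun z => bf H p z) (congrArg₂ (· + ·) hk hk')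
      simp only [bf_add_right, bf_smul_right, ← neg_one_smul F (L p), ← neg_one_smul F p, hvp, hfp,
        bf_comm hs p v, bf_comm hs p f] at e
      exact mul_right_cancel₀ hpp (by linear_combination -e)
    subst hkk'
    have e1 := congrArg (fun z => bf H f z) (congrArg₂ (· + ·) hk hk')
    simp only [bf_add_right, bf_smul_right, ← neg_one_smul F (L p), ← neg_one_smul F p, hvf, hfp, hf,
      bf_comm hs f v] at e1
    have hkl : k = l := mul_left_cancel₀ h2 (by linear_combination -e1)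
    subst hkl
    have hLp : L p = k • p := by
      have e2 : (2 : F) • L p = (2 : F) • k • p := by linear_combination (norm := module) hk - hk'
      exact smul_right_injective (Fin n → F) h2 e2
    have hτ : ∀ t, τ t = t := by
      intro t
      obtain ⟨j, hj⟩ := hx t
      rw [hLp] at hj
      have e3 := congrArg (fun z => bf H f z) hj
      have e4 := congrArg (fun z => bf H p z) hj
      simp only [bf_add_right, bf_smul_right, hvf, hfp, hf, hvp, bf_comm hs f v, bf_comm hs p v, bf_comm hs p f]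
        at e3 e4
      have hjk : j = k := by linear_combination -e3
      refine mul_right_cancel₀ (mul_ne_zero hl0 hpp) ?_
      rw [hjk] at e4
      linear_combination e4
    refine ⟨hLp, hτ, ?_⟩
    have e5 := congrArg (fun z => bf H v z) hk
    simp only [bf_add_right, bf_smul_right, hLp, hv, hvf, hvp, hτ] at e5
    exact mul_left_cancel₀ ha (by linear_combination e5)
  obtain ⟨p₀, hp0, hp0', hp0a⟩ := exists_aniso_perp hn hd hs h2 hv hf hvf
  obtain ⟨-, hτ, hνl⟩ := key p₀ hp0 hp0' hp0a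
  refine ⟨RingEquiv.ext hτ, Units.mk0 l hl0, scalar_of_mulVec hl0 fun z => ?_⟩
  have hLz : L z = (g : Matrix (Fin n) (Fin n) F) *ᵥ z := by
    simp only [L]; congr 1; funext i; exact hτ _
  rw [← hLz]
  set p := z - bf H f z • v - bf H v z • f with hpdef
  have hp1 : bf H v p = 0 := by
    rw [hpdef]; simp [bf_sub_right, bf_smul_right, hv, hvf]
  have hp2 : bf H f p = 0 := by
    rw [hpdef]; simp [bf_sub_right, bf_smul_right, hf, bf_comm hs f v, hvf]
  have hLp : L p = l • p := by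
    by_cases hpp : bf H p p = 0
    · by_cases hp : bf H (p + p₀) (p + p₀) = 0
      · have hq : bf H (p - p₀) (p - p₀) ≠ 0 := fun h0 => by
          simp only [bf_add_left, bf_add_right, hpp, bf_comm hs p₀ p] at hp
          simp only [bf_sub_left, bf_sub_right, hpp, bf_comm hs p₀ p] at h0
          exact hp0a (mul_left_cancel₀ h2 (by linear_combination hp + h0))
        have e := (key _ (by rw [bf_sub_right, hp1, hp0, sub_zero]) (by rw [bf_sub_right, hp2, hp0', sub_zero]) hq).1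
        have e' := (key p₀ hp0 hp0' hp0a).1
        rw [show p = (p - p₀) + p₀ by abel, hadd, e, e', smul_add]
      · have e := (key _ (by rw [bf_add_right, hp1, hp0, add_zero]) (by rw [bf_add_right, hp2, hp0', add_zero]) hp).1
        have e' := (key p₀ hp0 hp0' hp0a).1
        rw [hadd, e', smul_add] at e
        exact add_right_cancel e
    · exact (key p hp1 hp2 hpp).1
  rw [show z = p + bf H f z • v + bf H v z • f by rw [hpdef]; abel, hadd, hadd, hsmul, hsmul, hτ, hτ, hLp, hl, hν, hνl]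
  module

theorem eq_scalar_of_alt (hn : 0 < n) (hd : H.det ≠ 0) (halt : ∀ z, bf H z z = 0) (g : GL (Fin n) F)
    (τ : F ≃+* F) (h : ∀ v, ∃ k : F, (g : Matrix (Fin n) (Fin n) F) *ᵥ (τ ∘ v) = k • v) :
    τ = RingEquiv.refl F ∧ ∃ c : Fˣ, g = GeneralLinearGroup.scalar (Fin n) c := by
  choose k hk using h
  let L : (Fin n → F) → (Fin n → F) := fun z => (g : Matrix (Fin n) (Fin n) F) *ᵥ (τ ∘ z)
  have hadd : ∀ y z, L (y + z) = L y + L z := fun y z => by
    simp only [L, ← mulVec_add]; congr 1; funext i; simp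
  have hsmul : ∀ (t : F) z, L (t • z) = τ t • L z := fun t z => by
    simp only [L, ← mulVec_smul]; congr 1; funext i; simp
  have hk' : ∀ z, L z = k z • z := hk
  set v : Fin n → F := Pi.single ⟨0, hn⟩ 1 with hvdef
  have hv0 : v ≠ 0 := by simp [hvdef]
  obtain ⟨f, hvf⟩ := exists_bf_eq_one hd hv0
  have hpair : ∀ y z, bf H y z ≠ 0 → ∀ t, τ t * k z = k y * t := by
    intro y z hyz t
    have e := hk' (y + t • z)
    rw [hadd, hsmul, hk' y, hk' z] at e
    have e1 := congrArg (fun x => bf H y x) e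
    have e2 := congrArg (fun x => bf H z x) e
    simp only [bf_add_right, bf_smul_right, halt, alt_swap halt y z] at e1 e2
    have hky : k y = k (y + t • z) := mul_right_cancel₀ hyz (by linear_combination -e2)
    rw [← hky] at e1
    exact mul_right_cancel₀ hyz (by linear_combination e1)
  have hvf0 : bf H v f ≠ 0 := by rw [hvf]; exact one_ne_zero
  have hfv : k f = k v := by simpa using hpair v f hvf0 1
  have hl0 : k v ≠ 0 := fun h0 => by
    have e := hk' v
    rw [h0, zero_smul] at e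
    exact hv0 (funext fun i => τ.injective ((congrFun (mulVec_injective' g e) i).trans (map_zero τ).symm))
  have hτ : ∀ t, τ t = t := fun t => by
    have e := hpair v f hvf0 t
    rw [hfv] at e
    exact mul_right_cancel₀ hl0 (by linear_combination e)
  refine ⟨RingEquiv.ext hτ, Units.mk0 _ hl0, scalar_of_mulVec hl0 fun z => ?_⟩
  rw [show (g : Matrix (Fin n) (Fin n) F) *ᵥ z = L z by simp only [L]; congr 1; funext i; exact (hτ _).symm]
  by_cases hz : bf H v z = 0
  · have e1 : bf H v (f + z) ≠ 0 := by rw [bf_add_right, hz, add_zero]; exact hvf0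
    have e2 : k (f + z) = k v := by simpa using hpair v (f + z) e1 1
    have e3 := hk' (f + z)
    rw [hadd, hk' f, e2, hfv, smul_add] at e3
    exact add_left_cancel e3
  · rw [hk', show k z = k v by simpa using hpair v z hz 1]

section Main

variable {X : Type*} [Group X] {Γ : Subgroup (GL (Fin n) F)} (π : Γ →* X)

/-- A subgroup of odd order normalised by the root elements is trivial. -/
theorem odd_eq_bot (hn : 3 ≤ n) (h2 : (2 : F) ≠ 0) (hG : GraphGeneric.Good H)
    (hsim : ∀ g ∈ Γ, ∃ c : Fˣ, Sims H (g : Matrix (Fin n) (Fin n) F) (c : F))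
    (hiso : ∀ g : GL (Fin n) F, Sims H (g : Matrix (Fin n) (Fin n) F) 1 → (g : Matrix (Fin n) (Fin n) F).det = 1 → g ∈ Γ)
    (hker : ∀ g : Γ, π g = 1 ↔ ∃ c : Fˣ, (g : GL (Fin n) F) = GeneralLinearGroup.scalar (Fin n) c)
    (M : Subgroup X) (hM : M ≤ π.range) (hodd : Odd (Nat.card M))
    (hnorm : ∀ s : Γ, Sims H ((s : GL (Fin n) F) : Matrix (Fin n) (Fin n) F) 1 →
      ((s : GL (Fin n) F) : Matrix (Fin n) (Fin n) F).det = 1 →
      ((s : GL (Fin n) F) : Matrix (Fin n) (Fin n) F) ^ ringChar F = 1 → ∀ x ∈ M, π s * x * (π s)⁻¹ ∈ M) :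
    M = ⊥ := by
  rw [Subgroup.eq_bot_iff_forall]
  intro x hx
  obtain ⟨m, rfl⟩ := hM hx
  rcases hG.2 with hs | hs
  · refine (hker m).2 (eq_scalar_of_symm hn hG.1 hs h2 _ (RingEquiv.refl F) fun v hv => ?_).2
    obtain ⟨k, hk⟩ := Submodule.mem_span_singleton.1 (fix_of_mem π hG.1 h2 hn hsim hiso hker M hodd hnorm hs m hx hv)
    exact ⟨k, hk.symm⟩
  · have halt := FormClass.alt_of_skew h2 hs
    have hperp := perp_of_mem_alt π hG.1 h2 hsim hiso hker M hodd hnorm halt m hx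
    obtain ⟨μ, hμ⟩ := hsim _ m.2
    have hA : ∀ u z, bf H u (((m : GL (Fin n) F) : Matrix (Fin n) (Fin n) F) *ᵥ z) =
        bf H (((m : GL (Fin n) F) : Matrix (Fin n) (Fin n) F) *ᵥ u) z := fun u z => by
      have e := hperp (u + z)
      rw [mulVec_add, bf_add_left, bf_add_right, bf_add_right, hperp, hperp,
        alt_swap halt (((m : GL (Fin n) F) : Matrix (Fin n) (Fin n) F) *ᵥ u) z] at e
      linear_combination e
    have hsq : π m ^ 2 = 1 := by
      rw [← map_pow, hker]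
      refine ⟨Units.mk0 (μ : F) μ.ne_zero, scalar_of_mulVec μ.ne_zero fun z => ?_⟩
      rw [Subgroup.coe_pow, Units.val_pow_eq_pow_val, pow_two, ← mulVec_mulVec, ← sub_eq_zero]
      refine bf_eq_zero_left hG.1 fun u => ?_
      rw [bf_sub_left, alt_swap halt u, hA, bf_sims hμ, bf_smul_left, alt_swap halt u z]
      ring
    obtain ⟨k, hk⟩ := hodd
    have e := congrArg Subtype.val (pow_card_eq_one' (x := (⟨π m, hx⟩ : M)))
    simpa [hk, pow_succ, pow_mul, hsq] using e

/-- A semilinear map commuting with the root elements up to scalars is a scalar. -/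
theorem rigid (hn : 3 ≤ n) (h2 : (2 : F) ≠ 0) (hG : GraphGeneric.Good H) (g : GL (Fin n) F) (τ : F ≃+* F)
    (hcomm : ∀ s : Matrix (Fin n) (Fin n) F, Sims H s 1 → s.det = 1 →
      ∃ l : F, (g : Matrix (Fin n) (Fin n) F) * s.map τ = l • (s * (g : Matrix (Fin n) (Fin n) F))) :
    τ = RingEquiv.refl F ∧ ∃ c : Fˣ, g = GeneralLinearGroup.scalar (Fin n) c := by
  let L : (Fin n → F) → (Fin n → F) := fun z => (g : Matrix (Fin n) (Fin n) F) *ᵥ (τ ∘ z)
  have hsmul : ∀ (t : F) z, L (t • z) = τ t • L z := fun t z => by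
    simp only [L, ← mulVec_smul]; congr 1; funext i; simp
  have key : ∀ s : Matrix (Fin n) (Fin n) F, Sims H s 1 → s.det = 1 →
      (∀ z, (s - 1) *ᵥ ((s - 1) *ᵥ ((s - 1) *ᵥ z)) = 0) → ∀ v₀, v₀ ≠ 0 → s *ᵥ v₀ = v₀ →
      ∀ z, L (s *ᵥ z) = s *ᵥ L z := by
    intro s h1 hdet hnil v₀ hv0 hfix z
    obtain ⟨l, hl⟩ := hcomm s h1 hdet
    have hL : ∀ z, L (s *ᵥ z) = l • (s *ᵥ L z) := fun z => by
      have e : τ ∘ (s *ᵥ z) = s.map τ *ᵥ (τ ∘ z) := funext fun i => RingHom.map_mulVec (τ : F →+* F) s z i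
      simp only [L]
      rw [e, mulVec_mulVec, hl, smul_mulVec, ← mulVec_mulVec]
    have hu : L v₀ ≠ 0 := fun h0 =>
      hv0 (funext fun i => τ.injective ((congrFun (mulVec_injective' g h0) i).trans (map_zero τ).symm))
    have e := hL v₀
    rw [hfix] at e
    have hl0 : l ≠ 0 := fun h0 => hu (by rw [e, h0, zero_smul])
    have hD : (s - 1) *ᵥ L v₀ = (l⁻¹ - 1) • L v₀ := by
      rw [sub_mulVec, one_mulVec, sub_smul, one_smul]
      congr 1
      conv_rhs => rw [e, inv_smul_smul₀ hl0]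
    have h3 := hnil (L v₀)
    rw [hD, mulVec_smul, hD, mulVec_smul, mulVec_smul, hD, smul_smul, smul_smul] at h3
    have hl1 : (l⁻¹ - 1) = 0 := by
      rcases smul_eq_zero.1 h3 with h | h
      · rcases mul_eq_zero.1 h with h | h
        · rcases mul_eq_zero.1 h with h | h <;> exact h
        · exact h
      · exact absurd h hu
    rw [hL, inv_eq_one.1 (sub_eq_zero.1 hl1), one_smul]
  have hd := hG.1
  have hadd : ∀ y z, L (y + z) = L y + L z := fun y z => by
    simp only [L, ← mulVec_add]; congr 1; funext i; simp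
  have hsub : ∀ y z, L (y - z) = L y - L z := fun y z => eq_sub_of_add_eq (by rw [← hadd, sub_add_cancel])
  rcases hG.2 with hs | hs
  · refine eq_scalar_of_symm hn hd hs h2 g τ fun v hv => ?_
    rcases eq_or_ne v 0 with rfl | hv0
    · exact ⟨0, by rw [zero_smul]; exact (congrArg _ (funext fun _ => map_zero τ)).trans (mulVec_zero _)⟩
    obtain ⟨y, hy⟩ := exists_bf_eq_one hd hv0
    set f := y - (bf H y y / 2) • v with hfdef
    have hf : bf H f f = 0 := by
      simp only [hfdef, bf_sub_left, bf_sub_right, bf_smul_left, bf_smul_right, hv, bf_comm hs y v, hy]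
      field_simp; ring
    have hvf : bf H v f = 1 := by rw [hfdef, bf_sub_right, bf_smul_right, hv, hy, mul_zero, sub_zero]
    obtain ⟨x, hvx, hfx, hxx⟩ := exists_aniso_perp hn hd hs h2 hv hf hvf
    have hD : ∀ z, rt H v x *ᵥ z - z = bf H v z • x - (bf H x z + bf H x x / 2 * bf H v z) • v := fun z => by
      rw [rt_mulVec]; abel
    have hDD : ∀ z, rt H v x *ᵥ (rt H v x *ᵥ z - z) - (rt H v x *ᵥ z - z) = -(bf H v z * bf H x x) • v := fun z => by
      rw [hD (rt H v x *ᵥ z - z), hD z]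
      simp only [bf_sub_right, bf_smul_right, hvx, hv, bf_comm hs x v]
      match_scalars <;> ring
    have hfix : rt H v x *ᵥ v = v := by rw [rt_mulVec]; simp [hv, bf_comm hs x v, hvx]
    have hcm := key _ (rt_sims hs h2 hv hvx) (rt_det hs h2 hd hv hvx) (fun z => by
      simp only [sub_mulVec, one_mulVec]
      rw [hDD, hD z]
      simp [bf_sub_right, bf_smul_right, hvx, hv]) v hv0 hfix
    have e : L (-(bf H v f * bf H x x) • v) = -(bf H v (L f) * bf H x x) • v := by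
      rw [← hDD f, ← hDD (L f), ← hcm f, hsub, hsub, hcm, hcm, hsub, hcm]
    rw [hsmul, hvf, one_mul] at e
    refine ⟨(τ (-bf H x x))⁻¹ * -(bf H v (L f) * bf H x x), ?_⟩
    show L v = _
    rw [mul_smul, ← e, inv_smul_smul₀ ((map_ne_zero τ).2 (neg_ne_zero.2 hxx))]
  · have halt := FormClass.alt_of_skew h2 hs
    refine eq_scalar_of_alt (by omega) hd halt g τ fun v => ?_
    rcases eq_or_ne v 0 with rfl | hv0
    · exact ⟨0, by rw [zero_smul]; exact (congrArg _ (funext fun _ => map_zero τ)).trans (mulVec_zero _)⟩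
    obtain ⟨f, hf⟩ := exists_bf_eq_one hd hv0
    have hD : ∀ z, tv H v 1 *ᵥ z - z = bf H v z • v := fun z => by rw [tv_mulVec, one_mul]; abel
    have hfix : tv H v 1 *ᵥ v = v := by rw [tv_mulVec, halt, mul_zero, zero_smul, add_zero]
    have hcm := key _ (tv_sims halt v 1) (tv_det halt hd h2 v 1) (fun z => by
      simp only [sub_mulVec, one_mulVec]
      rw [hD z, mulVec_smul, hfix, sub_self, mulVec_zero, sub_zero]) v hv0 hfix
    have e : L (bf H v f • v) = bf H v (L f) • v := by rw [← hD f, ← hD (L f), hsub, hcm]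
    rw [hf, one_smul] at e
    exact ⟨_, e⟩

end Main

end Cfsg.Agent.H58.FormCore
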