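import Mathlib
import Cfsg.Prelude.Def_LieTypeDatum
import Cfsg.Agent.H56.AutPSL

/-! The named automorphism classes of `PSL_n(F)` in terms of semilinear automorphisms. -/

set_option autoImplicit false

namespace Cfsg.Agent.H58.PSLAut

open Matrix Cfsg.Agent.H56

variable {F : Type*} [Field F] {n : ℕ}

theorem isInduced_semiAut (g : GL (Fin n) F) (σ : F ≃+* F) :
    Cfsg.IsInducedBySemilinearPSL g σ (semiAut g σ) := by
  intro s s' h
  show toP (semiSL g σ s) = toP s'
  exact congrArg toP (Subtype.ext h.symm)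

theorem eq_semiAut_of_isInduced {g : GL (Fin n) F} {σ : F ≃+* F} {β : MulAut (PSLn n F)}
    (h : Cfsg.IsInducedBySemilinearPSL g σ β) : β = semiAut g σ := by
  refine MulEquiv.ext fun x => ?_
  obtain ⟨s, rfl⟩ := toP_surjective x
  exact h s (semiSL g σ s) rfl

theorem isStdField_iff {σ : F ≃+* F} {β : MulAut (PSLn n F)} :
    Cfsg.IsStdFieldAutPSL σ β ↔ β = semiAut 1 σ := by
  constructor
  · intro h
    refine MulEquiv.ext fun x => ?_
    obtain ⟨s, rfl⟩ := toP_surjective x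
    refine h s (semiSL 1 σ s) ?_
    show smat (semiSL 1 σ s) = _
    simp [smat_semiSL, smat]
  · rintro rfl s s' h
    show toP (semiSL 1 σ s) = toP s'
    refine congrArg toP (Subtype.ext ?_)
    show smat (semiSL 1 σ s) = _
    simp [smat_semiSL, h]

theorem isInvT_iff {β : MulAut (PSLn n F)} :
    Cfsg.IsInverseTransposeAutPSL β ↔ β = invTAut := by
  constructor
  · intro h
    refine MulEquiv.ext fun x => ?_
    obtain ⟨s, rfl⟩ := toP_surjective x
    exact h s (invTSL s) rfl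
  · rintro rfl s s' h
    show toP (invTSL s) = toP s'
    exact congrArg toP (Subtype.ext h.symm)

theorem isInnerDiag_iff {β : MulAut (PSLn n F)} :
    Cfsg.IsInnerDiagonalAutPSL β ↔ ∃ g : GL (Fin n) F, β = semiAut g (RingEquiv.refl F) := by
  constructor
  · rintro ⟨g, h⟩
    refine ⟨g, eq_semiAut_of_isInduced fun s s' e => h s s' ?_⟩
    rw [e]; rfl
  · rintro ⟨g, rfl⟩
    refine ⟨g, fun s s' e => isInduced_semiAut g _ s s' ?_⟩
    rw [e]; rfl

/-- The homomorphism `GL_n(F) → Aut PSL_n(F)`. -/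
noncomputable def glAut : GL (Fin n) F →* MulAut (PSLn n F) where
  toFun g := semiAut g (RingEquiv.refl F)
  map_one' := semiAut_one
  map_mul' g h := by
    rw [semiAut_mul]
    congr 1

theorem glAut_apply (g : GL (Fin n) F) : glAut g = semiAut g (RingEquiv.refl F) := rfl

theorem inndiag_eq : Cfsg.inndiagPSL n F = (glAut (n := n) (F := F)).range := by
  refine le_antisymm ?_ ?_
  · refine (Subgroup.closure_le _).mpr fun β hβ => ?_
    obtain ⟨g, rfl⟩ := isInnerDiag_iff.mp hβ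
    exact ⟨g, rfl⟩
  · rintro _ ⟨g, rfl⟩
    exact Subgroup.subset_closure (isInnerDiag_iff.mpr ⟨g, rfl⟩)

theorem mem_inndiag {β : MulAut (PSLn n F)} :
    β ∈ Cfsg.inndiagPSL n F ↔ ∃ g : GL (Fin n) F, β = semiAut g (RingEquiv.refl F) := by
  rw [inndiag_eq]
  exact ⟨fun ⟨g, h⟩ => ⟨g, h.symm⟩, fun ⟨g, h⟩ => ⟨g, h.symm⟩⟩

theorem semiAut_mem_gamma (g : GL (Fin n) F) (σ : F ≃+* F) : semiAut g σ ∈ Cfsg.gammaPSL n F :=
  Subgroup.subset_closure ⟨g, σ, isInduced_semiAut g σ⟩

theorem invTAut_mem :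
    (invTAut : MulAut (PSLn n F)) ∈ Cfsg.autSubgroupOf
      (fun β : PSLn n F ≃* PSLn n F => Cfsg.IsInverseTransposeAutPSL β) :=
  Subgroup.subset_closure (isInvT_iff.mpr rfl)

end Cfsg.Agent.H58.PSLAut
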