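import Mathlib
import Cfsg.Agent.H58.PSLAut
import Cfsg.Agent.H58.Twist
import Cfsg.Agent.H58.Descent
import Cfsg.Agent.H58.HermCongr

/-!
# The cosets of `Inndiag(PSL_n)` of standard field and graph-field automorphisms
-/

set_option autoImplicit false

namespace Cfsg.Agent.H58.PSLTwist

open Matrix Cfsg.Agent.H56 Cfsg.Agent.H58.PSLAut Cfsg.Agent.H58.Twist Cfsg.Agent.H58.Descent

variable {F : Type*} [Field F] {n : ℕ}

/-- Contragredient, as a homomorphism. -/
noncomputable def contraHom : GL (Fin n) F →* GL (Fin n) F where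
  toFun := contra
  map_one' := Units.ext (by simp [contra])
  map_mul' g h := Units.ext (by simp [contra, Matrix.mul_inv_rev])

theorem contraHom_coe (g : GL (Fin n) F) :
    (contraHom g : Matrix (Fin n) (Fin n) F) = ((g⁻¹ : GL (Fin n) F) : Matrix (Fin n) (Fin n) F)ᵀ := rfl

theorem invTAut_mul_glAut (A : GL (Fin n) F) : invTAut * glAut A = glAut (contraHom A) * invTAut :=
  invTAut_mul_semiAut A _

/-- The twist of a standard graph-field automorphism. -/
noncomputable def gfTwist (σ : F ≃+* F) : GL (Fin n) F →* GL (Fin n) F := (glMap σ).comp contraHom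

theorem gfTwist_coe (σ : F ≃+* F) (g : GL (Fin n) F) :
    (gfTwist σ g : Matrix (Fin n) (Fin n) F) = (((g⁻¹ : GL (Fin n) F) : Matrix (Fin n) (Fin n) F).map σ)ᵀ := rfl

theorem field_conj (σ : F ≃+* F) (A : GL (Fin n) F) :
    semiAut 1 σ * glAut A * (semiAut 1 σ)⁻¹ = glAut (glMap σ A) := by
  rw [mul_inv_eq_iff_eq_mul, glAut_apply, glAut_apply, semiAut_mul, semiAut_mul, one_mul, map_one, mul_one]
  rfl

theorem semiAut_split (A : GL (Fin n) F) (σ : F ≃+* F) : semiAut A σ = glAut A * semiAut 1 σ := by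
  rw [glAut_apply, semiAut_mul, map_one, mul_one]
  rfl

theorem gf_conj (σ : F ≃+* F) (A : GL (Fin n) F) :
    semiAut 1 σ * invTAut * glAut A * (semiAut 1 σ * invTAut)⁻¹ = glAut (gfTwist σ A) := by
  rw [show semiAut 1 σ * invTAut * glAut A * (semiAut 1 σ * invTAut)⁻¹ =
    semiAut 1 σ * (invTAut * glAut A) * invTAut⁻¹ * (semiAut 1 σ)⁻¹ by group, invTAut_mul_glAut,
    show semiAut 1 σ * (glAut (contraHom A) * invTAut) * invTAut⁻¹ * (semiAut 1 σ)⁻¹ =
    semiAut 1 σ * glAut (contraHom A) * (semiAut 1 σ)⁻¹ by group, field_conj]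
  rfl

theorem invTAut_inv : (invTAut : MulAut (PSLn n F))⁻¹ = invTAut :=
  inv_eq_of_mul_eq_one_left invTAut_mul_self

theorem invTAut_mul_field (σ : F ≃+* F) :
    (invTAut : MulAut (PSLn n F)) * semiAut 1 σ = semiAut 1 σ * invTAut := by
  rw [invTAut_mul_semiAut, show contra (1 : GL (Fin n) F) = 1 from map_one contraHom]

theorem field_pow (σ : F ≃+* F) (k : ℕ) : (semiAut (1 : GL (Fin n) F) σ) ^ k = semiAut 1 (σ ^ k) := by
  induction k with
  | zero => exact semiAut_one.symm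
  | succ k ih =>
    rw [pow_succ', ih, semiAut_mul, map_one, mul_one, pow_succ']
    rfl

theorem conjAut_eq_glAut (s : SLn n F) : MulAut.conj (toP s) = glAut (Matrix.SpecialLinearGroup.toGL s) :=
  (semiAut_eq_conj s).symm

theorem Inn_le_inndiag : Cfsg.Inn (PSLn n F) ≤ Cfsg.inndiagPSL n F := by
  rintro _ ⟨y, rfl⟩
  obtain ⟨s, rfl⟩ := toP_surjective y
  rw [inndiag_eq]
  exact ⟨_, (conjAut_eq_glAut s).symm⟩

theorem Inn_eq_map :
    Cfsg.Inn (PSLn n F) = (Matrix.SpecialLinearGroup.toGL (n := Fin n) (R := F)).range.map glAut := by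
  ext φ
  constructor
  · rintro ⟨y, rfl⟩
    obtain ⟨s, rfl⟩ := toP_surjective y
    exact ⟨_, ⟨s, rfl⟩, (conjAut_eq_glAut s).symm⟩
  · rintro ⟨_, ⟨s, rfl⟩, rfl⟩
    exact ⟨toP s, conjAut_eq_glAut s⟩

instance Inn_normal {G : Type*} [Group G] : (Cfsg.Inn G).Normal := by
  constructor
  rintro _ ⟨y, rfl⟩ α
  refine ⟨α y, MulEquiv.ext fun z => ?_⟩
  simp [MulAut.conj_apply, MulAut.inv_def]

theorem field_ne_one_iff {σ : F ≃+* F} (hn : 2 ≤ n) :
    semiAut (1 : GL (Fin n) F) σ = 1 ↔ σ = 1 := by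
  constructor
  · intro h
    exact (eq_of_semiAut_eq_one hn h).1
  · rintro rfl
    exact semiAut_one

theorem orderOf_field (hn : 2 ≤ n) (σ : F ≃+* F) : orderOf (semiAut (1 : GL (Fin n) F) σ) = orderOf σ := by
  rw [orderOf_eq_orderOf_iff]
  intro k
  rw [field_pow, field_ne_one_iff hn]

theorem glAut_eq_one_iff (hn : 2 ≤ n) {A : GL (Fin n) F} :
    glAut A = 1 ↔ ∃ c : Fˣ, A = GeneralLinearGroup.scalar (Fin n) c := by
  constructor
  · intro h; exact (eq_of_semiAut_eq_one hn h).2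
  · rintro ⟨c, rfl⟩; exact semiAut_scalar c

theorem glAut_eq_iff (hn : 2 ≤ n) {A B : GL (Fin n) F} :
    glAut A = glAut B ↔ ∃ c : Fˣ, A = GeneralLinearGroup.scalar (Fin n) c * B := by
  rw [← mul_inv_eq_one, ← map_inv, ← map_mul, glAut_eq_one_iff hn]
  simp only [mul_inv_eq_iff_eq_mul]

theorem glAut_scalar_mul (c : Fˣ) (A : GL (Fin n) F) :
    glAut (GeneralLinearGroup.scalar (Fin n) c * A) = glAut A := by
  rw [map_mul, show glAut (GeneralLinearGroup.scalar (Fin n) c) = 1 from semiAut_scalar c, one_mul]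

theorem scalar_inj (hn : 0 < n) {c d : Fˣ}
    (h : GeneralLinearGroup.scalar (Fin n) c = GeneralLinearGroup.scalar (Fin n) d) : c = d := by
  refine Units.ext ?_
  have := congrArg (fun M : GL (Fin n) F => (M : Matrix (Fin n) (Fin n) F) ⟨0, hn⟩ ⟨0, hn⟩) h
  simpa [Matrix.scalar_apply] using this

variable [Fintype F]

theorem inndiag_normal (hn : 2 ≤ n) : (Cfsg.inndiagPSL n F).Normal := by
  constructor
  intro δ hδ α
  rw [inndiag_eq] at hδ ⊢
  obtain ⟨A, rfl⟩ := hδ
  have hsemi : ∀ (g : GL (Fin n) F) σ B, semiAut g σ * glAut B * (semiAut g σ)⁻¹ ∈ (glAut (n := n) (F := F)).range := by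
    intro g σ B
    refine ⟨g * glMap σ B * g⁻¹, ?_⟩
    rw [semiAut_split, map_mul, map_mul, ← field_conj, map_inv]
    group
  obtain ⟨g, σ, rfl | ⟨-, rfl⟩⟩ := exists_decomp hn α
  · exact hsemi g σ A
  · rw [show semiAut g σ * invTAut * glAut A * (semiAut g σ * invTAut)⁻¹ =
      semiAut g σ * (invTAut * glAut A) * invTAut⁻¹ * (semiAut g σ)⁻¹ by group, invTAut_mul_glAut,
      show semiAut g σ * (glAut (contraHom A) * invTAut) * invTAut⁻¹ * (semiAut g σ)⁻¹ =
      semiAut g σ * glAut (contraHom A) * (semiAut g σ)⁻¹ by group]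
    exact hsemi g σ _

theorem gf_order {σ : F ≃+* F} (hn : 3 ≤ n) {r : ℕ} (hr : r.Prime) (hσ : σ ≠ 1)
    (h : orderOf (semiAut (1 : GL (Fin n) F) σ * invTAut) = r) : r = 2 ∧ orderOf σ = 2 := by
  have hcomm : Commute (semiAut (1 : GL (Fin n) F) σ) invTAut := (invTAut_mul_field σ).symm
  have h1 : (semiAut (1 : GL (Fin n) F) σ * invTAut) ^ r = 1 := h ▸ pow_orderOf_eq_one _
  rw [hcomm.mul_pow, field_pow] at h1
  rcases hr.eq_two_or_odd' with rfl | ho
  · refine ⟨rfl, ?_⟩
    rw [pow_two (invTAut : MulAut (PSLn n F)), invTAut_mul_self, mul_one, field_ne_one_iff (by omega : 2 ≤ n)] at h1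
    haveI := Fact.mk Nat.prime_two
    exact orderOf_eq_prime h1 hσ
  · exfalso
    obtain ⟨k, rfl⟩ := ho
    rw [pow_succ (invTAut : MulAut (PSLn n F)), pow_mul, pow_two, invTAut_mul_self, one_pow, one_mul] at h1
    refine semiAut_ne_invT hn 1 1 (σ ^ (2 * k + 1)) (RingEquiv.refl F) ?_
    rw [semiAut_one, one_mul, ← invTAut_inv]
    exact eq_inv_of_mul_eq_one_left h1

/-- In `Inndiag·φ` the elements of order dividing `orderOf σ` are `Inndiag`-conjugates of `φ`. -/
theorem field_coset (hn : 2 ≤ n) (σ : F ≃+* F) (A : GL (Fin n) F)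
    (h : (glAut A * semiAut 1 σ) ^ orderOf σ = 1) :
    ∃ B : GL (Fin n) F, glAut A * semiAut 1 σ = glAut B * semiAut 1 σ * (glAut B)⁻¹ := by
  rw [mul_pow_eq glAut (glMap σ) _ (field_conj σ), field_pow, pow_orderOf_eq_one,
    show semiAut (1 : GL (Fin n) F) (1 : F ≃+* F) = 1 from semiAut_one, mul_one, glAut_eq_one_iff hn] at h
  obtain ⟨c, hc⟩ := h
  have hfix : σ (c : F) = c := by
    have e1 := normProd_succ (glMap σ) A (orderOf σ)
    rw [normProd_succ', hc, glMap_scalar,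
      show (glMap σ)^[orderOf σ] A = A from Units.ext (by
        rw [glMap_iterate, pow_orderOf_eq_one]; exact Matrix.map_id _),
      ← GeneralLinearGroup.scalar_commute (umap σ c) A] at e1
    exact (congrArg Units.val (scalar_inj (by omega) (mul_right_cancel e1))).symm
  obtain ⟨d, hd⟩ := exists_normProd_eq σ (c := c⁻¹) (by rw [Units.val_inv_eq_inv_val, map_inv₀, hfix])
  have hN : normProd (glMap σ) (GeneralLinearGroup.scalar (Fin n) d * A) (orderOf σ) = 1 := by
    rw [normProd_scalar_mul, hd, hc, ← map_mul, inv_mul_cancel, map_one]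
  obtain ⟨B, hB⟩ := descent σ hN
  refine ⟨B, ?_⟩
  rw [conj_eq glAut (glMap σ) _ (field_conj σ), ← hB, glAut_scalar_mul]

theorem involutive_of_orderOf_two {σ : F ≃+* F} (h : orderOf σ = 2) :
    (∀ x, σ (σ x) = x) ∧ (∃ x, σ x ≠ x) ∧ ∀ a, σ a = a → ∃ x, x * σ x = a := by
  refine ⟨fun x => ?_, ?_, ?_⟩
  · have := pow_orderOf_apply σ x
    rwa [h] at this
  · by_contra hc
    push Not at hc
    have : σ = 1 := RingEquiv.ext hc
    rw [this, orderOf_one] at h
    exact absurd h (by norm_num)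
  · intro a ha
    rcases eq_or_ne a 0 with rfl | h0
    · exact ⟨0, zero_mul _⟩
    obtain ⟨d, hd⟩ := exists_normProd_eq σ (c := Units.mk0 a h0) ha
    refine ⟨d, ?_⟩
    rw [h, normProd_succ, normProd_one] at hd
    exact congrArg Units.val hd

/-- In `Inndiag·φι`, `σ² = 1 ≠ σ`, the elements of order dividing 2 are `Inndiag`-conjugates of `φι`. -/
theorem gf_coset (hn : 3 ≤ n) {σ : F ≃+* F} (hσ : orderOf σ = 2) (A : GL (Fin n) F)
    (h : (glAut A * (semiAut 1 σ * invTAut)) ^ 2 = 1) :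
    ∃ B : GL (Fin n) F,
      glAut A * (semiAut 1 σ * invTAut) = glAut B * (semiAut 1 σ * invTAut) * (glAut B)⁻¹ := by
  obtain ⟨h2, hne, hN⟩ := involutive_of_orderOf_two hσ
  have hψ : (semiAut (1 : GL (Fin n) F) σ * invTAut) ^ 2 = 1 := by
    rw [(show Commute (semiAut (1 : GL (Fin n) F) σ) invTAut from (invTAut_mul_field σ).symm).mul_pow, field_pow,
      ← hσ, pow_orderOf_eq_one, hσ, pow_two, invTAut_mul_self, mul_one]
    exact semiAut_one
  rw [mul_pow_eq glAut (gfTwist σ) _ (gf_conj σ), hψ, mul_one, glAut_eq_one_iff (by omega)] at h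
  obtain ⟨c, hc⟩ := h
  rw [normProd_succ, normProd_one] at hc
  have hA : (A : Matrix (Fin n) (Fin n) F) = (c : F) • ((A : Matrix (Fin n) (Fin n) F).map σ)ᵀ := by
    have e := congrArg (fun M : GL (Fin n) F => (M : Matrix (Fin n) (Fin n) F)) hc
    simp only [Units.val_mul, gfTwist_coe, GeneralLinearGroup.coe_scalar] at e
    have e2 := congrArg (· * ((A : Matrix (Fin n) (Fin n) F).map σ)ᵀ) e
    simp only [mul_assoc, ← transpose_mul, ← Matrix.map_mul, ← Units.val_mul, mul_inv_cancel, Units.val_one,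
      Matrix.map_one _ (map_zero σ) (map_one σ), transpose_one, mul_one] at e2
    exact e2.trans (by rw [Matrix.scalar_apply, Matrix.smul_eq_diagonal_mul])
  have hA' : ((A : Matrix (Fin n) (Fin n) F).map σ)ᵀ = σ (c : F) • (A : Matrix (Fin n) (Fin n) F) := by
    ext i j
    have e := congrArg σ (congrFun (congrFun hA j) i)
    simpa [h2] using e
  have hcc : (c : F) * σ c = 1 := by
    have e := hA
    rw [hA', smul_smul] at e
    obtain ⟨i, j, hij⟩ : ∃ i j, (A : Matrix (Fin n) (Fin n) F) i j ≠ 0 := by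
      by_contra hz
      push Not at hz
      haveI : Nonempty (Fin n) := ⟨⟨0, by omega⟩⟩
      exact A.ne_zero (Matrix.ext hz)
    have := congrFun (congrFun e i) j
    simp only [Matrix.smul_apply, smul_eq_mul] at this
    exact mul_right_cancel₀ hij ((one_mul _).trans this).symm
  obtain ⟨b, hb⟩ := descent_units σ (c := c) (by
    rw [hσ, normProd_succ, normProd_one]
    exact Units.ext hcc)
  have hcinv : σ (c : F) = (c : F)⁻¹ := eq_inv_of_mul_eq_one_right hcc
  have hbc : σ (b : F) = (b : F) * (c : F)⁻¹ := by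
    have := congrArg Units.val hb
    rw [Units.val_mul, Units.val_inv_eq_inv_val, umap_coe] at this
    rw [this]
    have hb0 : σ (b : F) ≠ 0 := by simp
    field_simp
  have hH : (((GeneralLinearGroup.scalar (Fin n) b⁻¹ * A : GL (Fin n) F) : Matrix (Fin n) (Fin n) F).map σ)ᵀ
      = (GeneralLinearGroup.scalar (Fin n) b⁻¹ * A : GL (Fin n) F) := by
    rw [Units.val_mul, GeneralLinearGroup.coe_scalar, Matrix.scalar_apply, ← Matrix.smul_eq_diagonal_mul,
      Units.val_inv_eq_inv_val]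
    ext i j
    have e := congrFun (congrFun hA' i) j
    simp only [Matrix.transpose_apply, Matrix.map_apply, Matrix.smul_apply, smul_eq_mul, map_mul, map_inv₀] at e ⊢
    rw [e, hbc, hcinv, ← mul_assoc]
    congr 1
    have hc0 : (c : F) ≠ 0 := c.ne_zero
    have hb0 : (b : F) ≠ 0 := b.ne_zero
    field_simp
  obtain ⟨B, hB⟩ := HermCongr.exists_congr_one h2 hne hN _ hH
  refine ⟨B, ?_⟩
  rw [conj_eq glAut (gfTwist σ) _ (gf_conj σ), ← glAut_scalar_mul b⁻¹ A]
  congr 2
  refine Units.ext ?_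
  rw [Units.val_mul B, gfTwist_coe, inv_inv]
  exact hB

end Cfsg.Agent.H58.PSLTwist
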