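import Mathlib
import Cfsg.Agent.H58.PSLTwist

/-!
# Centralisers and class splitting for standard automorphisms of `PSL_n(F)`
-/

set_option autoImplicit false

namespace Cfsg.Agent.H58.PSLCentralizer

open Matrix Cfsg.Agent.H56 Cfsg.Agent.H58.PSLAut Cfsg.Agent.H58.Twist Cfsg.Agent.H58.Descent Cfsg.Agent.H58.PSLTwist

section Cyclic

variable {G : Type*} [CommGroup G]

theorem range_pow_sup_range_pow (a b : ℕ) :
    (powMonoidHom a : G →* G).range ⊔ (powMonoidHom b : G →* G).range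
      = (powMonoidHom (Nat.gcd a b) : G →* G).range := by
  refine le_antisymm (sup_le ?_ ?_) ?_
  · rintro _ ⟨x, rfl⟩
    exact ⟨x ^ (a / Nat.gcd a b), by simp [← pow_mul, Nat.div_mul_cancel (Nat.gcd_dvd_left a b)]⟩
  · rintro _ ⟨x, rfl⟩
    exact ⟨x ^ (b / Nat.gcd a b), by simp [← pow_mul, Nat.div_mul_cancel (Nat.gcd_dvd_right a b)]⟩
  · rintro _ ⟨x, rfl⟩
    have h : x ^ Nat.gcd a b = (x ^ Nat.gcdA a b) ^ a * (x ^ Nat.gcdB a b) ^ b := by
      rw [← zpow_natCast, Nat.gcd_eq_gcd_ab, _root_.zpow_add, ← zpow_natCast, ← zpow_natCast, ← _root_.zpow_mul, ← _root_.zpow_mul,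
        mul_comm (a : ℤ), mul_comm (b : ℤ)]
    rw [powMonoidHom_apply, h]
    exact Subgroup.mul_mem_sup ⟨x ^ Nat.gcdA a b, rfl⟩ ⟨x ^ Nat.gcdB a b, rfl⟩

variable [IsCyclic G] [Finite G]

theorem ker_pow_eq_range_pow {d m : ℕ} (h : Nat.card G = d * m) :
    (powMonoidHom d : G →* G).ker = (powMonoidHom m : G →* G).range := by
  symm
  refine Subgroup.eq_of_le_of_card_ge ?_ ?_
  · rintro _ ⟨x, rfl⟩
    rw [MonoidHom.mem_ker, powMonoidHom_apply, powMonoidHom_apply, ← pow_mul, mul_comm, ← h, pow_card_eq_one']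
  · have hd : 0 < d ∧ 0 < m := CanonicallyOrderedAdd.mul_pos.mp (h ▸ Nat.card_pos)
    rw [IsCyclic.card_powMonoidHom_ker, IsCyclic.card_powMonoidHom_range, h,
      Nat.gcd_eq_right (Dvd.intro_left d rfl), Nat.mul_div_cancel _ hd.2, Nat.gcd_eq_right (Dvd.intro m rfl)]

theorem index_ker_pow_sup_range_pow {d m : ℕ} (n : ℕ) (h : Nat.card G = d * m) :
    ((powMonoidHom d : G →* G).ker ⊔ (powMonoidHom n : G →* G).range).index = Nat.gcd n m := by
  rw [ker_pow_eq_range_pow h, range_pow_sup_range_pow, IsCyclic.index_powMonoidHom_range, h, Nat.gcd_comm m n]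
  exact Nat.gcd_eq_right ((Nat.gcd_dvd_right n m).trans (Dvd.intro_left d rfl))

end Cyclic

variable {F : Type*} [Field F] {n : ℕ}

theorem inf_centralizer_eq_map (hn : 2 ≤ n) (φ : MulAut (PSLn n F)) (θ : GL (Fin n) F →* GL (Fin n) F)
    (hφ : ∀ A, φ * glAut A * φ⁻¹ = glAut (θ A)) (R : Subgroup (GL (Fin n) F)) (h1 : ∀ A ∈ R, θ A = A)
    (h2 : ∀ (A : GL (Fin n) F) (c : Fˣ), θ A = GeneralLinearGroup.scalar (Fin n) c * A →
      ∃ b : Fˣ, GeneralLinearGroup.scalar (Fin n) b * A ∈ R) :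
    Cfsg.inndiagPSL n F ⊓ Subgroup.centralizer {φ} = R.map glAut := by
  rw [inndiag_eq]
  ext y
  constructor
  · rintro ⟨⟨A, rfl⟩, hy⟩
    obtain ⟨c, hc⟩ := (glAut_eq_iff hn).mp ((commutes_iff glAut θ φ hφ A).mp hy)
    obtain ⟨b, hb⟩ := h2 A c hc
    exact ⟨_, hb, glAut_scalar_mul b A⟩
  · rintro ⟨A, hA, rfl⟩
    exact ⟨⟨A, rfl⟩, (commutes_iff glAut θ φ hφ A).mpr (by rw [h1 A hA])⟩

theorem ker_glAut (hn : 2 ≤ n) : (glAut (n := n) (F := F)).ker = Cfsg.Geo.scalars (Fin n) F := by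
  ext A
  rw [MonoidHom.mem_ker, glAut_eq_one_iff hn]
  exact ⟨fun ⟨c, hc⟩ => ⟨c, hc.symm⟩, fun ⟨c, hc⟩ => ⟨c, hc.symm⟩⟩

theorem nonempty_map_glAut_iso (hn : 2 ≤ n) (R : Subgroup (GL (Fin n) F)) :
    Nonempty (↥(R.map glAut) ≃* ↥R ⧸ (Cfsg.Geo.scalars (Fin n) F).subgroupOf R) := by
  refine ⟨((QuotientGroup.quotientMulEquivOfEq ?_).trans
    (QuotientGroup.quotientKerEquivOfSurjective _ (glAut.subgroupMap_surjective R))).symm⟩
  ext A
  rw [Subgroup.mem_subgroupOf, ← ker_glAut hn, MonoidHom.mem_ker, MonoidHom.mem_ker, ← Subtype.coe_inj]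
  rfl

theorem det_scalar' (c : Fˣ) : GeneralLinearGroup.det (GeneralLinearGroup.scalar (Fin n) c) = c ^ n :=
  Units.ext (by simp [GeneralLinearGroup.val_det_apply, GeneralLinearGroup.coe_scalar])

theorem det_surjective (hn : 0 < n) : Function.Surjective (GeneralLinearGroup.det : GL (Fin n) F →* Fˣ) := by
  intro c
  refine ⟨GeneralLinearGroup.mkOfDetNeZero (Matrix.diagonal (Pi.mulSingle (⟨0, hn⟩ : Fin n) (c : F))) ?_, Units.ext ?_⟩
  · rw [Matrix.det_diagonal, Fintype.prod_pi_mulSingle']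
    exact c.ne_zero
  · show Matrix.det (Matrix.diagonal (Pi.mulSingle (⟨0, hn⟩ : Fin n) (c : F))) = _
    rw [Matrix.det_diagonal, Fintype.prod_pi_mulSingle']

theorem range_toGL_eq_ker_det :
    (Matrix.SpecialLinearGroup.toGL (n := Fin n) (R := F)).range = GeneralLinearGroup.det.ker := by
  ext A
  constructor
  · rintro ⟨s, rfl⟩
    exact Units.ext s.2
  · intro h
    exact ⟨⟨A, congrArg Units.val (MonoidHom.mem_ker.mp h)⟩, Units.ext rfl⟩

variable [Fintype F]

theorem splitClassCount_eq (hn : 2 ≤ n) (φ : MulAut (PSLn n F)) (R : Subgroup (GL (Fin n) F))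
    (hR : Cfsg.inndiagPSL n F ⊓ Subgroup.centralizer {φ} = R.map glAut) :
    Cfsg.splitClassCount (Cfsg.inndiagPSL n F) (Cfsg.Inn (PSLn n F)) φ
      = (R.map GeneralLinearGroup.det ⊔ (powMonoidHom n : Fˣ →* Fˣ).range).index := by
  rw [splitClassCount_eq_relIndex Inn_le_inndiag φ, hR, Inn_eq_map, range_toGL_eq_ker_det, ← Subgroup.map_sup,
    inndiag_eq, MonoidHom.range_eq_map glAut, Subgroup.relIndex_map_map, top_sup_eq, Subgroup.relIndex_top_right,
    ker_glAut hn]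
  set N := GeneralLinearGroup.det.ker ⊔ R ⊔ Cfsg.Geo.scalars (Fin n) F with hN
  have h := Subgroup.index_map N GeneralLinearGroup.det
  rw [MonoidHom.range_eq_top.mpr (det_surjective (by omega : 0 < n)), Subgroup.index_top, mul_one,
    sup_eq_left.mpr (le_sup_left.trans le_sup_left : GeneralLinearGroup.det.ker ≤ N)] at h
  rw [← h, hN, Subgroup.map_sup, Subgroup.map_sup, Subgroup.map_eq_bot_iff _ |>.mpr le_rfl, bot_sup_eq]
  congr 2
  ext c
  constructor
  · rintro ⟨_, ⟨a, rfl⟩, rfl⟩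
    exact ⟨a, (det_scalar' a).symm⟩
  · rintro ⟨a, rfl⟩
    exact ⟨_, ⟨a, rfl⟩, det_scalar' a⟩

/-! ### Field automorphisms -/

theorem exists_subfield_hom {p f : ℕ} [Fact p.Prime] (hF : Fintype.card F = p ^ f) (σ : F ≃+* F)
    (F₀ : Type*) [Field F₀] [Fintype F₀] (hF₀ : Fintype.card F₀ = p ^ (f / orderOf σ)) :
    ∃ e : F₀ →+* F, (∀ x, σ (e x) = e x) ∧ ∀ a, σ a = a → ∃ x, e x = a := by
  letI : Fintype (fixedField σ) := Fintype.ofFinite _
  have hc : Fintype.card F₀ = Fintype.card (fixedField σ) := by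
    rw [hF₀, ← Nat.card_eq_fintype_card, (orderOf_dvd_of_card σ hF).2]
  let i := FiniteField.ringEquivOfCardEq (K := F₀) (K' := fixedField σ) hc
  refine ⟨(fixedField σ).subtype.comp i.toRingHom, fun x => (mem_fixedField σ).mp (i x).2, fun a ha => ?_⟩
  exact ⟨i.symm ⟨a, (mem_fixedField σ).mpr ha⟩, by simp⟩

theorem mem_range_map_iff {σ : F ≃+* F} {F₀ : Type*} [Field F₀] (e : F₀ →+* F) (he : ∀ x, σ (e x) = e x)
    (he' : ∀ a, σ a = a → ∃ x, e x = a) (A : GL (Fin n) F) :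
    A ∈ (GeneralLinearGroup.map (n := Fin n) e).range ↔ glMap σ A = A := by
  constructor
  · rintro ⟨B, rfl⟩
    refine Units.ext (Matrix.ext fun i j => ?_)
    exact he _
  · intro h
    have h' : ∀ i j, σ ((A : Matrix (Fin n) (Fin n) F) i j) = (A : Matrix (Fin n) (Fin n) F) i j := fun i j =>
      congrArg (fun M : GL (Fin n) F => (M : Matrix (Fin n) (Fin n) F) i j) h
    choose b hb using fun i j => he' _ (h' i j)
    let Bm : Matrix (Fin n) (Fin n) F₀ := Matrix.of b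
    have hdet : Bm.det ≠ 0 := by
      intro h0
      have h1 := e.map_det Bm
      rw [h0, map_zero, show e.mapMatrix Bm = (A : Matrix (Fin n) (Fin n) F) from Matrix.ext hb] at h1
      exact GeneralLinearGroup.det_ne_zero A h1.symm
    exact ⟨GeneralLinearGroup.mkOfDetNeZero _ hdet, Units.ext (Matrix.ext hb)⟩

theorem field_centralizer (hn : 2 ≤ n) {σ : F ≃+* F} {F₀ : Type*} [Field F₀] (e : F₀ →+* F)
    (he : ∀ x, σ (e x) = e x) (he' : ∀ a, σ a = a → ∃ x, e x = a) :
    Cfsg.inndiagPSL n F ⊓ Subgroup.centralizer {semiAut (1 : GL (Fin n) F) σ}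
      = (GeneralLinearGroup.map (n := Fin n) e).range.map glAut := by
  refine inf_centralizer_eq_map hn _ (glMap σ) (field_conj σ) _ (fun A hA => (mem_range_map_iff e he he' A).mp hA) ?_
  intro A c hc
  obtain ⟨b, hb⟩ := exists_scalar_fixed σ (by omega) hc
  exact ⟨b, (mem_range_map_iff e he he' _).mpr hb⟩

theorem field_centralizer_iso (hn : 2 ≤ n) {σ : F ≃+* F} {F₀ : Type*} [Field F₀] (e : F₀ →+* F)
    (he : ∀ x, σ (e x) = e x) (he' : ∀ a, σ a = a → ∃ x, e x = a) :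
    Nonempty (↥(Cfsg.inndiagPSL n F ⊓ Subgroup.centralizer {semiAut (1 : GL (Fin n) F) σ})
      ≃* Matrix.ProjGenLinGroup (Fin n) F₀) := by
  rw [field_centralizer hn e he he', MonoidHom.map_range]
  refine ⟨((QuotientGroup.quotientKerEquivRange _).symm.trans (QuotientGroup.quotientMulEquivOfEq ?_))⟩
  ext B
  rw [MonoidHom.mem_ker, MonoidHom.comp_apply, ← MonoidHom.mem_ker, ker_glAut hn,
    GeneralLinearGroup.center_eq_range_scalar]
  constructor
  · rintro ⟨c, hc⟩
    have hc' : GeneralLinearGroup.scalar (Fin n) c = GeneralLinearGroup.map e B := hc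
    have hentry : ∀ i j, e ((B : Matrix (Fin n) (Fin n) F₀) i j) = if i = j then (c : F) else 0 := by
      intro i j
      have := congrArg (fun M : GL (Fin n) F => (M : Matrix (Fin n) (Fin n) F) i j) hc'
      rw [GeneralLinearGroup.coe_scalar, Matrix.scalar_apply, Matrix.diagonal_apply] at this
      exact this.symm
    let i₀ : Fin n := ⟨0, by omega⟩
    have hd : (B : Matrix (Fin n) (Fin n) F₀) i₀ i₀ ≠ 0 := fun h0 => by
      have := hentry i₀ i₀
      rw [h0, map_zero, if_pos rfl] at this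
      exact c.ne_zero this.symm
    refine ⟨Units.mk0 _ hd, Units.ext (Matrix.ext fun i j => e.injective ?_)⟩
    rw [GeneralLinearGroup.coe_scalar, Matrix.scalar_apply, Matrix.diagonal_apply, hentry, apply_ite e, map_zero,
      Units.val_mk0, hentry, if_pos rfl]
  · rintro ⟨d, rfl⟩
    exact ⟨Units.map e.toMonoidHom d, (GeneralLinearGroup.map_scalar e d).symm⟩

theorem det_map_range (hn : 0 < n) {F₀ : Type*} [Field F₀] [Fintype F₀] (e : F₀ →+* F) :
    (GeneralLinearGroup.map (n := Fin n) e).range.map GeneralLinearGroup.det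
      = (powMonoidHom (Fintype.card F₀ - 1) : Fˣ →* Fˣ).ker := by
  have h1 : (GeneralLinearGroup.map (n := Fin n) e).range.map GeneralLinearGroup.det
      = (Units.map (e : F₀ →* F)).range := by
    rw [MonoidHom.map_range, show GeneralLinearGroup.det.comp (GeneralLinearGroup.map (n := Fin n) e)
      = (Units.map (e : F₀ →* F)).comp GeneralLinearGroup.det from MonoidHom.ext fun B =>
        Units.ext (e.map_det (B : Matrix (Fin n) (Fin n) F₀)).symm,
      ← MonoidHom.map_range, MonoidHom.range_eq_top.mpr (det_surjective hn), ← MonoidHom.range_eq_map]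
  rw [h1]
  refine Subgroup.eq_of_le_of_card_ge ?_ ?_
  · rintro _ ⟨u, rfl⟩
    classical rw [MonoidHom.mem_ker, powMonoidHom_apply, ← map_pow, ← Fintype.card_units, pow_card_eq_one, map_one]
  · rw [IsCyclic.card_powMonoidHom_ker, ← Nat.card_congr (MonoidHom.ofInjective (f := Units.map (e : F₀ →* F)) (Units.map_injective e.injective)).toEquiv,
      Nat.card_units F₀, Nat.card_eq_fintype_card (α := F₀)]
    exact Nat.gcd_le_right _ (Nat.sub_pos_of_lt Fintype.one_lt_card)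

end Cfsg.Agent.H58.PSLCentralizer
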