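import Mathlib
import Cfsg.Agent.Unitary.Field
import Cfsg.Agent.H58.PSLCentralizer

/-!
# Involutory graph-field automorphisms of `PSL_n(F)`
-/

set_option autoImplicit false

namespace Cfsg.Agent.H58.PSLGraphField

open Matrix Cfsg.Agent.H56 Cfsg.Agent.H58.PSLAut Cfsg.Agent.H58.Twist Cfsg.Agent.H58.Descent Cfsg.Agent.H58.PSLTwist
  Cfsg.Agent.H58.PSLCentralizer

variable {F : Type*} [Field F] {n : ℕ}

theorem contraHom_scalar (b : Fˣ) :
    contraHom (GeneralLinearGroup.scalar (Fin n) b) = GeneralLinearGroup.scalar (Fin n) b⁻¹ := by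
  refine Units.ext ?_
  rw [contraHom_coe, ← map_inv, GeneralLinearGroup.coe_scalar, Matrix.scalar_apply, Matrix.diagonal_transpose]

theorem gfTwist_scalar (σ : F ≃+* F) (b : Fˣ) :
    gfTwist σ (GeneralLinearGroup.scalar (Fin n) b) = GeneralLinearGroup.scalar (Fin n) (umap σ b)⁻¹ := by
  rw [gfTwist, MonoidHom.comp_apply, contraHom_scalar, glMap_scalar, map_inv]

theorem gfTwist_gfTwist {σ : F ≃+* F} (h2 : ∀ x, σ (σ x) = x) (A : GL (Fin n) F) :
    gfTwist σ (gfTwist σ A) = A := by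
  refine Units.ext (Matrix.ext fun i j => ?_)
  rw [gfTwist_coe, ← map_inv, gfTwist_coe, inv_inv]
  simp [h2]

variable [Fintype F]

theorem card_eq_sq {σ : F ≃+* F} (hσ : orderOf σ = 2) {p f : ℕ} [Fact p.Prime] (hF : Fintype.card F = p ^ f) :
    Even f ∧ Fintype.card F = (p ^ (f / 2)) ^ 2 := by
  obtain ⟨h, -⟩ := orderOf_dvd_of_card σ hF
  rw [hσ] at h
  exact ⟨even_iff_two_dvd.mpr h, by rw [hF, ← pow_mul, Nat.div_mul_cancel h]⟩

/-- The involutory automorphism of `F` is `a ↦ a ^ q`, `q² = |F|`. -/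
theorem apply_eq_pow {σ : F ≃+* F} (hσ : orderOf σ = 2) {q : ℕ} (hF : Fintype.card F = q ^ 2) (a : F) :
    σ a = a ^ q := by
  have := finite_ringEquiv (F := F)
  let E := FixedPoints.subfield (Subgroup.zpowers σ) F
  letI : Fintype E := Fintype.ofFinite _
  have hE : Fintype.card E = q := by
    have h := card_eq_pow σ
    rw [hF, hσ] at h
    rw [← Nat.card_eq_fintype_card]
    exact (Nat.pow_left_injective two_ne_zero h).symm
  have hfix : ∀ x : E, Cfsg.Agent.Unitary.frob hF (algebraMap E F x) = algebraMap E F x := fun x => by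
    rw [Cfsg.Agent.Unitary.frob_apply, ← map_pow, ← hE, FiniteField.pow_card]
  obtain ⟨g, hg⟩ := FixedPoints.toAlgAut_surjective (Subgroup.zpowers σ) F
    (AlgEquiv.ofRingEquiv (f := Cfsg.Agent.Unitary.frob hF) hfix)
  have hga : ∀ x, (g : F ≃+* F) x = x ^ q := fun x => DFunLike.congr_fun hg x
  obtain ⟨i, hi, hgi⟩ : ∃ i, i < 2 ∧ σ ^ i = (g : F ≃+* F) := by
    classical
    have := (IsOfFinOrder.mem_zpowers_iff_mem_range_orderOf (isOfFinOrder_of_finite σ)).mp g.2
    simpa [hσ] using this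
  interval_cases i
  · exfalso
    obtain ⟨u, hu⟩ := IsCyclic.exists_ofOrder_eq_natCard (α := Fˣ)
    have hq := Cfsg.Agent.Unitary.two_le_q hF
    have h1 : u ^ (q - 1) = 1 := by
      refine Units.ext ?_
      rw [Units.val_pow_eq_pow_val, Units.val_one]
      refine Cfsg.Agent.Unitary.pow_sub_one_eq_one hF u.ne_zero ?_
      rw [← hga, ← hgi]
      rfl
    have h2 := Nat.le_of_dvd (by omega) (hu ▸ orderOf_dvd_of_pow_eq_one h1)
    rw [Cfsg.Agent.Unitary.card_units hF] at h2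
    have : 3 * (q - 1) ≤ (q + 1) * (q - 1) := Nat.mul_le_mul_right _ (by omega)
    omega
  · rw [← hga, ← hgi, pow_one]

theorem eq_of_orderOf_two {σ τ : F ≃+* F} (hσ : orderOf σ = 2) (hτ : orderOf τ = 2) : τ = σ := by
  obtain ⟨p, hp, m, hpp, hm⟩ := FiniteField.card' F
  haveI := Fact.mk hpp
  obtain ⟨-, h2⟩ := card_eq_sq hσ hm
  exact RingEquiv.ext fun a => (apply_eq_pow hτ h2 a).trans (apply_eq_pow hσ h2 a).symm

/-- Every conjugate of a standard involutory graph-field automorphism is an `Inndiag`-conjugate. -/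
theorem conjUnder_of_conj (hn : 2 ≤ n) {σ : F ≃+* F} (hσ : orderOf σ = 2) (α : MulAut (PSLn n F)) :
    Cfsg.IsConjUnder (Cfsg.inndiagPSL n F) (semiAut 1 σ * invTAut) (α * (semiAut 1 σ * invTAut) * α⁻¹) := by
  have hsemi : ∀ τ : F ≃+* F, semiAut (1 : GL (Fin n) F) τ * (semiAut 1 σ * invTAut) * (semiAut 1 τ)⁻¹
      = semiAut 1 σ * invTAut := by
    intro τ
    have hcomm : τ * σ = σ * τ := by
      have e : τ * σ * τ⁻¹ = σ := eq_of_orderOf_two hσ (by rw [orderOf_conj, hσ])
      exact mul_inv_eq_iff_eq_mul.mp e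
    have h1 : semiAut (1 : GL (Fin n) F) τ * semiAut 1 σ = semiAut 1 σ * semiAut 1 τ := by
      rw [semiAut_mul, semiAut_mul, map_one, map_one]
      exact congrArg (semiAut _) hcomm
    rw [← mul_assoc, h1, mul_assoc (semiAut 1 σ), ← invTAut_mul_field]
    group
  obtain ⟨g, τ, rfl | ⟨-, rfl⟩⟩ := exists_decomp hn α
  · refine ⟨glAut g, mem_inndiag.mpr ⟨g, rfl⟩, ?_⟩
    conv_rhs => rw [← hsemi τ]
    rw [semiAut_split]
    group
  · refine ⟨glAut g, mem_inndiag.mpr ⟨g, rfl⟩, ?_⟩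
    conv_rhs => rw [← hsemi τ]
    rw [semiAut_split, show glAut g * semiAut 1 τ * invTAut * (semiAut 1 σ * invTAut) * (glAut g * semiAut 1 τ * invTAut)⁻¹
      = glAut g * (semiAut 1 τ * ((invTAut * semiAut 1 σ) * (invTAut * invTAut⁻¹)) * (semiAut 1 τ)⁻¹) * (glAut g)⁻¹ by group,
      invTAut_mul_field, mul_inv_cancel, mul_one]

variable {σ : F ≃+* F} {q : ℕ}

theorem mem_GU_iff_fixed (hσ : ∀ a, σ a = a ^ q) (g : GL (Fin n) F) :
    g ∈ Cfsg.GU n F q ↔ gfTwist σ g = g := by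
  have key : g ∈ Cfsg.GU n F q ↔
      ((g : Matrix (Fin n) (Fin n) F).map σ)ᵀ * (g : Matrix (Fin n) (Fin n) F) = 1 := by
    have hdot : ∀ u v : Fin n → F,
        Cfsg.hermForm n F q ((g : Matrix (Fin n) (Fin n) F) *ᵥ u) ((g : Matrix (Fin n) (Fin n) F) *ᵥ v) =
        (((g : Matrix (Fin n) (Fin n) F).map σ)ᵀ * (g : Matrix (Fin n) (Fin n) F)) *ᵥ u ⬝ᵥ fun i => σ (v i) := by
      intro u v
      rw [← mulVec_mulVec, mulVec_transpose, ← dotProduct_mulVec]
      simp only [Cfsg.hermForm, dotProduct, ← hσ]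
      refine Finset.sum_congr rfl fun i _ => ?_
      congr 1
      simp only [mulVec, dotProduct, map_sum, map_mul, Matrix.map_apply]
    constructor
    · intro h
      refine Matrix.ext_of_mulVec_single fun j => funext fun i => ?_
      have h' := h (Pi.single j 1) (Pi.single i 1)
      rw [show Units.coeHom (Matrix (Fin n) (Fin n) F) g = (g : Matrix (Fin n) (Fin n) F) from rfl, hdot] at h'
      simp only [Cfsg.hermForm, ← hσ] at h'
      simpa [dotProduct, Pi.single_apply, apply_ite σ, Matrix.one_apply] using h'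
    · intro h u v
      show Cfsg.hermForm n F q ((g : Matrix (Fin n) (Fin n) F) *ᵥ u) ((g : Matrix (Fin n) (Fin n) F) *ᵥ v) = _
      rw [hdot, h, one_mulVec]
      simp only [Cfsg.hermForm, dotProduct, ← hσ]
  rw [key]
  constructor
  · intro h
    refine Units.ext ?_
    rw [gfTwist_coe]
    refine (left_inv_eq_right_inv (a := ((g : Matrix (Fin n) (Fin n) F).map σ)ᵀ) ?_ h)
    rw [← transpose_mul, ← Matrix.map_mul, ← Units.val_mul, mul_inv_cancel, Units.val_one,
      Matrix.map_one _ (map_zero σ) (map_one σ), transpose_one]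
  · intro h
    have h' := congrArg (fun M : GL (Fin n) F => (M : Matrix (Fin n) (Fin n) F)) h
    simp only [gfTwist_coe] at h'
    nth_rewrite 2 [← h']
    rw [← transpose_mul, ← Matrix.map_mul, ← Units.val_mul, inv_mul_cancel, Units.val_one,
      Matrix.map_one _ (map_zero σ) (map_one σ), transpose_one]

theorem centralizer_eq (hn : 2 ≤ n) (hσ2 : orderOf σ = 2) (hσ : ∀ a, σ a = a ^ q) :
    Cfsg.inndiagPSL n F ⊓ Subgroup.centralizer {semiAut (1 : GL (Fin n) F) σ * invTAut}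
      = (Cfsg.GU n F q).map glAut := by
  obtain ⟨h2, -, hN⟩ := involutive_of_orderOf_two hσ2
  refine inf_centralizer_eq_map hn _ (gfTwist σ) (gf_conj σ) _ (fun A hA => (mem_GU_iff_fixed hσ A).mp hA) ?_
  intro A c hc
  have hcfix : σ (c : F) = c := by
    have e := congrArg (gfTwist σ) hc
    rw [gfTwist_gfTwist h2, map_mul, gfTwist_scalar, hc, ← mul_assoc, ← map_mul, eq_comm, mul_eq_right,
      ← map_one (GeneralLinearGroup.scalar (Fin n))] at e
    exact congrArg Units.val (inv_mul_eq_one.mp (scalar_inj (by omega) e))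
  obtain ⟨x, hx⟩ := hN c hcfix
  have hx0 : x ≠ 0 := by rintro rfl; rw [zero_mul] at hx; exact c.ne_zero hx.symm
  refine ⟨Units.mk0 x hx0, (mem_GU_iff_fixed hσ _).mpr ?_⟩
  rw [map_mul, gfTwist_scalar, hc, ← mul_assoc, ← map_mul]
  congr 2
  refine inv_mul_eq_iff_eq_mul.mpr (Units.ext ?_)
  simp [umap_coe, ← hx, mul_comm]

theorem det_map_GU (hn : 0 < n) (hσ : ∀ a, σ a = a ^ q) :
    (Cfsg.GU n F q).map GeneralLinearGroup.det = (powMonoidHom (q + 1) : Fˣ →* Fˣ).ker := by
  ext c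
  constructor
  · rintro ⟨g, hg, rfl⟩
    rw [MonoidHom.mem_ker, powMonoidHom_apply]
    refine Units.ext ?_
    have h := congrArg (fun M : GL (Fin n) F => (M : Matrix (Fin n) (Fin n) F).det) ((mem_GU_iff_fixed hσ g).mp hg)
    simp only [gfTwist_coe, det_transpose] at h
    rw [show ((((g⁻¹ : GL (Fin n) F) : Matrix (Fin n) (Fin n) F)).map σ).det = σ ((g⁻¹ : GL (Fin n) F) : Matrix (Fin n) (Fin n) F).det
      from (σ.map_det _).symm, hσ] at h
    rw [Units.val_pow_eq_pow_val, GeneralLinearGroup.val_det_apply, Units.val_one, pow_succ]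
    nth_rewrite 2 [← h]
    rw [← mul_pow, ← det_mul, ← Units.val_mul, mul_inv_cancel, Units.val_one, det_one, one_pow]
  · intro hc
    rw [MonoidHom.mem_ker, powMonoidHom_apply] at hc
    obtain ⟨g, hg⟩ : ∃ g : GL (Fin n) F, (g : Matrix (Fin n) (Fin n) F) = Matrix.diagonal (Pi.mulSingle (⟨0, hn⟩ : Fin n) (c : F)) :=
      ⟨GeneralLinearGroup.mkOfDetNeZero (Matrix.diagonal (Pi.mulSingle (⟨0, hn⟩ : Fin n) (c : F))) (by rw [Matrix.det_diagonal, Fintype.prod_pi_mulSingle']; exact c.ne_zero), rfl⟩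
    refine ⟨g, (mem_GU_iff_fixed hσ g).mpr ?_, Units.ext ?_⟩
    · refine Units.ext ?_
      rw [gfTwist_coe]
      have hinv : ((g⁻¹ : GL (Fin n) F) : Matrix (Fin n) (Fin n) F)
          = Matrix.diagonal (Pi.mulSingle (⟨0, hn⟩ : Fin n) ((c⁻¹ : Fˣ) : F)) := by
        refine Units.inv_eq_of_mul_eq_one_right ?_
        rw [hg, Matrix.diagonal_mul_diagonal, ← Matrix.diagonal_one]
        congr 1
        funext i
        rcases eq_or_ne i (⟨0, hn⟩ : Fin n) with rfl | h <;> simp [*]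
      rw [hinv, hg, Matrix.diagonal_map (map_zero σ), Matrix.diagonal_transpose]
      congr 1
      funext i
      rcases eq_or_ne i (⟨0, hn⟩ : Fin n) with rfl | h
      · simp only [Function.comp_apply, Pi.mulSingle_eq_same, hσ, ← Units.val_pow_eq_pow_val]
        congr 1
        rw [inv_pow, inv_eq_iff_mul_eq_one, ← pow_succ, hc]
      · simp [h]
    · rw [GeneralLinearGroup.val_det_apply, hg, Matrix.det_diagonal, Fintype.prod_pi_mulSingle']

end Cfsg.Agent.H58.PSLGraphField
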