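import Mathlib
import Cfsg.Agent.H58.PSLGraphField

/-! Scalar multiples in `GL_n`: a normal form for computations. -/

set_option autoImplicit false

namespace Cfsg.Agent.H58.GLScalar

open Matrix Cfsg.Agent.H58.PSLTwist Cfsg.Agent.H58.Descent
open Cfsg.Agent.H56 (glMap glMap_coe)

variable {F : Type*} [Field F] {n : ℕ}

theorem coe_smul (c : Fˣ) (x : GL (Fin n) F) :
    ((c • x : GL (Fin n) F) : Matrix (Fin n) (Fin n) F) = (c : F) • (x : Matrix (Fin n) (Fin n) F) := rfl

theorem zmul (c : Fˣ) (x : GL (Fin n) F) : GeneralLinearGroup.scalar (Fin n) c * x = c • x :=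
  Units.ext (by rw [coe_smul, Units.val_mul, GeneralLinearGroup.coe_scalar, Matrix.scalar_apply,
    ← Matrix.smul_eq_diagonal_mul])

theorem zone (c : Fˣ) : GeneralLinearGroup.scalar (Fin n) c = c • (1 : GL (Fin n) F) := by rw [← zmul, mul_one]

theorem gsmul_mul (c : Fˣ) (x y : GL (Fin n) F) : c • x * y = c • (x * y) :=
  Units.ext (Matrix.smul_mul (c : F) _ _)

theorem gmul_smul (c : Fˣ) (x y : GL (Fin n) F) : x * c • y = c • (x * y) :=
  Units.ext (Matrix.mul_smul _ (c : F) _)

theorem ginv_smul (c : Fˣ) (x : GL (Fin n) F) : (c • x)⁻¹ = c⁻¹ • x⁻¹ :=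
  inv_eq_of_mul_eq_one_right (by rw [gsmul_mul, gmul_smul, smul_smul, mul_inv_cancel, one_smul, mul_inv_cancel])

theorem smul_inj (hn : 0 < n) {c d : Fˣ} {x : GL (Fin n) F} (h : c • x = d • x) : c = d :=
  scalar_inj hn (mul_right_cancel (b := x) (by rw [zmul, zmul, h]))

theorem contra_contra (x : GL (Fin n) F) : contraHom (contraHom x) = x := Units.ext (by
  rw [contraHom_coe, ← map_inv, contraHom_coe, inv_inv, Matrix.transpose_transpose])

theorem contra_smul (c : Fˣ) (x : GL (Fin n) F) : contraHom (c • x) = c⁻¹ • contraHom x := by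
  rw [← zmul, ← zmul, map_mul, PSLGraphField.contraHom_scalar]

theorem glMap_smul (σ : F ≃+* F) (c : Fˣ) (x : GL (Fin n) F) : glMap σ (c • x) = umap σ c • glMap σ x := by
  rw [← zmul, ← zmul, map_mul, glMap_scalar]

theorem map_smul' {F₀ : Type*} [Field F₀] (e : F₀ →+* F) (c : F₀ˣ) (x : GL (Fin n) F₀) :
    GeneralLinearGroup.map e (c • x) = Units.map (e : F₀ →* F) c • GeneralLinearGroup.map e x := by
  rw [← zmul, ← zmul, map_mul, GeneralLinearGroup.map_scalar]


theorem det_smul' (c : Fˣ) (x : GL (Fin n) F) :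
    GeneralLinearGroup.det (c • x) = c ^ n * GeneralLinearGroup.det x := by
  rw [← zmul, map_mul, PSLCentralizer.det_scalar']

end Cfsg.Agent.H58.GLScalar
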