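import Cfsg.Agent.H58.GTwoInvolFinal
import Cfsg.Agent.H32.GTwoRec.Ident

/-!
Opposite long root elements in the centraliser of `t₁`.
-/

set_option autoImplicit false

namespace Cfsg.Agent.H58.GTwoInvol

open Subgroup
open Cfsg.Agent.H32.GTwoRec

universe u

variable {G : Type u} [Group G] [Finite G] (c : Cfg G)

/-- The subgroup of an opposite long root element is a short conjugate. -/
theorem short_zpowers {z : G} (h : IsOppLong c z) : Short c (zpowers z) := by
  have hz1 : z ≠ 1 := fun e => h.not_mem (e ▸ one_mem _)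
  have h3 : orderOf z = 3 := orderOf_eq_prime h.cube hz1
  obtain ⟨g, hg⟩ := h.conj
  refine ⟨zpowers_le.2 (mem_centralizer_singleton_iff.2 (mul_inv_eq_iff_eq_mul.1 h.fix).symm),
    (Nat.card_zpowers z).trans h3, fun e => h.not_mem (e ▸ mem_zpowers z),
    mem_normalizer_of_conj fun x hx => ?_, g⁻¹, ?_⟩
  · obtain ⟨n, rfl⟩ := mem_zpowers_iff.1 hx
    rw [← conj_zpow, h.inv, inv_zpow]
    exact inv_mem (zpow_mem (mem_zpowers z) n)
  · have hne : g * z * g⁻¹ ≠ 1 := fun e => hz1 (conj_eq_one_iff.1 e)
    rw [← c.D₁_zpowers hg hne, MonoidHom.map_zpowers]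
    congr 1
    simp [mul_assoc]

/-- The opposite long root elements commute with `X_a` and its opposite. -/
theorem oppComm : c.OppComm := fun z hz v hv =>
  have h := short_comm' c (short_zpowers c hz) (mem_zpowers z) hv
  ⟨h.1.symm, h.2.symm⟩

/-- A subgroup containing the part in `A₁` and one opposite long root element contains the
centraliser of `t₁`. -/
theorem centralizer_le_of_mem {H : Subgroup G} (hA : c.A₁ ⊓ centralizer ({c.t₁} : Set G) ≤ H)
    {z : G} (hz : IsOppLong c z) (hzH : z ∈ H) : centralizer ({c.t₁} : Set G) ≤ H :=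
  (C_le' c (short_zpowers c hz)).trans (sup_le hA (zpowers_le.2 hzH))

end Cfsg.Agent.H58.GTwoInvol
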