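import Mathlib
import Cfsg.Agent.H58.PSLCentralizer

/-! Indices in cyclic groups of the determinant images of similarity groups. -/

set_option autoImplicit false

namespace Cfsg.Agent.H58.GraphIndex

open Cfsg.Agent.H58.PSLCentralizer

variable {G : Type*} [CommGroup G] [IsCyclic G] [Finite G] {n m : ℕ}

omit [IsCyclic G] [Finite G] in
theorem range_pow_le {a b : ℕ} (h : a ∣ b) :
    (powMonoidHom b : G →* G).range ≤ (powMonoidHom a : G →* G).range := by
  rintro _ ⟨x, rfl⟩
  obtain ⟨c, rfl⟩ := h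
  exact ⟨x ^ c, by simp [← pow_mul, mul_comm]⟩

theorem index_skew {D : Subgroup G} (hD : D = (powMonoidHom m : G →* G).range) (hn : n = 2 * m) :
    (D ⊔ (powMonoidHom n : G →* G).range).index = Nat.gcd m (Nat.card G) := by
  rw [hD, sup_eq_left.2 (range_pow_le (Dvd.intro_left 2 hn.symm)), IsCyclic.index_powMonoidHom_range, Nat.gcd_comm]

theorem index_symm {D : Subgroup G} (hD : D = (powMonoidHom 2 : G →* G).ker ⊔ (powMonoidHom m : G →* G).range)
    (hn : n = 2 * m) (hG : Even (Nat.card G)) :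
    (D ⊔ (powMonoidHom n : G →* G).range).index = Nat.gcd n (Nat.card G) / 2 := by
  obtain ⟨M, hM⟩ := hG
  rw [hD, sup_assoc, sup_eq_left.2 (range_pow_le (G := G) (Dvd.intro_left 2 hn.symm)),
    index_ker_pow_sup_range_pow m (show Nat.card G = 2 * M by omega), hn, hM, ← two_mul, Nat.gcd_mul_left,
    Nat.mul_div_cancel_left _ two_pos]

theorem index_small {D : Subgroup G} (hD : D ≤ (powMonoidHom n : G →* G).range) :
    (D ⊔ (powMonoidHom n : G →* G).range).index = Nat.gcd n (Nat.card G) := by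
  rw [sup_eq_right.2 hD, IsCyclic.index_powMonoidHom_range, Nat.gcd_comm]

omit [IsCyclic G] [Finite G] in
theorem mem_range_of_sq (hn : Odd n) {d : G} (h : d ^ 2 ∈ (powMonoidHom n : G →* G).range) :
    d ∈ (powMonoidHom n : G →* G).range := by
  obtain ⟨k, hk⟩ := hn
  have h1 : d ^ n ∈ (powMonoidHom n : G →* G).range := ⟨d, rfl⟩
  have h2 := Subgroup.mul_mem _ h1 (Subgroup.inv_mem _ (Subgroup.pow_mem _ h k))
  rw [← pow_mul] at h2
  conv at h2 => arg 2; rw [hk, pow_succ', mul_inv_cancel_right]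
  exact h2

end Cfsg.Agent.H58.GraphIndex
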