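import Mathlib
import Cfsg.Agent.H58.GraphGeneric
import Cfsg.Agent.H58.GraphIndex
import Cfsg.Agent.H58.FormInvariants

/-!
# Graph automorphisms of order two of `PSL_n` and bilinear forms
-/

set_option autoImplicit false
set_option linter.unusedSectionVars false

namespace Cfsg.Agent.H58.GraphPSL

open Matrix Cfsg.Agent.H56 Cfsg.Agent.H58.PSLAut Cfsg.Agent.H58.PSLTwist Cfsg.Agent.H58.PSLCentralizer
  Cfsg.Agent.H58.FormSim Cfsg.Agent.H58.GraphGeneric

variable {F : Type*} [Field F] {n : ℕ}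

/-- The automorphism of the form of `h`. -/
noncomputable def gam (h : GL (Fin n) F) : MulAut (PSLn n F) := glAut h⁻¹ * invTAut

theorem contraHom_inv_coe (A : GL (Fin n) F) :
    (contraHom A⁻¹ : Matrix (Fin n) (Fin n) F) = (A : Matrix (Fin n) (Fin n) F)ᵀ := by
  rw [contraHom_coe, inv_inv]

theorem coe_scalar_mul (c : Fˣ) (h : GL (Fin n) F) :
    ((GeneralLinearGroup.scalar (Fin n) c * h : GL (Fin n) F) : Matrix (Fin n) (Fin n) F)
      = (c : F) • (h : Matrix (Fin n) (Fin n) F) := by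
  rw [Units.val_mul, GeneralLinearGroup.coe_scalar, Matrix.scalar_apply, ← Matrix.smul_eq_diagonal_mul]

theorem gam_conj (B h : GL (Fin n) F) :
    glAut B * gam h * (glAut B)⁻¹ = gam (contraHom B * h * B⁻¹) := by
  rw [gam, gam, ← map_inv, mul_assoc, mul_assoc, invTAut_mul_glAut, ← mul_assoc, ← mul_assoc, ← map_mul, ← map_mul]
  congr 2
  rw [map_inv]
  group

theorem gam_eq_iff (hn : 2 ≤ n) {h h' : GL (Fin n) F} :
    gam h = gam h' ↔ ∃ c : Fˣ, h = GeneralLinearGroup.scalar (Fin n) c * h' := by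
  rw [gam, gam, mul_left_inj, map_inv, map_inv, _root_.inv_inj, glAut_eq_iff hn]

theorem gam_sq (h : GL (Fin n) F) : gam h * gam h = glAut (h⁻¹ * contraHom h⁻¹) := by
  rw [gam, ← mul_assoc, mul_assoc (glAut h⁻¹), invTAut_mul_glAut, ← mul_assoc, ← map_mul, mul_assoc,
    invTAut_mul_self, mul_one]

theorem gam_ne_one [Fintype F] (hn : 3 ≤ n) (h : GL (Fin n) F) : gam h ≠ 1 := fun e =>
  semiAut_ne_invT hn 1 h⁻¹ (RingEquiv.refl F) (RingEquiv.refl F) (semiAut_one.trans e.symm)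

theorem good_iff (hn : 0 < n) (h : GL (Fin n) F) :
    Good (h : Matrix (Fin n) (Fin n) F) ↔ ∃ c : Fˣ, contraHom h⁻¹ = GeneralLinearGroup.scalar (Fin n) c * h := by
  constructor
  · rintro ⟨-, h1 | h1⟩
    · exact ⟨1, Units.ext (by rw [coe_scalar_mul, contraHom_inv_coe, h1, Units.val_one, one_smul])⟩
    · exact ⟨-1, Units.ext (by rw [coe_scalar_mul, contraHom_inv_coe, h1, Units.val_neg, Units.val_one])⟩
  · rintro ⟨c, hc⟩
    have h1 : (h : Matrix (Fin n) (Fin n) F)ᵀ = (c : F) • (h : Matrix (Fin n) (Fin n) F) := by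
      rw [← contraHom_inv_coe, hc, coe_scalar_mul]
    refine ⟨GeneralLinearGroup.det_ne_zero h, ?_⟩
    have h2 : (h : Matrix (Fin n) (Fin n) F) = ((c : F) * c) • (h : Matrix (Fin n) (Fin n) F) := by
      conv_lhs => rw [← transpose_transpose (h : Matrix (Fin n) (Fin n) F), h1, transpose_smul, h1, smul_smul]
    have h3 : (c : F) * c = 1 := by
      by_contra hne
      have h4 : ((c : F) * c - 1) • (h : Matrix (Fin n) (Fin n) F) = 0 := by rw [sub_smul, one_smul, ← h2, sub_self]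
      rcases smul_eq_zero.1 h4 with h5 | h5
      · exact hne (sub_eq_zero.1 h5)
      · exact GeneralLinearGroup.det_ne_zero h (by
          have : Nonempty (Fin n) := ⟨⟨0, hn⟩⟩
          rw [h5, Matrix.det_zero])
    rcases mul_self_eq_one_iff.1 h3 with h5 | h5
    · exact Or.inl (by rw [h1, h5, one_smul])
    · exact Or.inr (by rw [h1, h5])

theorem mem_sim_gl {h Y : GL (Fin n) F} :
    Y ∈ sim (h : Matrix (Fin n) (Fin n) F) ↔
      ∃ c : Fˣ, contraHom Y⁻¹ * h * Y = GeneralLinearGroup.scalar (Fin n) c * h := by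
  rw [mem_sim_iff]
  refine exists_congr fun c => ?_
  rw [Units.ext_iff, coe_scalar_mul, Units.val_mul, Units.val_mul, contraHom_inv_coe]

variable [Fintype F]

theorem orderOf_gam_iff (hn : 3 ≤ n) (h : GL (Fin n) F) :
    orderOf (gam h) = 2 ↔ Good (h : Matrix (Fin n) (Fin n) F) := by
  rw [orderOf_eq_prime_iff, good_iff (by omega), pow_two, gam_sq, glAut_eq_one_iff (by omega)]
  refine ⟨fun e => ?_, fun e => ⟨?_, gam_ne_one hn h⟩⟩
  · obtain ⟨⟨c, hc⟩, -⟩ := e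
    exact ⟨c, by rw [inv_mul_eq_iff_eq_mul.1 hc, GeneralLinearGroup.scalar_commute]⟩
  · obtain ⟨c, hc⟩ := e
    exact ⟨c, by rw [hc, GeneralLinearGroup.scalar_commute, inv_mul_cancel_left]⟩

theorem centralizer_gam (hn : 3 ≤ n) (h : GL (Fin n) F) :
    Cfsg.inndiagPSL n F ⊓ Subgroup.centralizer {gam h} = (sim (h : Matrix (Fin n) (Fin n) F)).map glAut := by
  have key : ∀ B : GL (Fin n) F,
      glAut B ∈ Subgroup.centralizer {gam h} ↔ B ∈ sim (h : Matrix (Fin n) (Fin n) F) := fun B => by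
    rw [Subgroup.mem_centralizer_singleton_iff, ← mul_inv_eq_iff_eq_mul, gam_conj, gam_eq_iff (by omega),
      ← Subgroup.inv_mem_iff, mem_sim_gl, inv_inv]
  rw [inndiag_eq]
  ext y
  constructor
  · rintro ⟨⟨B, rfl⟩, hy⟩
    exact ⟨B, (key B).1 hy, rfl⟩
  · rintro ⟨B, hB, rfl⟩
    exact ⟨⟨B, rfl⟩, (key B).2 hB⟩

theorem exists_gam (hn : 3 ≤ n) {γ : MulAut (PSLn n F)} (hγ : Cfsg.IsGraphAutClassPSL γ) (hγ2 : orderOf γ = 2) :
    ∃ h : GL (Fin n) F, Good (h : Matrix (Fin n) (Fin n) F) ∧ γ = gam h := by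
  obtain ⟨-, δ, g, hδ, hg, rfl⟩ := hγ
  obtain ⟨A, rfl⟩ := isInnerDiag_iff.1 hδ
  rw [isInvT_iff.1 hg] at hγ2 ⊢
  have e : semiAut A (RingEquiv.refl F) * invTAut = gam A⁻¹ := by rw [gam, inv_inv]; rfl
  rw [e] at hγ2
  exact ⟨A⁻¹, (orderOf_gam_iff hn _).1 hγ2, e⟩

/-- The dictionary. -/
noncomputable def setup (hn : 3 ≤ n) :
    Setup F n (Cfsg.inndiagPSL n F)
      (fun γ : MulAut (PSLn n F) => Cfsg.IsGraphAutClassPSL γ ∧ orderOf γ = 2) where
  Rep γ H := ∃ h : GL (Fin n) F, (h : Matrix (Fin n) (Fin n) F) = H ∧ γ = gam h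
  exists_rep := fun γ ⟨hγ, hγ2⟩ => by
    obtain ⟨h, hh, e⟩ := exists_gam hn hγ hγ2
    exact ⟨_, hh, h, rfl, e⟩
  exists_aut := fun H hH => by
    set h : GL (Fin n) F := GeneralLinearGroup.mkOfDetNeZero H hH.1
    refine ⟨gam h, ⟨⟨hn, glAut h⁻¹, invTAut, isInnerDiag_iff.2 ⟨_, rfl⟩, isInvT_iff.2 rfl, rfl⟩,
      (orderOf_gam_iff hn h).2 hH⟩, h, rfl, rfl⟩
  conj_iff := by
    rintro γ γ' _ _ ⟨h, rfl, rfl⟩ ⟨h', rfl, rfl⟩
    rw [congr_iff_matrix]
    constructor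
    · rintro ⟨y, hy, e⟩
      rw [inndiag_eq] at hy
      obtain ⟨B, rfl⟩ := hy
      rw [gam_conj, gam_eq_iff (by omega)] at e
      obtain ⟨c, hc⟩ := e
      refine ⟨B⁻¹, c, ?_⟩
      rw [hc, coe_scalar_mul, Units.val_mul, Units.val_mul, ← contraHom_inv_coe, inv_inv]
    · rintro ⟨Y, l, e⟩
      refine ⟨glAut Y⁻¹, by rw [inndiag_eq]; exact ⟨_, rfl⟩, ?_⟩
      rw [gam_conj, gam_eq_iff (by omega)]
      refine ⟨l, Units.ext ?_⟩
      rw [coe_scalar_mul, Units.val_mul, Units.val_mul, contraHom_inv_coe, inv_inv, e]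
  iso := by
    rintro γ _ ⟨h, rfl, rfl⟩
    rw [centralizer_gam hn h]
    exact nonempty_map_glAut_iso (by omega) _

/-! ### Class splitting -/

open Cfsg.Agent.H58.FormInvariants

theorem mem_det_sim {H : Matrix (Fin n) (Fin n) F} {u : Fˣ} :
    u ∈ (sim H).map GeneralLinearGroup.det ↔ ∃ (g : Matrix (Fin n) (Fin n) F) (c : Fˣ), Sims H g c ∧ g.det = (u : F) := by
  constructor
  · rintro ⟨g, hg, rfl⟩
    obtain ⟨c, hc⟩ := mem_sim_iff.1 hg
    exact ⟨_, c, hc, rfl⟩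
  · rintro ⟨g, c, hg, hd⟩
    exact ⟨GeneralLinearGroup.mkOfDetNeZero g (hd ▸ u.ne_zero), mem_sim_iff.2 ⟨c, hg⟩, Units.ext hd⟩

theorem det_sim_skew (h2 : (2 : F) ≠ 0) {H : Matrix (Fin n) (Fin n) F} (hd : H.det ≠ 0) (hH : Hᵀ = (-1 : F) • H)
    {m : ℕ} (hnm : n = 2 * m) :
    (sim H).map GeneralLinearGroup.det = (powMonoidHom m : Fˣ →* Fˣ).range := by
  obtain ⟨m', hm', hu, he⟩ := skew_det h2 hd hH
  obtain rfl : m' = m := by rw [Fintype.card_fin] at hm'; omega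
  ext u
  rw [mem_det_sim]
  constructor
  · rintro ⟨g, c, hg, hdet⟩
    exact ⟨c, Units.ext (by rw [powMonoidHom_apply, Units.val_pow_eq_pow_val, ← hu g _ c.ne_zero hg, hdet])⟩
  · rintro ⟨c, rfl⟩
    obtain ⟨g, hg, hdet⟩ := he c
    exact ⟨g, c, hg, by rw [hdet, powMonoidHom_apply, Units.val_pow_eq_pow_val]⟩

theorem det_sim_symm (h2 : (2 : F) ≠ 0) {H : Matrix (Fin n) (Fin n) F} (hd : H.det ≠ 0) (hH : Hᵀ = H)
    {k : ℕ} (hnm : n = 2 * (k + 1)) :
    (sim H).map GeneralLinearGroup.det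
      = (powMonoidHom 2 : Fˣ →* Fˣ).ker ⊔ (powMonoidHom (k + 1) : Fˣ →* Fˣ).range := by
  refine le_antisymm (fun u hu => ?_) (sup_le (fun u hu => ?_) ?_)
  · obtain ⟨g, c, hg, hdet⟩ := mem_det_sim.1 hu
    have h := det_sq hd (g := GeneralLinearGroup.mkOfDetNeZero g (hdet ▸ u.ne_zero)) hg
    rw [GeneralLinearGroup.val_mkOfDetNeZero, hdet, Fintype.card_fin, hnm, pow_mul'] at h
    rw [← inv_mul_cancel_right u (c ^ (k + 1))]
    refine Subgroup.mul_mem_sup ?_ ⟨c, rfl⟩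
    rw [MonoidHom.mem_ker, powMonoidHom_apply, mul_pow, inv_pow, mul_inv_eq_one]
    exact Units.ext (by simpa using h)
  · rw [MonoidHom.mem_ker, powMonoidHom_apply, pow_two, Units.ext_iff, Units.val_mul, Units.val_one] at hu
    rcases mul_self_eq_one_iff.1 hu with e | e
    · rw [show u = 1 from Units.ext e]; exact one_mem _
    · obtain ⟨g, hg, hdet⟩ := exists_refl h2 hH hd (by rw [Fintype.card_fin]; omega)
      exact mem_det_sim.2 ⟨g, 1, by rw [Units.val_one]; exact hg, hdet.trans e.symm⟩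
  · rintro _ ⟨c, rfl⟩
    obtain ⟨g, hg, hdet⟩ := symm_exists_sim h2 hH hd (k := k) (by rw [Fintype.card_fin]; omega) (c : F)
    exact mem_det_sim.2 ⟨g, c, hg, by rw [hdet, powMonoidHom_apply, Units.val_pow_eq_pow_val]⟩

theorem det_sim_small {H : Matrix (Fin n) (Fin n) F} (hd : H.det ≠ 0) (hn : Odd n ∨ CharP F 2) :
    (sim H).map GeneralLinearGroup.det ≤ (powMonoidHom n : Fˣ →* Fˣ).range := by
  intro u hu
  obtain ⟨g, c, hg, hdet⟩ := mem_det_sim.1 hu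
  have h := det_sq hd (g := GeneralLinearGroup.mkOfDetNeZero g (hdet ▸ u.ne_zero)) hg
  rw [GeneralLinearGroup.val_mkOfDetNeZero, hdet, Fintype.card_fin] at h
  rcases hn with hn | hn
  · exact GraphIndex.mem_range_of_sq hn ⟨c, Units.ext (by simpa using h.symm)⟩
  · obtain ⟨r, hr⟩ := FormCharTwo.exists_sqrt (c : F)
    rw [← hr, ← pow_two r, ← pow_mul, mul_comm, pow_mul, pow_two, pow_two] at h
    have h' : r ^ n = u := by
      rcases mul_self_eq_mul_self_iff.1 h with h | h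
      · exact h.symm
      · rw [h, CharTwo.neg_eq]
    have hr0 : r ≠ 0 := fun h0 => c.ne_zero (by rw [← hr, h0, zero_mul])
    exact ⟨Units.mk0 r hr0, Units.ext (by simpa using h')⟩

theorem split_count {p f : ℕ} [Fact p.Prime] (hF : Fintype.card F = p ^ f) (hf : 1 ≤ f) (hn : 3 ≤ n)
    {γ : MulAut (PSLn n F)} (hγ : Cfsg.IsGraphAutClassPSL γ) (hγ2 : orderOf γ = 2) :
    ((Even n ∧ Odd p ∧ Nonempty (↥(Cfsg.inndiagPSL n F ⊓ Subgroup.centralizer {γ}) ≃* Cfsg.PGSp (n / 2) F)) →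
      Cfsg.splitClassCount (Cfsg.inndiagPSL n F) (Cfsg.Inn (PSLn n F)) γ = Nat.gcd (n / 2) (p ^ f - 1)) ∧
    ((Even n ∧ Odd p ∧ ¬ Nonempty (↥(Cfsg.inndiagPSL n F ⊓ Subgroup.centralizer {γ}) ≃* Cfsg.PGSp (n / 2) F)) →
      Cfsg.splitClassCount (Cfsg.inndiagPSL n F) (Cfsg.Inn (PSLn n F)) γ = Nat.gcd n (p ^ f - 1) / 2) ∧
    (¬ (Even n ∧ Odd p) →
      Cfsg.splitClassCount (Cfsg.inndiagPSL n F) (Cfsg.Inn (PSLn n F)) γ = Nat.gcd n (p ^ f - 1)) := by
  obtain ⟨h, hh, rfl⟩ := exists_gam hn hγ hγ2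
  have hN : Nat.card Fˣ = p ^ f - 1 := by rw [Nat.card_units, Nat.card_eq_fintype_card, hF]
  rw [splitClassCount_eq (by omega) (gam h) _ (centralizer_gam hn h), ← hN]
  have hcp : CharP F p := charP_of_card_eq_prime_pow hF
  have hodd : Odd p → (2 : F) ≠ 0 := fun ho hz => by
    have h2 := CharTwo.of_one_ne_zero_of_two_eq_zero (one_ne_zero (α := F)) hz
    rw [CharP.eq F hcp h2] at ho
    exact absurd ho (by decide)
  have hiso := (setup (F := F) hn).iso (gam h) _ ⟨h, rfl, rfl⟩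
  refine ⟨?_, ?_, ?_⟩
  · rintro ⟨⟨m, hm⟩, ho, ⟨i⟩⟩
    obtain rfl : n = 2 * m := by omega
    rw [show 2 * m / 2 = m by omega] at i ⊢
    rcases hh.2 with hs | hs
    · obtain ⟨j⟩ := hiso
      exact absurd ⟨j.symm.trans i⟩ (not_iso_PGSp (hodd ho) hs hh.1 (by omega) (Fintype.card_fin _))
    · exact GraphIndex.index_skew (det_sim_skew (hodd ho) hh.1 hs rfl) rfl
  · rintro ⟨⟨m, hm⟩, ho, hno⟩
    obtain ⟨k, rfl⟩ : ∃ k, n = 2 * (k + 1) := ⟨m - 1, by omega⟩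
    rcases hh.2 with hs | hs
    · refine GraphIndex.index_symm (det_sim_symm (hodd ho) hh.1 hs rfl) rfl ?_
      rw [hN]
      obtain ⟨a, ha⟩ := ho.pow (n := f)
      exact ⟨a, by omega⟩
    · refine absurd ?_ hno
      obtain ⟨j, hj, hc⟩ := FormClass.congr_J hh.1 (FormClass.alt_of_skew (hodd ho) hs)
      rw [Fintype.card_fin] at hj
      rw [show 2 * (k + 1) / 2 = j by omega]
      exact (setup (F := F) hn).iso_of_congr ⟨h, rfl, rfl⟩ hc
  · intro hne
    refine GraphIndex.index_small (det_sim_small hh.1 ?_)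
    rcases Nat.even_or_odd n with he | he
    · refine Or.inr ?_
      rcases Nat.Prime.eq_two_or_odd' (Fact.out : p.Prime) with rfl | ho
      · assumption
      · exact absurd ⟨he, ho⟩ hne
    · exact Or.inl he

end Cfsg.Agent.H58.GraphPSL
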