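import Mathlib
import Cfsg.Agent.H58.SimIso

/-! Sums of squares over a finite field of odd order, as hyperbolic or elliptic forms. -/

set_option autoImplicit false

namespace Cfsg.Agent.H58.SumSquares

open Matrix

variable {F : Type*} [Field F]

/-- The sum of squares of the coordinates. -/
def sumSq {ι : Type} [Fintype ι] (v : ι → F) : F := ∑ i, v i ^ 2

theorem sumSq_sum {α β : Type} [Fintype α] [Fintype β] (v : α ⊕ β → F) :
    sumSq v = sumSq (fun a => v (.inl a)) + sumSq (fun b => v (.inr b)) := Fintype.sum_sum_type _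

theorem sumSq_comp {α β : Type} [Fintype α] [Fintype β] (e : α ≃ β) (v : β → F) :
    sumSq (fun a => v (e a)) = sumSq v := e.sum_comp fun b => v b ^ 2

theorem equiv_of_linear {ι κ : Type} [Fintype ι] [Fintype κ] {Q : (κ → F) → F} {l : F} (hl : l ≠ 0)
    (T : (κ → F) →ₗ[F] (ι → F)) (hT : ∀ x, sumSq (T x) = l * Q x)
    (hinj : ∀ x, (∀ y, Q (x + y) = Q x + Q y) → x = 0) (hcard : Fintype.card κ = Fintype.card ι) :
    ∃ E : (κ → F) ≃ₗ[F] (ι → F), ∀ x, sumSq (E x) = l * Q x := by
  have hi : Function.Injective T := by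
    rw [← LinearMap.ker_eq_bot, eq_bot_iff]
    intro x hx
    have hQ : Q x = 0 := by
      have := hT x
      rw [LinearMap.mem_ker.mp hx] at this
      exact (mul_eq_zero.mp (this.symm.trans (by simp [sumSq]))).resolve_left hl
    refine hinj x fun y => mul_left_cancel₀ hl ?_
    rw [hQ, zero_add, ← hT, ← hT, map_add, LinearMap.mem_ker.mp hx, zero_add]
  exact ⟨LinearEquiv.ofInjectiveOfFinrankEq T hi (by simp [hcard]), fun x => hT x⟩

theorem plus_nondeg (m : ℕ) (x : Fin m ⊕ Fin m → F)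
    (h : ∀ y, Cfsg.quadFormPlus m F (x + y) = Cfsg.quadFormPlus m F x + Cfsg.quadFormPlus m F y) : x = 0 := by
  have key : ∀ y : Fin m ⊕ Fin m → F, ∑ i, (x (.inl i) * y (.inr i) + y (.inl i) * x (.inr i)) = 0 := by
    intro y
    have hy := h y
    unfold Cfsg.quadFormPlus at hy
    simp only [Pi.add_apply, add_mul, mul_add, Finset.sum_add_distrib] at hy ⊢
    linear_combination hy
  funext s
  rcases s with i | i
  · simpa [Pi.single_apply] using key (Pi.single (.inr i) 1)
  · simpa [Pi.single_apply] using key (Pi.single (.inl i) 1)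

variable (h2 : (2 : F) ≠ 0)
include h2

theorem plus_of_sqrt {m : ℕ} {i : F} (hi : i * i = -1) :
    ∃ E : (Fin m ⊕ Fin m → F) ≃ₗ[F] (Fin m ⊕ Fin m → F),
      ∀ x, sumSq (E x) = (1 : F) * Cfsg.quadFormPlus m F x := by
  have h4 : (4 : F) ≠ 0 := by
    intro h; apply h2; have : (2 : F) * 2 = 0 := by rw [← h]; norm_num
    simpa using this
  refine equiv_of_linear one_ne_zero
    { toFun := fun x => Sum.elim (fun k => x (.inl k) + x (.inr k) / 4)
        (fun k => i * (x (.inl k) - x (.inr k) / 4))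
      map_add' := fun x y => by funext s; rcases s with k | k <;> simp <;> ring
      map_smul' := fun c x => by funext s; rcases s with k | k <;> simp <;> ring } ?_ (plus_nondeg m) rfl
  intro x
  rw [one_mul, sumSq_sum]
  simp only [sumSq, LinearMap.coe_mk, AddHom.coe_mk, Sum.elim_inl, Sum.elim_inr, Cfsg.quadFormPlus,
    ← Finset.sum_add_distrib]
  refine Finset.sum_congr rfl fun k _ => ?_
  rw [mul_pow, pow_two i, hi]
  field_simp
  ring

theorem plus_of_even [Fintype F] (j : ℕ) :
    ∃ E : (Fin (j + j) ⊕ Fin (j + j) → F) ≃ₗ[F] (Fin (j + j) ⊕ Fin (j + j) → F),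
      ∀ x, sumSq (E x) = (1 : F) * Cfsg.quadFormPlus (j + j) F x := by
  obtain ⟨p, hp⟩ := CharP.exists F
  haveI : Fact p.Prime := ⟨CharP.char_is_prime F p⟩
  obtain ⟨a₀, b₀, hab₀⟩ := CharP.sq_add_sq F p (-1)
  obtain ⟨a, b, hab⟩ : ∃ a b : F, a ^ 2 + b ^ 2 = -1 := ⟨a₀, b₀, by simpa using hab₀⟩
  have h4 : (4 : F) ≠ 0 := by
    intro h; apply h2; have : (2 : F) * 2 = 0 := by rw [← h]; norm_num
    simpa using this
  let S : (Fin (j + j) ⊕ Fin (j + j) → F) →ₗ[F] ((Fin j ⊕ Fin j) ⊕ (Fin j ⊕ Fin j) → F) :=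
    { toFun := fun x => Sum.elim
        (Sum.elim (fun k => x (.inl (Fin.castAdd j k)) + x (.inr (Fin.castAdd j k)) / 4)
          (fun k => x (.inl (Fin.natAdd j k)) + x (.inr (Fin.natAdd j k)) / 4))
        (Sum.elim (fun k => a * (x (.inl (Fin.castAdd j k)) - x (.inr (Fin.castAdd j k)) / 4)
            - b * (x (.inl (Fin.natAdd j k)) - x (.inr (Fin.natAdd j k)) / 4))
          (fun k => b * (x (.inl (Fin.castAdd j k)) - x (.inr (Fin.castAdd j k)) / 4)
            + a * (x (.inl (Fin.natAdd j k)) - x (.inr (Fin.natAdd j k)) / 4)))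
      map_add' := fun x y => by funext s; rcases s with (k | k) | (k | k) <;> simp <;> ring
      map_smul' := fun c x => by funext s; rcases s with (k | k) | (k | k) <;> simp <;> ring }
  let e : Fin (j + j) ⊕ Fin (j + j) ≃ (Fin j ⊕ Fin j) ⊕ (Fin j ⊕ Fin j) :=
    Equiv.sumCongr finSumFinEquiv.symm finSumFinEquiv.symm
  refine equiv_of_linear one_ne_zero ((LinearMap.funLeft F F e).comp S) ?_ (plus_nondeg _) rfl
  intro x
  rw [one_mul, show sumSq ((LinearMap.funLeft F F e).comp S x) = sumSq (S x) from sumSq_comp e (S x),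
    sumSq_sum, sumSq_sum, sumSq_sum]
  simp only [sumSq, S, LinearMap.coe_mk, AddHom.coe_mk, Sum.elim_inl, Sum.elim_inr, Cfsg.quadFormPlus,
    ← Finset.sum_add_distrib, Fin.sum_univ_add]
  refine Finset.sum_congr rfl fun k _ => ?_
  field_simp
  linear_combination ((4 * x (.inl (Fin.castAdd j k)) - x (.inr (Fin.castAdd j k))) ^ 2
    + (4 * x (.inl (Fin.natAdd j k)) - x (.inr (Fin.natAdd j k))) ^ 2) * hab

omit h2 in
theorem minus_of_plus {k : ℕ} (P : (Fin k ⊕ Fin k → F) ≃ₗ[F] (Fin k ⊕ Fin k → F))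
    (hP : ∀ x, sumSq (P x) = (1 : F) * Cfsg.quadFormPlus k F x)
    (hnd : ∀ z : Fin 2 → F, (∀ w : Fin 2 → F, sumSq (z + w) = sumSq z + sumSq w) → z = 0) :
    ∃ E : ((Fin k ⊕ Fin k) ⊕ Fin 2 → F) ≃ₗ[F] ((Fin k ⊕ Fin k) ⊕ Fin 2 → F),
      ∀ x, sumSq (E x) = (1 : F) * Cfsg.quadFormMinus k F 0 1 x := by
  have hz : ∀ z : Fin 2 → F, sumSq z = z 0 ^ 2 + 0 * z 0 * z 1 + 1 * z 1 ^ 2 := fun z => by
    simp [sumSq, Fin.sum_univ_two]
  refine equiv_of_linear one_ne_zero
    { toFun := fun x => Sum.elim (P fun s => x (.inl s)) (fun t => x (.inr t))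
      map_add' := fun x y => by
        funext s
        rcases s with s | s
        · exact congrFun (map_add P (fun s => x (.inl s)) (fun s => y (.inl s))) s
        · rfl
      map_smul' := fun c x => by
        funext s
        rcases s with s | s
        · exact congrFun (map_smul P c (fun s => x (.inl s))) s
        · rfl } ?_ ?_ rfl
  · intro x
    rw [sumSq_sum]
    simp only [LinearMap.coe_mk, AddHom.coe_mk, Sum.elim_inl, Sum.elim_inr]
    rw [hP, hz, one_mul, one_mul, one_mul]
    simp only [Cfsg.quadFormMinus, Cfsg.quadFormPlus, one_mul]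
  · intro x hx
    have h1 : (fun s => x (.inl s)) = 0 := plus_nondeg k _ fun y => by
      have e := hx (Sum.elim y fun _ => 0)
      simp only [Cfsg.quadFormMinus, Cfsg.quadFormPlus, Pi.add_apply, Sum.elim_inl, Sum.elim_inr] at e ⊢
      linear_combination e
    have h3 : (fun t => x (.inr t)) = 0 := hnd _ fun w => by
      have e := hx (Sum.elim 0 w)
      have hl : ∀ s, x (.inl s) = 0 := fun s => congrFun h1 s
      simp only [Cfsg.quadFormMinus, Pi.add_apply, Sum.elim_inl, Sum.elim_inr, hl, Pi.zero_apply, add_zero,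
        mul_zero, Finset.sum_const_zero, zero_add] at e
      rw [hz, hz, hz]
      exact e
    funext s
    rcases s with s | s
    · exact congrFun h1 s
    · exact congrFun h3 s

theorem sumSq_two_nondeg (z : Fin 2 → F) (h : ∀ w : Fin 2 → F, sumSq (z + w) = sumSq z + sumSq w) : z = 0 := by
  have key : ∀ w : Fin 2 → F, (2 : F) * (z 0 * w 0 + z 1 * w 1) = 0 := fun w => by
    have h1 := h w
    simp only [sumSq, Fin.sum_univ_two, Pi.add_apply] at h1
    linear_combination h1
  funext i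
  have h1 := (mul_eq_zero.mp (key (Pi.single i 1))).resolve_left h2
  fin_cases i <;> simpa using h1

end Cfsg.Agent.H58.SumSquares
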