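import Mathlib
import Cfsg.Agent.Unitary.AutCor
import Cfsg.Agent.H58.PSLCentralizer
import Cfsg.Agent.H58.HermCongr

/-!
# Field automorphisms of `PSU_n(q)`: cosets, centralisers, class splitting
-/

set_option autoImplicit false
set_option linter.unusedSectionVars false

namespace Cfsg.Agent.H58.UnitaryTwist

open Matrix Cfsg.Agent.H58.Twist Cfsg.Agent.H58.Descent Cfsg.Agent.Unitary
open Cfsg.Agent.H56 (glMap glMap_coe)

variable {F : Type*} [Field F] [Fintype F] {n q : ℕ}

theorem map_normProd {G H : Type*} [Group G] [Group H] (f : G →* H) (θ : G →* G) (θ' : H →* H)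
    (h : ∀ a, f (θ a) = θ' (f a)) (A : G) (k : ℕ) : f (normProd θ A k) = normProd θ' (f A) k := by
  induction k with
  | zero => exact map_one f
  | succ k ih => rw [normProd_succ, normProd_succ, map_mul, h, ih]

variable (hF : Fintype.card F = q ^ 2)
include hF

/-- `σ` acting entrywise on `GU`. -/
noncomputable def theta (σ : F ≃+* F) : Cfsg.GU n F q →* Cfsg.GU n F q :=
  MonoidHom.mk' (guMap hF σ) fun a b => Subtype.ext (Units.ext (by
    show gmat (guMap hF σ (a * b)) = gmat (guMap hF σ a) * gmat (guMap hF σ b)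
    rw [gmat_guMap, gmat_guMap, gmat_guMap,
      show gmat (a * b) = gmat a * gmat b from rfl, Matrix.map_mul]))

theorem coe_theta (σ : F ≃+* F) (A : Cfsg.GU n F q) : (theta hF σ A : GL (Fin n) F) = glMap σ (A : GL (Fin n) F) :=
  Units.ext (by rw [glMap_coe]; exact gmat_guMap hF σ A)

theorem field_conj (σ : F ≃+* F) (A : Cfsg.GU n F q) :
    semiAut (1 : Cfsg.GU n F q) σ * diagHom hF A * (semiAut 1 σ)⁻¹ = diagHom hF (theta hF σ A) := by
  rw [mul_inv_eq_iff_eq_mul, diagHom_apply, diagHom_apply, semiAut_mul hF, semiAut_mul hF, one_mul, guMap_refl hF,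
    mul_one]
  rfl

/-- The standard field automorphisms form a group. -/
noncomputable def fieldHom : (F ≃+* F) →* MulAut (Cfsg.PSU n F q) where
  toFun σ := semiAut 1 σ
  map_one' := semiAut_one
  map_mul' σ τ := by rw [semiAut_mul hF, guMap_one hF, one_mul]; rfl

theorem field_pow (σ : F ≃+* F) (k : ℕ) : semiAut (1 : Cfsg.GU n F q) σ ^ k = semiAut 1 (σ ^ k) :=
  (map_pow (fieldHom hF) σ k).symm

theorem orderOf_field (hn : 3 ≤ n) (σ : F ≃+* F) : orderOf (semiAut (1 : Cfsg.GU n F q) σ) = orderOf σ :=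
  orderOf_injective (fieldHom hF) (fun _ _ h => semiAut_inj_field hF hn h) σ

theorem norm_of_scalar (hn : 0 < n) {A : Cfsg.GU n F q} {c : Fˣ}
    (hA : (A : GL (Fin n) F) = GeneralLinearGroup.scalar (Fin n) c) : (c : F) * (c : F) ^ q = 1 := by
  have h := congrArg (fun M : Matrix (Fin n) (Fin n) F => M ⟨0, hn⟩ ⟨0, hn⟩)
    ((preserves_iff_transpose_mul hF).1 A.2)
  rw [Units.coeHom_apply, show ((A : GL (Fin n) F) : Matrix (Fin n) (Fin n) F) = _ from congrArg Units.val hA] at h
  simpa [Matrix.mul_apply, Matrix.scalar_apply, Matrix.diagonal_apply, apply_ite (fun x : F => x ^ q),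
    zero_pow (q_ne_zero hF)] using h

theorem scalar_mem_GU {c : Fˣ} (hc : (c : F) * (c : F) ^ q = 1) :
    GeneralLinearGroup.scalar (Fin n) c ∈ Cfsg.GU n F q := by
  rw [mem_GU_iff, GeneralLinearGroup.coe_scalar, Matrix.scalar_apply, ← Matrix.smul_one_eq_diagonal]
  exact preserves_smul_one hc

theorem diag_eq_one_iff (hn : 3 ≤ n) (A : Cfsg.GU n F q) :
    diagHom hF A = 1 ↔ ∃ c : Fˣ, (A : GL (Fin n) F) = GeneralLinearGroup.scalar (Fin n) c := by
  rw [diagHom_apply]
  constructor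
  · intro h
    obtain ⟨-, c, hc⟩ := eq_of_semiAut_eq_one hF hn h
    have hM : gmat A = c • (1 : Matrix (Fin n) (Fin n) F) := Matrix.ext_iff_mulVec.2 fun x => by
      rw [smul_mulVec, one_mulVec]; exact hc x
    have hc0 : c ≠ 0 := fun h0 => by
      haveI : Nonempty (Fin n) := ⟨⟨0, by omega⟩⟩
      exact GeneralLinearGroup.det_ne_zero (A : GL (Fin n) F) (by
        show (gmat A).det = 0
        rw [hM, h0, zero_smul, Matrix.det_zero])
    exact ⟨Units.mk0 c hc0, Units.ext (by
      rw [GeneralLinearGroup.coe_scalar, Matrix.scalar_apply, ← Matrix.smul_one_eq_diagonal]; exact hM)⟩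
  · rintro ⟨c, hc⟩
    refine semiAut_scalar (c := (c : F)) fun x => ?_
    show ((A : GL (Fin n) F) : Matrix (Fin n) (Fin n) F) *ᵥ x = _
    rw [hc, GeneralLinearGroup.coe_scalar, Matrix.scalar_apply, ← Matrix.smul_one_eq_diagonal, smul_mulVec,
      one_mulVec]

theorem diag_eq_iff (hn : 3 ≤ n) (A B : Cfsg.GU n F q) :
    diagHom hF A = diagHom hF B ↔
      ∃ c : Fˣ, (A : GL (Fin n) F) = GeneralLinearGroup.scalar (Fin n) c * (B : GL (Fin n) F) := by
  rw [← mul_inv_eq_one, ← map_inv, ← map_mul, diag_eq_one_iff hF hn, Subgroup.coe_mul, Subgroup.coe_inv]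
  simp only [mul_inv_eq_iff_eq_mul]

theorem gu_transpose_mul (A : Cfsg.GU n F q) :
    ((A : GL (Fin n) F) : Matrix (Fin n) (Fin n) F)ᵀ *
      ((A : GL (Fin n) F) : Matrix (Fin n) (Fin n) F).map (fun x => x ^ q) = 1 :=
  (preserves_iff_transpose_mul hF).1 A.2

section Sub

variable {F₀ : Type*} [Field F₀] [Fintype F₀] {q₀ : ℕ} (hF₀ : Fintype.card F₀ = q₀ ^ 2) (e : F₀ →+* F)
  (hpow : ∀ x, e x ^ q = e (x ^ q₀))

omit hF in
include hF₀ in
theorem hpow_of_odd {r : ℕ} (hr : Odd r) (hq : q = q₀ ^ r) (x : F₀) : e x ^ q = e (x ^ q₀) := by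
  obtain ⟨k, rfl⟩ := hr
  have h : ∀ k, x ^ (q₀ ^ (2 * k + 1)) = x ^ q₀ := by
    intro k
    induction k with
    | zero => simp
    | succ k ih =>
      rw [show 2 * (k + 1) + 1 = (2 * k + 1) + 2 by ring, pow_add, pow_mul, ih, ← pow_mul, mul_comm, pow_mul,
        ← hF₀, FiniteField.pow_card]
  rw [hq, ← map_pow, h k]

include hF hF₀ hpow in
theorem map_mem_GU (g : Cfsg.GU n F₀ q₀) : GeneralLinearGroup.map e (g : GL (Fin n) F₀) ∈ Cfsg.GU n F q := by
  rw [mem_GU_iff, preserves_iff_transpose_mul hF]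
  have h := congrArg (fun M : Matrix (Fin n) (Fin n) F₀ => M.map e) (gu_transpose_mul hF₀ g)
  simp only [Matrix.map_mul, Matrix.transpose_map, Matrix.map_map, Function.comp_def, map_zero, map_one,
    Matrix.map_one] at h
  show (((g : GL (Fin n) F₀) : Matrix (Fin n) (Fin n) F₀).map e)ᵀ
    * (((g : GL (Fin n) F₀) : Matrix (Fin n) (Fin n) F₀).map e).map (fun x => x ^ q) = 1
  rw [Matrix.map_map]
  simpa only [Function.comp_def, hpow] using h

/-- `GU_n(q₀) → GU_n(q)`. -/
noncomputable def psi : Cfsg.GU n F₀ q₀ →* Cfsg.GU n F q :=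
  ((GeneralLinearGroup.map e).comp (Cfsg.GU n F₀ q₀).subtype).codRestrict _ (map_mem_GU hF hF₀ e hpow)

theorem coe_psi (g : Cfsg.GU n F₀ q₀) :
    (psi hF hF₀ e hpow g : GL (Fin n) F) = GeneralLinearGroup.map e (g : GL (Fin n) F₀) := rfl

variable {σ : F ≃+* F} (he : ∀ x, σ (e x) = e x) (he' : ∀ a, σ a = a → ∃ x, e x = a)

include he he' in
theorem mem_range_psi (A : Cfsg.GU n F q) :
    A ∈ (psi hF hF₀ e hpow).range ↔ glMap σ (A : GL (Fin n) F) = (A : GL (Fin n) F) := by
  rw [← PSLCentralizer.mem_range_map_iff e he he']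
  constructor
  · rintro ⟨g, rfl⟩
    exact ⟨g, rfl⟩
  · rintro ⟨g, hg⟩
    have hg' : g ∈ Cfsg.GU n F₀ q₀ := by
      rw [mem_GU_iff, preserves_iff_transpose_mul hF₀]
      refine Matrix.map_injective e.injective ?_
      show (_ * _ : Matrix (Fin n) (Fin n) F₀).map e = (1 : Matrix (Fin n) (Fin n) F₀).map e
      rw [Matrix.map_mul, Matrix.transpose_map, Matrix.map_map, Matrix.map_one _ (map_zero e) (map_one e)]
      have h := gu_transpose_mul hF A
      rw [← hg] at h
      change ((g : Matrix (Fin n) (Fin n) F₀).map e)ᵀ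
        * ((g : Matrix (Fin n) (Fin n) F₀).map e).map (fun x => x ^ q) = 1 at h
      rw [Matrix.map_map] at h
      simpa only [Function.comp_def, hpow] using h
    exact ⟨⟨g, hg'⟩, Subtype.ext hg⟩

include hF hF₀ hpow he he' in
/-- Semilinear descent inside `GU`. -/
theorem descent_GU {A : Cfsg.GU n F q} (hA : normProd (glMap σ) (A : GL (Fin n) F) (orderOf σ) = 1) :
    ∃ B : Cfsg.GU n F q, A = B * theta hF σ B⁻¹ := by
  obtain ⟨B, hB⟩ := descent σ hA
  have hB' : ((A : GL (Fin n) F) : Matrix (Fin n) (Fin n) F) * (B : Matrix (Fin n) (Fin n) F).map σ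
      = (B : Matrix (Fin n) (Fin n) F) := by
    rw [← glMap_coe, ← Units.val_mul, hB, map_inv, inv_mul_cancel_right]
  have hστ : ∀ x : F, σ x ^ q = σ (x ^ q) := fun x => (map_pow σ x q).symm
  set M : Matrix (Fin n) (Fin n) F := (B : Matrix (Fin n) (Fin n) F) with hM
  set H : Matrix (Fin n) (Fin n) F := Mᵀ * M.map (fun x => x ^ q) with hH
  have hHfix : ∀ i j, σ (H i j) = H i j := by
    have h1 : H.map σ = H := by
      have e1 : (M.map σ).map (fun x => x ^ q) = (M.map (fun x => x ^ q)).map σ := by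
        rw [Matrix.map_map, Matrix.map_map]; exact Matrix.ext fun i j => hστ _
      rw [hH, Matrix.map_mul, Matrix.transpose_map, ← e1]
      conv_rhs => rw [← hB']
      rw [Matrix.transpose_mul, show ∀ X Y : Matrix (Fin n) (Fin n) F, (X * Y).map (fun x => x ^ q)
          = X.map (fun x => x ^ q) * Y.map (fun x => x ^ q) from fun X Y => Matrix.map_mul (f := (frob hF : F →+* F)),
        Matrix.mul_assoc, ← Matrix.mul_assoc _ (Matrix.map _ (fun x => x ^ q)), gu_transpose_mul hF A, Matrix.one_mul]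
    exact fun i j => congrFun (congrFun h1 i) j
  choose b hb using fun i j => he' _ (hHfix i j)
  let H₀ : Matrix (Fin n) (Fin n) F₀ := Matrix.of b
  have hH₀ : H₀.map e = H := Matrix.ext hb
  have hdet : H₀.det ≠ 0 := by
    intro h0
    have h1 : e H₀.det = H.det := by rw [e.map_det, RingHom.mapMatrix_apply, hH₀]
    rw [h0, map_zero, hH, det_mul, det_transpose] at h1
    rcases mul_eq_zero.1 h1.symm with h2 | h2
    · exact GeneralLinearGroup.det_ne_zero B h2
    · exact GeneralLinearGroup.det_ne_zero B ((pow_q_eq_zero_iff hF).1 (((frob hF).map_det M).trans h2))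
  have hherm : (H₀.map (fun x => x ^ q₀))ᵀ = H₀ := by
    refine Matrix.map_injective e.injective ?_
    show (H₀.map fun x => x ^ q₀)ᵀ.map e = H₀.map e
    ext i j
    rw [Matrix.map_apply, Matrix.map_apply, Matrix.transpose_apply, Matrix.map_apply, show e (H₀ i j) = H i j from hb i j, ← hpow,
      show e (H₀ j i) = H j i from hb j i, hH, Matrix.mul_apply, Matrix.mul_apply, sum_pow_q hF]
    refine Finset.sum_congr rfl fun l _ => ?_
    simp only [Matrix.transpose_apply, Matrix.map_apply, mul_pow, pow_q_q hF]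
    exact mul_comm _ _
  have hne : ∃ x : F₀, frob hF₀ x ≠ x := by
    obtain ⟨a, ha0, ha⟩ := exists_skew hF₀
    obtain ⟨b, hb⟩ := exists_trace_ne_zero hF₀
    by_contra hcon
    push Not at hcon
    have h1 := hcon a
    rw [frob_apply, ha] at h1
    have h2 := hcon 1
    have h3 : (2 : F₀) * a = 0 := by linear_combination -h1
    rcases mul_eq_zero.1 h3 with h4 | h4
    · apply hb
      have h5 := hcon b
      rw [frob_apply] at h5
      rw [h5]; linear_combination b * h4
    · exact ha0 h4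
  obtain ⟨C₀, hC₀⟩ := HermCongr.exists_congr_one (σ := frob hF₀) (fun x => pow_q_q hF₀ x) hne
    (fun a ha => exists_norm_eq hF₀ ha) (GeneralLinearGroup.mkOfDetNeZero H₀ hdet) hherm
  set N₀ : Matrix (Fin n) (Fin n) F₀ := (C₀ : Matrix (Fin n) (Fin n) F₀)ᵀ with hN₀
  have hN : H₀ = N₀ᵀ * N₀.map (fun x => x ^ q₀) := by
    rw [hN₀, Matrix.transpose_transpose, Matrix.transpose_map]
    exact hC₀
  have hN₀d : N₀.det ≠ 0 := by rw [hN₀, det_transpose]; exact GeneralLinearGroup.det_ne_zero C₀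
  let C : GL (Fin n) F := GeneralLinearGroup.map e (GeneralLinearGroup.mkOfDetNeZero N₀ hN₀d)
  have hC : H = (C : Matrix (Fin n) (Fin n) F)ᵀ * (C : Matrix (Fin n) (Fin n) F).map (fun x => x ^ q) := by
    rw [← hH₀, hN, Matrix.map_mul, Matrix.transpose_map, Matrix.map_map]
    show _ = (N₀.map e)ᵀ * (N₀.map e).map _
    rw [Matrix.map_map]
    congr 1
    ext i j
    exact (hpow _).symm
  have hCfix : glMap σ C = C := Units.ext (Matrix.ext fun i j => he _)
  have hBC : B * C⁻¹ ∈ Cfsg.GU n F q := by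
    rw [mem_GU_iff, preserves_iff_transpose_mul hF, Units.val_mul, Matrix.transpose_mul,
      show ∀ X Y : Matrix (Fin n) (Fin n) F, (X * Y).map (fun x => x ^ q)
        = X.map (fun x => x ^ q) * Y.map (fun x => x ^ q) from fun X Y => Matrix.map_mul (f := (frob hF : F →+* F)),
      Matrix.mul_assoc, ← Matrix.mul_assoc _ (Matrix.map M _), ← hH, hC]
    set P : Matrix (Fin n) (Fin n) F := (C : Matrix (Fin n) (Fin n) F)
    set P' : Matrix (Fin n) (Fin n) F := ((C⁻¹ : GL (Fin n) F) : Matrix (Fin n) (Fin n) F) with hP'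
    have hPP : P * P' = 1 := by rw [hP', ← Units.val_mul, mul_inv_cancel, Units.val_one]
    have h1 : P'ᵀ * Pᵀ = 1 := by rw [← Matrix.transpose_mul, hPP, Matrix.transpose_one]
    have h2 : P.map (fun x => x ^ q) * P'.map (fun x => x ^ q) = 1 := by
      rw [show P.map (fun x => x ^ q) * P'.map (fun x => x ^ q) = (P * P').map (fun x => x ^ q) from
        (Matrix.map_mul (f := (frob hF : F →+* F))).symm, hPP]
      exact Matrix.map_one _ (zero_pow (q_ne_zero hF)) (one_pow q)
    simp only [← Matrix.mul_assoc, h1, Matrix.one_mul]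
    exact h2
  refine ⟨⟨B * C⁻¹, hBC⟩, Subtype.ext ?_⟩
  rw [Subgroup.coe_mul, coe_theta, Subgroup.coe_inv, _root_.mul_inv_rev, inv_inv, map_mul, hCfix, hB]
  group

include hF hF₀ hpow he he' in
/-- In `Inndiag·φ` the elements of order dividing `orderOf σ` are `Inndiag`-conjugates of `φ`. -/
theorem field_coset (hn : 3 ≤ n) (hodd : Odd (orderOf σ)) (A : Cfsg.GU n F q)
    (h : (diagHom hF A * semiAut 1 σ) ^ orderOf σ = 1) :
    ∃ B : Cfsg.GU n F q, diagHom hF A * semiAut 1 σ = diagHom hF B * semiAut 1 σ * (diagHom hF B)⁻¹ := by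
  rw [mul_pow_eq (diagHom hF) (theta hF σ) _ (field_conj hF σ), field_pow hF, pow_orderOf_eq_one,
    show semiAut (1 : Cfsg.GU n F q) (1 : F ≃+* F) = 1 from semiAut_one, mul_one, diag_eq_one_iff hF hn] at h
  obtain ⟨c, hc⟩ := h
  have hcU : (c : F) * (c : F) ^ q = 1 := norm_of_scalar hF (by omega) hc
  have hmap := map_normProd (Cfsg.GU n F q).subtype (theta hF σ) (glMap σ) (coe_theta hF σ) A (orderOf σ)
  rw [Subgroup.subtype_apply, hc, Subgroup.subtype_apply] at hmap
  have hfix : umap σ c = c := by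
    have e1 := normProd_succ (glMap σ) (A : GL (Fin n) F) (orderOf σ)
    rw [normProd_succ', ← hmap, glMap_scalar,
      show (glMap σ)^[orderOf σ] (A : GL (Fin n) F) = A from Units.ext (by
        rw [glMap_iterate, pow_orderOf_eq_one]; exact Matrix.map_id _),
      ← GeneralLinearGroup.scalar_commute (umap σ c) (A : GL (Fin n) F)] at e1
    exact (PSLTwist.scalar_inj (by omega) (mul_right_cancel e1)).symm
  -- a norm-one `d` with `N d = c⁻¹`
  let f : Fˣ →* Fˣ := powMonoidHom (q - 1)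
  obtain ⟨d₀, hd₀⟩ := exists_normProd_eq σ (c := c) (by rw [← umap_coe, hfix])
  have hU : c ^ (q + 1) = 1 := Units.ext (by rw [Units.val_pow_eq_pow_val, pow_succ', Units.val_one, hcU])
  have hq1 : 1 ≤ q := q_pos hF
  have hcomm : ∀ a, f (umap σ a) = umap σ (f a) := fun a => (map_pow (umap σ) a (q - 1)).symm
  obtain ⟨k, hk⟩ := hodd
  let d : Fˣ := (c * (d₀ ^ (q - 1)) ^ k)⁻¹
  have hNpow : ∀ (a : Fˣ) (j : ℕ), normProd (umap σ) (a ^ j) (orderOf σ) = normProd (umap σ) a (orderOf σ) ^ j :=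
    fun a j => (map_normProd (powMonoidHom j : Fˣ →* Fˣ) (umap σ) (umap σ) (fun b => (map_pow (umap σ) b j).symm)
      a (orderOf σ)).symm
  have hNc : normProd (umap σ) c (orderOf σ) = c ^ orderOf σ := by
    have : ∀ j, normProd (umap σ) c j = c ^ j := by
      intro j
      induction j with
      | zero => rw [pow_zero]; rfl
      | succ j ih => rw [normProd_succ, ih, map_pow, hfix, pow_succ']
    exact this _
  have hNmul : ∀ a b : Fˣ, normProd (umap σ) (a * b) (orderOf σ)
      = normProd (umap σ) a (orderOf σ) * normProd (umap σ) b (orderOf σ) :=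
    fun a b => (normProd_mul_of_central (umap σ) a b (fun _ => Subgroup.mem_center_iff.2 fun g => mul_comm _ _) _).1
  have hNinv : ∀ a : Fˣ, normProd (umap σ) a⁻¹ (orderOf σ) = (normProd (umap σ) a (orderOf σ))⁻¹ := fun a =>
    eq_inv_of_mul_eq_one_left (by
      rw [← hNmul, inv_mul_cancel]
      have : ∀ j, normProd (umap σ) (1 : Fˣ) j = 1 := fun j => by
        induction j with
        | zero => rfl
        | succ j ih => rw [normProd_succ, ih, map_one, one_mul]
      exact this _)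
  have hNd : normProd (umap σ) d (orderOf σ) = c⁻¹ := by
    rw [hNinv, hNmul, hNpow, hNpow, hd₀, hNc, hk, _root_.inv_inj]
    have h2 : c ^ (q - 1) * c ^ 2 = 1 := by rw [← pow_add, show q - 1 + 2 = q + 1 by omega, hU]
    rw [pow_succ, pow_mul, mul_comm (_ ^ k) c, mul_assoc, ← mul_pow, mul_comm _ (c ^ (q - 1)), h2, one_pow, mul_one]
  have hdU : (d : F) * (d : F) ^ q = 1 := by
    have h1 : d ^ (q + 1) = 1 := by
      rw [inv_pow, inv_eq_one, mul_pow, hU, one_mul, ← pow_mul, ← pow_mul]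
      refine (congrArg (d₀ ^ ·) ?_).trans ((pow_mul d₀ ((q + 1) * (q - 1)) k).trans ?_)
      · ring
      · rw [← card_units hF, pow_card_eq_one', one_pow]
    have h2 := congrArg Units.val h1
    rwa [Units.val_pow_eq_pow_val, pow_succ', Units.val_one] at h2
  let S : Cfsg.GU n F q := ⟨GeneralLinearGroup.scalar (Fin n) d, scalar_mem_GU hF hdU⟩
  have hN : normProd (glMap σ) ((S * A : Cfsg.GU n F q) : GL (Fin n) F) (orderOf σ) = 1 := by
    rw [Subgroup.coe_mul, normProd_scalar_mul, hNd, ← hmap, ← map_mul, inv_mul_cancel, map_one]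
  obtain ⟨B, hB⟩ := descent_GU hF hF₀ e hpow he he' hN
  refine ⟨B, ?_⟩
  rw [conj_eq (diagHom hF) (theta hF σ) _ (field_conj hF σ), ← hB, map_mul,
    (diag_eq_one_iff hF hn S).2 ⟨d, rfl⟩, one_mul]

include hF hF₀ hpow he he' in
theorem field_centralizer (hn : 3 ≤ n) :
    Cfsg.inndiagPSU n F q ⊓ Subgroup.centralizer {semiAut (1 : Cfsg.GU n F q) σ}
      = ((diagHom hF).comp (psi hF hF₀ e hpow)).range := by
  rw [inndiagPSU_eq hF]
  ext y
  constructor
  · rintro ⟨⟨A, rfl⟩, hy⟩
    obtain ⟨c, hc⟩ := (diag_eq_iff hF hn _ _).1 ((commutes_iff (diagHom hF) (theta hF σ) _ (field_conj hF σ) A).1 hy)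
    rw [coe_theta] at hc
    obtain ⟨b, hb⟩ := exists_scalar_fixed σ (by omega) hc
    have hb' : glMap σ (GeneralLinearGroup.scalar (Fin n) b * (A : GL (Fin n) F))
        = GeneralLinearGroup.scalar (Fin n) b * (A : GL (Fin n) F) := hb
    obtain ⟨g, hg⟩ := (PSLCentralizer.mem_range_map_iff e he he' _).2 hb'
    -- adjust the scalar to norm one
    have hnorm : ((g : Matrix (Fin n) (Fin n) F₀).map e)ᵀ * ((g : Matrix (Fin n) (Fin n) F₀).map e).map (fun x => x ^ q)
        = ((b : F) * (b : F) ^ q) • (1 : Matrix (Fin n) (Fin n) F) := by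
      have h1 : (g : Matrix (Fin n) (Fin n) F₀).map e = (b : F) • ((A : GL (Fin n) F) : Matrix (Fin n) (Fin n) F) := by
        have h2 := congrArg Units.val hg
        rw [Units.val_mul, GeneralLinearGroup.coe_scalar, Matrix.scalar_apply, ← Matrix.smul_one_eq_diagonal,
          Matrix.smul_mul, Matrix.one_mul] at h2
        exact h2
      rw [h1, Matrix.transpose_smul, Matrix.smul_mul,
        show ((b : F) • ((A : GL (Fin n) F) : Matrix (Fin n) (Fin n) F)).map (fun x => x ^ q)
          = (b : F) ^ q • ((A : GL (Fin n) F) : Matrix (Fin n) (Fin n) F).map (fun x => x ^ q) from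
          Matrix.ext fun i j => mul_pow _ _ q,
        Matrix.mul_smul, smul_smul, gu_transpose_mul hF A]
    have hn0 : 0 < n := by omega
    have hentry := congrArg (fun M : Matrix (Fin n) (Fin n) F => M ⟨0, hn0⟩ ⟨0, hn0⟩) hnorm
    simp only [Matrix.mul_apply, Matrix.transpose_apply, Matrix.map_apply, Matrix.smul_apply, Matrix.one_apply_eq,
      smul_eq_mul, mul_one, hpow, ← map_mul, ← map_sum] at hentry
    obtain ⟨t, ht⟩ : ∃ t : F₀, e t = (b : F) * (b : F) ^ q := ⟨_, hentry⟩
    have htq : t ^ q₀ = t := e.injective (by rw [← hpow, ht, norm_pow_q hF])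
    obtain ⟨s, hs⟩ := exists_norm_eq hF₀ htq
    have hs0 : s ≠ 0 := fun h => (mul_ne_zero b.ne_zero (pow_ne_zero q b.ne_zero)) (by
      rw [← ht, ← hs, h, zero_mul, map_zero])
    let u : Fˣ := b * (Units.map e.toMonoidHom (Units.mk0 s hs0))⁻¹
    have hu : (u : F) * (u : F) ^ q = 1 := by
      have hes : e s * e s ^ q = (b : F) * (b : F) ^ q := by rw [hpow, ← map_mul, hs, ht]
      simp only [u, Units.val_mul, Units.val_inv_eq_inv_val, Units.coe_map, Units.val_mk0, RingHom.toMonoidHom_eq_coe,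
        MonoidHom.coe_coe]
      rw [mul_pow, mul_mul_mul_comm, inv_pow, ← mul_inv, hes,
        mul_inv_cancel₀ (mul_ne_zero b.ne_zero (pow_ne_zero q b.ne_zero))]
    let S : Cfsg.GU n F q := ⟨GeneralLinearGroup.scalar (Fin n) u, scalar_mem_GU hF hu⟩
    have hS : glMap σ ((S * A : Cfsg.GU n F q) : GL (Fin n) F) = ((S * A : Cfsg.GU n F q) : GL (Fin n) F) := by
      have hsplit : ((S * A : Cfsg.GU n F q) : GL (Fin n) F)
          = GeneralLinearGroup.scalar (Fin n) (Units.map e.toMonoidHom (Units.mk0 s hs0))⁻¹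
            * (GeneralLinearGroup.scalar (Fin n) b * (A : GL (Fin n) F)) := by
        rw [← mul_assoc, ← map_mul, mul_comm]; rfl
      rw [hsplit, map_mul, hb', glMap_scalar]
      congr 2
      rw [map_inv, _root_.inv_inj]
      exact Units.ext (he s)
    obtain ⟨g', hg'⟩ := (mem_range_psi hF hF₀ e hpow he he' _).2 hS
    refine ⟨g', ?_⟩
    rw [MonoidHom.comp_apply, hg', map_mul, (diag_eq_one_iff hF hn S).2 ⟨u, rfl⟩, one_mul]
  · rintro ⟨g, rfl⟩
    refine ⟨⟨_, rfl⟩, (commutes_iff (diagHom hF) (theta hF σ) _ (field_conj hF σ) _).2 (congrArg _ (Subtype.ext ?_))⟩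
    rw [coe_theta]
    exact (mem_range_psi hF hF₀ e hpow he he' _).1 ⟨g, rfl⟩

include hF hF₀ hpow he he' in
theorem field_centralizer_iso (hn : 3 ≤ n) :
    Nonempty (↥(Cfsg.inndiagPSU n F q ⊓ Subgroup.centralizer {semiAut (1 : Cfsg.GU n F q) σ})
      ≃* Cfsg.PGU n F₀ q₀) := by
  rw [field_centralizer hF hF₀ e hpow he he' hn]
  refine ⟨(QuotientGroup.quotientKerEquivRange _).symm.trans (QuotientGroup.quotientMulEquivOfEq ?_)⟩
  ext B
  rw [MonoidHom.mem_ker, MonoidHom.comp_apply, diag_eq_one_iff hF hn, coe_psi, Subgroup.mem_subgroupOf]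
  constructor
  · rintro ⟨c, hc⟩
    have hentry : ∀ i j, e (((B : GL (Fin n) F₀) : Matrix (Fin n) (Fin n) F₀) i j) = if i = j then (c : F) else 0 := by
      intro i j
      have := congrArg (fun M : GL (Fin n) F => (M : Matrix (Fin n) (Fin n) F) i j) hc
      rw [GeneralLinearGroup.coe_scalar, Matrix.scalar_apply, Matrix.diagonal_apply] at this
      exact this
    let i₀ : Fin n := ⟨0, by omega⟩
    have hd : ((B : GL (Fin n) F₀) : Matrix (Fin n) (Fin n) F₀) i₀ i₀ ≠ 0 := fun h0 => by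
      have := hentry i₀ i₀
      rw [h0, map_zero, if_pos rfl] at this
      exact c.ne_zero this.symm
    refine ⟨Units.mk0 _ hd, Units.ext (Matrix.ext fun i j => e.injective ?_)⟩
    show e (Matrix.scalar (Fin n) (((B : GL (Fin n) F₀) : Matrix (Fin n) (Fin n) F₀) i₀ i₀) i j) = _
    rw [Matrix.scalar_apply, Matrix.diagonal_apply, hentry, apply_ite e, map_zero,
      hentry, if_pos rfl]
  · rintro ⟨d, hd⟩
    refine ⟨Units.map e.toMonoidHom d, ?_⟩
    rw [← hd]
    exact GeneralLinearGroup.map_scalar e d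

end Sub

/-- The determinant into the norm-one group. -/
noncomputable def detU : Cfsg.GU n F q →* (powMonoidHom (q + 1) : Fˣ →* Fˣ).ker :=
  (GeneralLinearGroup.det.comp (Cfsg.GU n F q).subtype).codRestrict _ fun g => by
    rw [MonoidHom.mem_ker, powMonoidHom_apply]
    refine Units.ext ?_
    rw [Units.val_pow_eq_pow_val, pow_succ', Units.val_one]
    exact (show Preserves q ((g : GL (Fin n) F) : Matrix (Fin n) (Fin n) F) from g.2).det_norm hF

theorem detU_coe (g : Cfsg.GU n F q) :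
    (((detU hF g) : Fˣ) : F) = ((g : GL (Fin n) F) : Matrix (Fin n) (Fin n) F).det := rfl

theorem detU_surjective (hn : 0 < n) : Function.Surjective (detU (n := n) hF) := by
  intro c
  have hc : ((c : Fˣ) : F) * ((c : Fˣ) : F) ^ q = 1 := by
    have := congrArg Units.val (MonoidHom.mem_ker.1 c.2)
    simpa [pow_succ'] using this
  have hM : Preserves q (Matrix.diagonal (Pi.mulSingle (⟨0, hn⟩ : Fin n) (((c : Fˣ) : F)))) := by
    rw [preserves_iff_transpose_mul hF, Matrix.diagonal_transpose, Matrix.diagonal_map (f := fun x : F => x ^ q) (zero_pow (q_ne_zero hF)),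
      Matrix.diagonal_mul_diagonal, ← Matrix.diagonal_one]
    congr 1
    funext i
    by_cases h : i = ⟨0, hn⟩
    · subst h; simpa [Function.comp_apply] using hc
    · simp [h]
  refine ⟨toGU hF hM, Subtype.ext (Units.ext ?_)⟩
  rw [detU_coe, coe_toGU, Matrix.det_diagonal, Fintype.prod_pi_mulSingle']

theorem Inn_eq_map (hn : 0 < n) : Cfsg.Inn (Cfsg.PSU n F q) = (detU (n := n) hF).ker.map (diagHom hF) := by
  apply le_antisymm
  · rintro _ ⟨x, rfl⟩
    obtain ⟨a, rfl⟩ := toPSU_surjective x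
    refine ⟨suGU hF a, MonoidHom.mem_ker.2 (Subtype.ext (Units.ext ?_)), semiAut_suGU hF a⟩
    rw [detU_coe, suGU, coe_toGU]
    exact (a : Matrix.SpecialLinearGroup (Fin n) F).2
  · rintro _ ⟨g, hg, rfl⟩
    have hdet : (gmat g).det = 1 := congrArg (fun u : (powMonoidHom (q + 1) : Fˣ →* Fˣ).ker => ((u : Fˣ) : F)) (MonoidHom.mem_ker.1 hg)
    refine ⟨toPSU (toSU g.2 hdet), (semiAut_suGU hF (toSU g.2 hdet)).symm.trans ?_⟩
    rw [diagHom_apply]
    congr 1
    exact Subtype.ext (Units.ext (coe_toGU hF _))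

section Count

variable {F₀ : Type*} [Field F₀] [Fintype F₀] {q₀ : ℕ} (hF₀ : Fintype.card F₀ = q₀ ^ 2) (e : F₀ →+* F)
  (hpow : ∀ x, e x ^ q = e (x ^ q₀)) {σ : F ≃+* F} (he : ∀ x, σ (e x) = e x) (he' : ∀ a, σ a = a → ∃ x, e x = a)

include hF hF₀ hpow he he' in
theorem splitClassCount_field (hn : 3 ≤ n) {m : ℕ} (hm : q + 1 = (q₀ + 1) * m) :
    Cfsg.splitClassCount (Cfsg.inndiagPSU n F q) (Cfsg.Inn (Cfsg.PSU n F q)) (semiAut (1 : Cfsg.GU n F q) σ)
      = Nat.gcd n m := by
  haveI : (Cfsg.Inn (Cfsg.PSU n F q)).Normal := Cfsg.Agent.H58.PSLTwist.Inn_normal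
  have hle : Cfsg.Inn (Cfsg.PSU n F q) ≤ Cfsg.inndiagPSU n F q := by
    rw [inndiagPSU_eq hF, Inn_eq_map hF (by omega)]
    exact MonoidHom.range_eq_map (diagHom (n := n) hF) ▸ Subgroup.map_mono le_top
  rw [splitClassCount_eq_relIndex hle, field_centralizer hF hF₀ e hpow he he' hn, Inn_eq_map hF (by omega),
    ← MonoidHom.map_range, ← Subgroup.map_sup, inndiagPSU_eq hF, MonoidHom.range_eq_map (diagHom hF),
    Subgroup.relIndex_map_map, top_sup_eq, Subgroup.relIndex_top_right]
  set N := (detU (n := n) hF).ker ⊔ (psi hF hF₀ e hpow).range ⊔ (diagHom (n := n) hF).ker with hN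
  have h := Subgroup.index_map N (detU hF)
  rw [MonoidHom.range_eq_top.mpr (detU_surjective hF (by omega : 0 < n)), Subgroup.index_top, mul_one,
    sup_eq_left.mpr (le_sup_left.trans le_sup_left : (detU hF).ker ≤ N)] at h
  rw [← h, hN, Subgroup.map_sup, Subgroup.map_sup, Subgroup.map_eq_bot_iff _ |>.mpr le_rfl, bot_sup_eq]
  set U := (powMonoidHom (q + 1) : Fˣ →* Fˣ).ker with hUdef
  have hU0 : (psi hF hF₀ e hpow).range.map (detU (n := n) hF)
      = (powMonoidHom (q₀ + 1) : U →* U).ker := by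
    ext u
    constructor
    · rintro ⟨_, ⟨g, rfl⟩, rfl⟩
      rw [MonoidHom.mem_ker, powMonoidHom_apply]
      refine Subtype.ext (Units.ext ?_)
      rw [Subgroup.coe_pow, Units.val_pow_eq_pow_val, detU_coe, coe_psi]
      show (((g : GL (Fin n) F₀) : Matrix (Fin n) (Fin n) F₀).map e).det ^ (q₀ + 1) = 1
      rw [← RingHom.mapMatrix_apply, ← RingHom.map_det, ← map_pow, pow_succ',
        (show Preserves q₀ ((g : GL (Fin n) F₀) : Matrix (Fin n) (Fin n) F₀) from g.2).det_norm hF₀, map_one]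
    · intro hu
      obtain ⟨v, hv⟩ : ∃ v : (powMonoidHom (q₀ + 1) : F₀ˣ →* F₀ˣ).ker,
          (((u : U) : Fˣ) : F) = e ((v : F₀ˣ) : F₀) := by
        have huq : (((u : U) : Fˣ) : F) ^ (q₀ + 1) = 1 := by
          have := congrArg (fun x : U => ((x : Fˣ) : F)) (MonoidHom.mem_ker.1 hu)
          simpa using this
        obtain ⟨z, hz⟩ : ∃ z, e z = (((u : U) : Fˣ) : F) := by
          classical
          let K := Finset.univ.filter fun x : F₀ => x * x ^ q₀ = 1
          have hcard : (K.image e).card = q₀ + 1 := by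
            rw [Finset.card_image_of_injective _ e.injective, ← card_norm_eq_one hF₀, Nat.card_eq_fintype_card,
              Fintype.card_subtype]
          let R := (Polynomial.nthRootsFinset (q₀ + 1) (1 : F))
          have hsub : K.image e ⊆ R := fun x hx => by
            obtain ⟨y, hy, rfl⟩ := Finset.mem_image.1 hx
            have hy' : y * y ^ q₀ = 1 := (Finset.mem_filter.1 hy).2
            rw [Polynomial.mem_nthRootsFinset (Nat.succ_pos _), ← map_pow, pow_succ', hy', map_one]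
          have hR : R.card ≤ q₀ + 1 := (Multiset.toFinset_card_le _).trans (Polynomial.card_nthRoots _ _)
          have heq := Finset.eq_of_subset_of_card_le hsub (hR.trans hcard.ge)
          have humem : (((u : U) : Fˣ) : F) ∈ R := (Polynomial.mem_nthRootsFinset (Nat.succ_pos _) 1).2 huq
          rw [← heq] at humem
          obtain ⟨y, -, hy⟩ := Finset.mem_image.1 humem
          exact ⟨y, hy⟩
        have hz1 : z * z ^ q₀ = 1 := e.injective (by rw [map_one, map_mul, map_pow, hz, ← pow_succ', huq])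
        exact ⟨⟨Units.mk0 z fun h0 => by rw [h0, zero_mul] at hz1; exact zero_ne_one hz1, Units.ext (by
          simpa [pow_succ'] using hz1)⟩, hz.symm⟩
      obtain ⟨g, hg⟩ := detU_surjective hF₀ (by omega : 0 < n) v
      refine ⟨psi hF hF₀ e hpow g, ⟨g, rfl⟩, Subtype.ext (Units.ext ?_)⟩
      rw [detU_coe, coe_psi, hv, ← hg, detU_coe]
      exact (RingHom.map_det e _).symm
  have hsc : (diagHom (n := n) hF).ker.map (detU hF) = (powMonoidHom n : U →* U).range := by
    ext u
    constructor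
    · rintro ⟨A, hA, rfl⟩
      obtain ⟨c, hc⟩ := (diag_eq_one_iff hF hn A).1 (MonoidHom.mem_ker.1 hA)
      refine ⟨⟨c, Units.ext (by simpa [pow_succ'] using norm_of_scalar hF (by omega) hc)⟩, Subtype.ext ?_⟩
      show c ^ n = GeneralLinearGroup.det (A : GL (Fin n) F)
      rw [hc, PSLCentralizer.det_scalar']
    · rintro ⟨c, rfl⟩
      have hc : ((c : Fˣ) : F) * ((c : Fˣ) : F) ^ q = 1 := by
        have := congrArg Units.val (MonoidHom.mem_ker.1 c.2)
        simpa [pow_succ'] using this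
      refine ⟨⟨_, scalar_mem_GU hF hc⟩, MonoidHom.mem_ker.2 ((diag_eq_one_iff hF hn _).2 ⟨c, rfl⟩), Subtype.ext ?_⟩
      exact PSLCentralizer.det_scalar' (c : Fˣ)
  rw [hU0, hsc]
  exact PSLCentralizer.index_ker_pow_sup_range_pow n (by rw [card_ker_pow hF, hm])

end Count

end Cfsg.Agent.H58.UnitaryTwist

namespace Cfsg.Agent.H58.UnitaryTwist

open Matrix Cfsg.Agent.H58.Twist Cfsg.Agent.H58.Descent Cfsg.Agent.Unitary

variable {F : Type*} [Field F] [Fintype F] {n q : ℕ}

theorem inndiag_normal (hF : Fintype.card F = q ^ 2) (hn : 3 ≤ n) (h32 : ¬ (n = 3 ∧ q = 2)) :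
    (Cfsg.inndiagPSU n F q).Normal := by
  rw [inndiagPSU_eq hF, ← ker_fieldHomPSU hF hn h32]
  exact MonoidHom.normal_ker _

theorem orderOf_dvd {p f : ℕ} [Fact p.Prime] (hF : Fintype.card F = q ^ 2) (hq : q = p ^ f) (σ : F ≃+* F)
    (hodd : Odd (orderOf σ)) : orderOf σ ∣ f ∧ q = (p ^ (f / orderOf σ)) ^ orderOf σ ∧
      2 * f / orderOf σ = 2 * (f / orderOf σ) := by
  have h := (orderOf_dvd_of_card σ (p := p) (f := 2 * f) (by rw [hF, hq, ← pow_mul, mul_comm])).1
  have h' : orderOf σ ∣ f := (Nat.Coprime.dvd_mul_left (Nat.coprime_two_right.2 hodd)).1 h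
  exact ⟨h', by rw [← pow_mul, Nat.div_mul_cancel h', hq], Nat.mul_div_assoc 2 h'⟩

end Cfsg.Agent.H58.UnitaryTwist
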