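import Mathlib
import Cfsg.Agent.H58.UnitaryTwist
import Cfsg.Agent.H58.SumSquares

/-!
# The centraliser of the `q`-power automorphism in `PGU_n(q)` is a projective orthogonal similitude group
-/

set_option autoImplicit false
set_option linter.unusedSectionVars false

namespace Cfsg.Agent.H58.UnitaryQPower

open Matrix Cfsg.Agent.H58.Twist Cfsg.Agent.H58.Descent Cfsg.Agent.Unitary Cfsg.Agent.H58.UnitaryTwist
open Cfsg.Agent.H58.SumSquares (sumSq)
open Cfsg.Agent.H56 (glMap glMap_coe)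

variable {F : Type*} [Field F] [Fintype F] {n q : ℕ} (hF : Fintype.card F = q ^ 2)
  {F₀ : Type*} [Field F₀] [Fintype F₀]

theorem sumSq_eq_dot {K : Type*} [Field K] (v : Fin n → K) : sumSq v = v ⬝ᵥ v :=
  Finset.sum_congr rfl fun i _ => pow_two (v i)

theorem transpose_mul_of_sim (h2 : (2 : F₀) ≠ 0) {M : Matrix (Fin n) (Fin n) F₀} {μ : F₀}
    (h : ∀ v, sumSq (M *ᵥ v) = μ * sumSq v) : Mᵀ * M = μ • (1 : Matrix (Fin n) (Fin n) F₀) := by
  have key : ∀ u v, (M *ᵥ u) ⬝ᵥ (M *ᵥ v) = μ * (u ⬝ᵥ v) := fun u v => by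
    refine mul_left_cancel₀ h2 ?_
    have h3 := h (u + v)
    have hu := h u
    have hv := h v
    simp only [sumSq_eq_dot, mulVec_add, add_dotProduct, dotProduct_add, dotProduct_comm (M *ᵥ v) (M *ᵥ u),
      dotProduct_comm v u] at h3 hu hv
    linear_combination h3 - hu - hv
  ext i j
  rw [Matrix.mul_apply, Matrix.smul_apply, Matrix.one_apply, smul_eq_mul]
  have := key (Pi.single i 1) (Pi.single j 1)
  rw [Matrix.mulVec_single_one, Matrix.mulVec_single_one, single_dotProduct, Pi.single_apply, one_mul] at this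
  exact this

theorem sim_of_transpose_mul {M : Matrix (Fin n) (Fin n) F₀} {μ : F₀}
    (h : Mᵀ * M = μ • (1 : Matrix (Fin n) (Fin n) F₀)) (v : Fin n → F₀) : sumSq (M *ᵥ v) = μ * sumSq v := by
  rw [sumSq_eq_dot, sumSq_eq_dot, Matrix.dotProduct_mulVec, ← Matrix.mulVec_transpose, Matrix.mulVec_mulVec, h,
    Matrix.smul_mulVec, Matrix.one_mulVec, smul_dotProduct, smul_eq_mul]

/-- The projective similitude group of the sum of squares. -/
abbrev simSq (n : ℕ) (F₀ : Type*) [Field F₀] : Subgroup (GL (Fin n) F₀) :=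
  Cfsg.Geo.quadSimilarityGroup (F := F₀) (sumSq : (Fin n → F₀) → F₀)

variable (e : F₀ →+* F) {σ : F ≃+* F} (hσ : ∀ a : F, σ a = a ^ q)

include hF in
theorem exists_lift (h2 : (2 : F₀) ≠ 0) (hfix : ∀ x, e x ^ q = e x) (g : simSq n F₀) :
    ∃ (A : Cfsg.GU n F q) (s : Fˣ),
      (A : GL (Fin n) F) = GeneralLinearGroup.scalar (Fin n) s * GeneralLinearGroup.map e (g : GL (Fin n) F₀) := by
  obtain ⟨μ, hμ⟩ := g.2
  have hT := transpose_mul_of_sim h2 hμ
  have hne : e (μ : F₀) ≠ 0 := (map_ne_zero e).2 μ.ne_zero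
  obtain ⟨s, hs⟩ := exists_norm_eq hF (a := (e (μ : F₀))⁻¹) (by rw [inv_pow, hfix])
  have hs0 : s ≠ 0 := fun h => inv_ne_zero hne (by rw [← hs, h, zero_mul])
  refine ⟨⟨GeneralLinearGroup.scalar (Fin n) (Units.mk0 s hs0) * GeneralLinearGroup.map e (g : GL (Fin n) F₀), ?_⟩,
    Units.mk0 s hs0, rfl⟩
  rw [mem_GU_iff, preserves_iff_transpose_mul hF, Units.val_mul, GeneralLinearGroup.coe_scalar, Matrix.scalar_apply,
    ← Matrix.smul_one_eq_diagonal, Matrix.smul_mul, Matrix.one_mul, Units.val_mk0, Matrix.transpose_smul]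
  set G : Matrix (Fin n) (Fin n) F₀ := ((g : GL (Fin n) F₀) : Matrix (Fin n) (Fin n) F₀) with hG
  show s • (G.map e)ᵀ * (s • G.map e).map (fun x => x ^ q) = 1
  rw [show (s • G.map e).map (fun x => x ^ q) = s ^ q • G.map e from Matrix.ext fun i j => by
      simp [mul_pow, hfix],
    Matrix.smul_mul, Matrix.mul_smul, smul_smul, hs, ← Matrix.transpose_map, ← Matrix.map_mul, hT]
  ext i j
  rw [Matrix.smul_apply, Matrix.map_apply, Matrix.smul_apply, smul_eq_mul, smul_eq_mul, _root_.map_mul,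
    inv_mul_cancel_left₀ hne, Matrix.one_apply, Matrix.one_apply]
  split_ifs <;> simp

include hF in
theorem centralizer_iso (hn : 3 ≤ n) (h2 : (2 : F₀) ≠ 0) (he : ∀ x, σ (e x) = e x)
    (he' : ∀ a, σ a = a → ∃ x, e x = a) (hσ : ∀ a : F, σ a = a ^ q) :
    Nonempty (↥(Cfsg.inndiagPSU n F q ⊓ Subgroup.centralizer {semiAut (1 : Cfsg.GU n F q) σ})
      ≃* Cfsg.PGO F₀ (sumSq : (Fin n → F₀) → F₀)) := by
  have hfix : ∀ x, e x ^ q = e x := fun x => by rw [← hσ, he]
  choose A s hA using exists_lift (n := n) hF e h2 hfix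
  have huniq : ∀ (g : simSq n F₀) (B : Cfsg.GU n F q) (t : Fˣ),
      (B : GL (Fin n) F) = GeneralLinearGroup.scalar (Fin n) t * GeneralLinearGroup.map e (g : GL (Fin n) F₀) →
      diagHom hF B = diagHom hF (A g) := by
    intro g B t hB
    refine (diag_eq_iff hF hn _ _).2 ⟨t * (s g)⁻¹, ?_⟩
    rw [hA, hB, ← mul_assoc, ← map_mul, inv_mul_cancel_right]
  let Ψ : simSq n F₀ →* MulAut (Cfsg.PSU n F q) :=
    MonoidHom.mk' (fun g => diagHom hF (A g)) fun g h => by
      rw [← map_mul]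
      refine (huniq (g * h) (A g * A h) (s g * s h) ?_).symm
      rw [Subgroup.coe_mul, hA, hA, Subgroup.coe_mul, map_mul, map_mul, mul_assoc, mul_assoc,
        ← mul_assoc (GeneralLinearGroup.map e (g : GL (Fin n) F₀)),
        ← GeneralLinearGroup.scalar_commute (s h) (GeneralLinearGroup.map e (g : GL (Fin n) F₀)), mul_assoc]
  have hrange : Cfsg.inndiagPSU n F q ⊓ Subgroup.centralizer {semiAut (1 : Cfsg.GU n F q) σ} = Ψ.range := by
    rw [inndiagPSU_eq hF]
    ext y
    constructor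
    · rintro ⟨⟨B, rfl⟩, hy⟩
      obtain ⟨c, hc⟩ := (diag_eq_iff hF hn _ _).1
        ((commutes_iff (diagHom hF) (theta hF σ) _ (field_conj hF σ) B).1 hy)
      rw [coe_theta] at hc
      obtain ⟨b, hb⟩ := exists_scalar_fixed σ (by omega) hc
      obtain ⟨g, hg⟩ := (PSLCentralizer.mem_range_map_iff e he he' _).2 hb
      have hgM : (g : Matrix (Fin n) (Fin n) F₀).map e = (b : F) • ((B : GL (Fin n) F) : Matrix (Fin n) (Fin n) F) := by
        have h2 := congrArg Units.val hg
        rw [Units.val_mul, GeneralLinearGroup.coe_scalar, Matrix.scalar_apply, ← Matrix.smul_one_eq_diagonal,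
          Matrix.smul_mul, Matrix.one_mul] at h2
        exact h2
      obtain ⟨t, ht⟩ := he' ((b : F) * (b : F) ^ q) (by rw [hσ, norm_pow_q hF])
      have ht0 : t ≠ 0 := fun h => mul_ne_zero b.ne_zero (pow_ne_zero q b.ne_zero) (by rw [← ht, h, map_zero])
      have hG : ((g : Matrix (Fin n) (Fin n) F₀))ᵀ * (g : Matrix (Fin n) (Fin n) F₀)
          = t • (1 : Matrix (Fin n) (Fin n) F₀) := by
        refine Matrix.map_injective e.injective ?_
        show (_ * _ : Matrix (Fin n) (Fin n) F₀).map e = _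
        rw [Matrix.map_mul, Matrix.transpose_map]
        conv_lhs => rw [show (g : Matrix (Fin n) (Fin n) F₀).map e = ((g : Matrix (Fin n) (Fin n) F₀).map e).map
          (fun x => x ^ q) from Matrix.ext fun i j => (hfix _).symm]
        conv_lhs => enter [1]; rw [show ((g : Matrix (Fin n) (Fin n) F₀).map e).map
          (fun x => x ^ q) = (g : Matrix (Fin n) (Fin n) F₀).map e from Matrix.ext fun i j => hfix _]
        rw [hgM, Matrix.transpose_smul,
          show ((b : F) • ((B : GL (Fin n) F) : Matrix (Fin n) (Fin n) F)).map (fun x => x ^ q)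
            = (b : F) ^ q • ((B : GL (Fin n) F) : Matrix (Fin n) (Fin n) F).map (fun x => x ^ q) from
            Matrix.ext fun i j => mul_pow _ _ q,
          Matrix.smul_mul, Matrix.mul_smul, smul_smul, gu_transpose_mul hF B, ← ht]
        ext i j
        simp [Matrix.one_apply, apply_ite e]
      let g' : simSq n F₀ := ⟨g, Units.mk0 t ht0, fun v => sim_of_transpose_mul hG v⟩
      refine ⟨g', (huniq g' B b⁻¹ ?_).symm⟩
      show _ = _ * GeneralLinearGroup.map e g
      rw [hg, ← mul_assoc, ← map_mul, inv_mul_cancel, map_one, one_mul]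
    · rintro ⟨g, rfl⟩
      refine ⟨⟨_, rfl⟩, (commutes_iff (diagHom hF) (theta hF σ) _ (field_conj hF σ) _).2 ?_⟩
      refine (diag_eq_iff hF hn _ _).2 ⟨umap σ (s g) * (s g)⁻¹, ?_⟩
      rw [coe_theta, hA, map_mul, glMap_scalar, (PSLCentralizer.mem_range_map_iff e he he' _).1 ⟨_, rfl⟩,
        ← mul_assoc, ← map_mul, inv_mul_cancel_right]
  rw [hrange]
  refine ⟨(QuotientGroup.quotientKerEquivRange Ψ).symm.trans (QuotientGroup.quotientMulEquivOfEq ?_)⟩
  ext g
  rw [MonoidHom.mem_ker, Subgroup.mem_subgroupOf]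
  show diagHom hF (A g) = 1 ↔ _
  rw [diag_eq_one_iff hF hn, hA]
  constructor
  · rintro ⟨c, hc⟩
    have hc' : GeneralLinearGroup.map e (g : GL (Fin n) F₀) = GeneralLinearGroup.scalar (Fin n) ((s g)⁻¹ * c) := by
      rw [map_mul, ← hc, ← mul_assoc, ← map_mul, inv_mul_cancel, map_one, one_mul]
    have hentry : ∀ i j, e (((g : GL (Fin n) F₀) : Matrix (Fin n) (Fin n) F₀) i j)
        = if i = j then (((s g)⁻¹ * c : Fˣ) : F) else 0 := by
      intro i j
      have := congrArg (fun M : GL (Fin n) F => (M : Matrix (Fin n) (Fin n) F) i j) hc'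
      rw [GeneralLinearGroup.coe_scalar, Matrix.scalar_apply, Matrix.diagonal_apply] at this
      exact this
    let i₀ : Fin n := ⟨0, by omega⟩
    have hd : ((g : GL (Fin n) F₀) : Matrix (Fin n) (Fin n) F₀) i₀ i₀ ≠ 0 := fun h0 => by
      have := hentry i₀ i₀
      rw [h0, map_zero, if_pos rfl] at this
      exact Units.ne_zero _ this.symm
    refine ⟨Units.mk0 _ hd, Units.ext (Matrix.ext fun i j => e.injective ?_)⟩
    show e (Matrix.scalar (Fin n) (((g : GL (Fin n) F₀) : Matrix (Fin n) (Fin n) F₀) i₀ i₀) i j) = _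
    rw [Matrix.scalar_apply, Matrix.diagonal_apply, hentry, apply_ite e, map_zero, hentry, if_pos rfl]
  · rintro ⟨d, hd⟩
    refine ⟨s g * Units.map e.toMonoidHom d, ?_⟩
    rw [← hd, map_mul]
    congr 1
    exact GeneralLinearGroup.map_scalar e d

end Cfsg.Agent.H58.UnitaryQPower
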