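import Mathlib
import Cfsg.Agent.H58.GraphPSL
import Cfsg.Agent.H58.UnitaryQPower
import Cfsg.Agent.H58.GLScalar

/-!
# Graph automorphisms of order two of `PSU_n` and bilinear forms over the fixed field
-/

set_option autoImplicit false
set_option linter.unusedSectionVars false
set_option linter.unusedSimpArgs false

namespace Cfsg.Agent.H58.GraphPSU

open Matrix Cfsg.Agent.H58.PSLTwist Cfsg.Agent.H58.Descent Cfsg.Agent.H58.Twist
  Cfsg.Agent.H58.FormSim Cfsg.Agent.H58.GraphGeneric Cfsg.Agent.H58.UnitaryTwist Cfsg.Agent.H58.GLScalar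
open Cfsg.Agent.H56 (glMap glMap_coe)
open Cfsg.Agent.Unitary (diagHom diagHom_apply semiAut semiAut_inj_field inndiagPSU_eq)

/-- The `q`-power automorphism and a copy of its fixed field. -/
structure Frame (F : Type*) [Field F] [Fintype F] (F₀ : Type*) [Field F₀] [Fintype F₀] (n q : ℕ) where
  hF : Fintype.card F = q ^ 2
  hn : 3 ≤ n
  σ : F ≃+* F
  hσ : ∀ a, σ a = a ^ q
  hσ2 : orderOf σ = 2
  e : F₀ →+* F
  he : ∀ x, σ (e x) = e x
  he' : ∀ a, σ a = a → ∃ x, e x = a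

variable {F : Type*} [Field F] [Fintype F] {F₀ : Type*} [Field F₀] [Fintype F₀] {n q : ℕ}

local notation "K" => contraHom

namespace Frame

variable (P : Frame F F₀ n q)

/-- The entrywise action of `σ`. -/
noncomputable abbrev S : GL (Fin n) F →* GL (Fin n) F := glMap P.σ

/-- Extension of scalars. -/
noncomputable abbrev E : GL (Fin n) F₀ →* GL (Fin n) F := GeneralLinearGroup.map P.e

/-- Extension of scalars on units. -/
noncomputable abbrev u : F₀ˣ →* Fˣ := Units.map (P.e : F₀ →* F)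

include P in
theorem n_pos : 0 < n := lt_of_lt_of_le (by decide) P.hn

theorem σσ (a : F) : P.σ (P.σ a) = a := by
  have h : P.σ ^ 2 = 1 := by rw [← P.hσ2]; exact pow_orderOf_eq_one _
  rw [pow_two] at h
  exact RingEquiv.congr_fun h a

theorem UU (a : Fˣ) : umap P.σ (umap P.σ a) = a := Units.ext (P.σσ _)

theorem S_S (x : GL (Fin n) F) : P.S (P.S x) = x := Units.ext (by
  rw [glMap_coe, glMap_coe, Matrix.map_map]
  exact Matrix.ext fun i j => P.σσ _)

theorem S_K (x : GL (Fin n) F) : P.S (K x) = K (P.S x) := Units.ext (by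
  rw [glMap_coe, contraHom_coe, contraHom_coe, ← map_inv, glMap_coe]
  rfl)

theorem S_E (x : GL (Fin n) F₀) : P.S (P.E x) = P.E x :=
  (PSLCentralizer.mem_range_map_iff P.e P.he P.he' _).1 ⟨x, rfl⟩

theorem K_E (x : GL (Fin n) F₀) : K (P.E x) = P.E (K x) := Units.ext (by
  rw [contraHom_coe, ← map_inv]
  rfl)

theorem S_smul (c : Fˣ) (x : GL (Fin n) F) : P.S (c • x) = umap P.σ c • P.S x := glMap_smul P.σ c x

theorem E_smul (c : F₀ˣ) (x : GL (Fin n) F₀) : P.E (c • x) = P.u c • P.E x := GLScalar.map_smul' P.e c x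

theorem mem_GU (C : GL (Fin n) F) : C ∈ Cfsg.GU n F q ↔ (K C)⁻¹ * P.S C = 1 := by
  rw [PSLGraphField.mem_GU_iff_fixed P.hσ, gfTwist, MonoidHom.comp_apply, inv_mul_eq_one]
  constructor
  · intro h
    have h1 := congrArg P.S h
    rwa [P.S_S] at h1
  · intro h
    have h1 := congrArg P.S h
    rwa [P.S_S] at h1

theorem exists_fixed_units {c : Fˣ} (h : umap P.σ c = c) : ∃ c₀ : F₀ˣ, P.u c₀ = c := by
  obtain ⟨x, hx⟩ := P.he' (c : F) (congrArg Units.val h)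
  have hx0 : x ≠ 0 := fun h0 => c.ne_zero (by rw [← hx, h0, map_zero])
  exact ⟨Units.mk0 x hx0, Units.ext hx⟩

theorem fixed_units (c : F₀ˣ) : umap P.σ (P.u c) = P.u c := Units.ext (P.he _)

theorem exists_norm {c : Fˣ} (h : umap P.σ c = c) : ∃ a : Fˣ, a * umap P.σ a = c := by
  obtain ⟨a, ha⟩ := exists_normProd_eq P.σ (c := c) (congrArg Units.val h)
  refine ⟨a, ?_⟩
  rw [P.hσ2] at ha
  simpa [normProd] using ha

theorem E_injective : Function.Injective P.E := fun x y h => Units.ext (Matrix.ext fun i j => P.e.injective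
  (congrArg (fun M : GL (Fin n) F => (M : Matrix (Fin n) (Fin n) F) i j) h))

/-- Scalars relating matrices over the fixed field lie in it. -/
theorem descend {x y : GL (Fin n) F₀} {c : Fˣ} (h : P.E x = c • P.E y) :
    ∃ c₀ : F₀ˣ, P.u c₀ = c ∧ x = c₀ • y := by
  have h1 : umap P.σ c = c := by
    have h2 := congrArg P.S h
    rw [P.S_smul, P.S_E, P.S_E, h] at h2
    exact (smul_inj P.n_pos h2).symm
  obtain ⟨c₀, hc₀⟩ := P.exists_fixed_units h1
  refine ⟨c₀, hc₀, P.E_injective ?_⟩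
  rw [P.E_smul, hc₀, h]

theorem exists_E {x : GL (Fin n) F} {c : Fˣ} (h : P.S x = c • x) :
    ∃ (b : Fˣ) (Y : GL (Fin n) F₀), x = b • P.E Y := by
  obtain ⟨b, hb⟩ := exists_scalar_fixed P.σ P.n_pos (h.trans (zmul c x).symm)
  obtain ⟨Y, hY⟩ := (PSLCentralizer.mem_range_map_iff P.e P.he P.he' _).2 hb
  refine ⟨b⁻¹, Y, ?_⟩
  rw [show P.E Y = _ from hY, zmul, inv_smul_smul]

/-- `γ` is described by the form of `h`. -/
def Rep (γ : MulAut (Cfsg.PSU n F q)) (h : GL (Fin n) F₀) : Prop :=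
  ∃ (B : GL (Fin n) F) (k s : Fˣ) (A : Cfsg.GU n F q),
    (K B)⁻¹ * P.S B = k • P.E h ∧ (A : GL (Fin n) F) = s • (B * (P.S B)⁻¹) ∧
      γ = diagHom P.hF A * semiAut (1 : Cfsg.GU n F q) P.σ

theorem S_form {h : GL (Fin n) F₀} {B : GL (Fin n) F} {k : Fˣ} (hB : (K B)⁻¹ * P.S B = k • P.E h) :
    (K (P.S B))⁻¹ * B = umap P.σ k • P.E h := by
  have := congrArg P.S hB
  rwa [map_mul, map_inv, P.S_S, P.S_K, P.S_smul, P.S_E] at this

theorem sign {h : GL (Fin n) F₀} {B : GL (Fin n) F} {k : Fˣ} (hB : (K B)⁻¹ * P.S B = k • P.E h) :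
    ∃ c₀ : F₀ˣ, P.u c₀ = k⁻¹ * umap P.σ k ∧ (K h)⁻¹ = c₀ • h := by
  have h2 := congrArg (fun x => (K x)⁻¹) hB
  simp only [map_mul, map_inv, contra_smul, contra_contra, P.K_E, _root_.mul_inv_rev, ginv_smul, inv_inv] at h2
  rw [P.S_form hB] at h2
  refine P.descend ?_
  rw [map_inv, mul_smul, h2, inv_smul_smul]

theorem good_of_rep {γ : MulAut (Cfsg.PSU n F q)} {h : GL (Fin n) F₀} (hR : P.Rep γ h) :
    Good (h : Matrix (Fin n) (Fin n) F₀) := by
  obtain ⟨B, k, s, A, hB, -, -⟩ := hR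
  obtain ⟨c₀, -, hc⟩ := P.sign hB
  exact (GraphPSL.good_iff P.n_pos h).2 ⟨c₀, by rw [map_inv, hc, zmul]⟩

theorem conj_formula (C A : Cfsg.GU n F q) :
    diagHom P.hF C * (diagHom P.hF A * semiAut (1 : Cfsg.GU n F q) P.σ) * (diagHom P.hF C)⁻¹
      = diagHom P.hF (C * A * theta P.hF P.σ C⁻¹) * semiAut (1 : Cfsg.GU n F q) P.σ := by
  rw [map_mul, map_mul, ← field_conj P.hF P.σ, map_inv]
  group

theorem square_formula (A : Cfsg.GU n F q) :
    (diagHom P.hF A * semiAut (1 : Cfsg.GU n F q) P.σ) ^ 2 = diagHom P.hF (A * theta P.hF P.σ A) := by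
  have hs : semiAut (1 : Cfsg.GU n F q) P.σ * semiAut (1 : Cfsg.GU n F q) P.σ = 1 := by
    have := pow_orderOf_eq_one (semiAut (1 : Cfsg.GU n F q) P.σ)
    rwa [orderOf_field P.hF P.hn, P.hσ2, pow_two] at this
  rw [pow_two, map_mul, ← field_conj P.hF P.σ, inv_eq_of_mul_eq_one_left hs]
  group

/-- The transporters between two automorphisms. -/
theorem transporter {B B' : GL (Fin n) F} {s s' : Fˣ} {A A' C : Cfsg.GU n F q}
    (hA : (A : GL (Fin n) F) = s • (B * (P.S B)⁻¹)) (hA' : (A' : GL (Fin n) F) = s' • (B' * (P.S B')⁻¹)) :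
    diagHom P.hF A' * semiAut (1 : Cfsg.GU n F q) P.σ
        = diagHom P.hF C * (diagHom P.hF A * semiAut (1 : Cfsg.GU n F q) P.σ) * (diagHom P.hF C)⁻¹ ↔
      ∃ (a : Fˣ) (Y : GL (Fin n) F₀), (C : GL (Fin n) F) = a • (B' * P.E Y * B⁻¹) := by
  rw [P.conj_formula, mul_left_inj, diag_eq_iff P.hF P.hn, Subgroup.coe_mul, Subgroup.coe_mul, coe_theta,
    Subgroup.coe_inv, map_inv, hA, hA']
  simp only [zmul, gsmul_mul, gmul_smul, smul_smul, mul_assoc]
  constructor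
  · rintro ⟨c, hc⟩
    have hX : P.S (B'⁻¹ * ((C : GL (Fin n) F) * B)) = (s'⁻¹ * (s * c)) • (B'⁻¹ * ((C : GL (Fin n) F) * B)) := by
      have h1 := congrArg (fun x => s'⁻¹ • (B'⁻¹ * (x * (P.S (C : GL (Fin n) F) * P.S B)))) hc
      simp only [gsmul_mul, gmul_smul, smul_smul, mul_assoc, inv_mul_cancel_left, inv_mul_cancel, one_smul,
        mul_one] at h1
      simp only [map_mul, map_inv]
      exact h1
    obtain ⟨b, Y, hY⟩ := P.exists_E hX
    refine ⟨b, Y, ?_⟩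
    have h3 := congrArg (fun x => B' * (x * B⁻¹)) hY
    simp only [gsmul_mul, gmul_smul, mul_assoc, mul_inv_cancel_left, mul_inv_cancel, mul_one] at h3
    exact h3
  · rintro ⟨a, Y, hC⟩
    refine ⟨s' * ((umap P.σ a)⁻¹ * (s * a))⁻¹, ?_⟩
    rw [hC]
    simp only [map_mul, map_inv, P.S_smul, P.S_E, ginv_smul, _root_.mul_inv_rev, inv_inv, gsmul_mul, gmul_smul,
      smul_smul, mul_assoc, inv_mul_cancel_left, mul_inv_cancel_left]
    congr 1
    simp only [mul_comm, mul_left_comm, mul_inv_cancel_left, inv_mul_cancel_left]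
    simp [mul_comm, mul_left_comm]

/-- When a transporter is unitary. -/
theorem transporter_mem {B B' : GL (Fin n) F} {k k' a : Fˣ} {h h' Y : GL (Fin n) F₀}
    (hB : (K B)⁻¹ * P.S B = k • P.E h) (hB' : (K B')⁻¹ * P.S B' = k' • P.E h') :
    a • (B' * P.E Y * B⁻¹) ∈ Cfsg.GU n F q ↔
      P.E ((K Y)⁻¹ * h' * Y) = ((a * umap P.σ a * k')⁻¹ * k) • P.E h := by
  rw [P.mem_GU]
  have hfold : ∀ z, (K B')⁻¹ * (P.S B' * z) = k' • (P.E h' * z) := fun z => by
    rw [← mul_assoc, hB', gsmul_mul]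
  have e1 : (K (a • (B' * P.E Y * B⁻¹)))⁻¹ * P.S (a • (B' * P.E Y * B⁻¹))
      = (a * umap P.σ a * k') • (K B * (P.E ((K Y)⁻¹ * h' * Y) * (P.S B)⁻¹)) := by
    simp only [contra_smul, P.S_smul, ginv_smul, map_mul, map_inv, _root_.mul_inv_rev, inv_inv, P.K_E, P.S_E,
      gsmul_mul, gmul_smul, smul_smul, mul_assoc, hfold]
    congr 1
    exact mul_left_comm _ _ _
  rw [e1]
  constructor
  · intro h1
    have h2 := congrArg (fun x => (a * umap P.σ a * k')⁻¹ • ((K B)⁻¹ * (x * P.S B))) h1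
    simp only [gsmul_mul, gmul_smul, smul_smul, mul_assoc, inv_mul_cancel_left, inv_mul_cancel, one_smul, mul_one,
      one_mul, hB] at h2
    simp only [mul_assoc]
    exact h2
  · intro h1
    rw [h1]
    simp only [gsmul_mul, gmul_smul, smul_smul]
    rw [mul_inv_cancel_left, ← gmul_smul, ← gsmul_mul, ← hB, mul_assoc, mul_inv_cancel, mul_one, mul_inv_cancel]

theorem conj_iff {γ γ' : MulAut (Cfsg.PSU n F q)} {h h' : GL (Fin n) F₀} (hR : P.Rep γ h) (hR' : P.Rep γ' h') :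
    Cfsg.IsConjUnder (Cfsg.inndiagPSU n F q) γ γ' ↔
      ∃ (Y : GL (Fin n) F₀) (l : F₀ˣ), (K Y)⁻¹ * h' * Y = l • h := by
  obtain ⟨B, k, s, A, hB, hA, rfl⟩ := hR
  obtain ⟨B', k', s', A', hB', hA', rfl⟩ := hR'
  constructor
  · rintro ⟨y, hy, hyγ⟩
    rw [inndiagPSU_eq P.hF] at hy
    obtain ⟨C, rfl⟩ := hy
    obtain ⟨a, Y, hC⟩ := (P.transporter hA hA').1 hyγ
    obtain ⟨l, -, hl⟩ := P.descend ((P.transporter_mem hB hB').1 (hC ▸ C.2))
    exact ⟨Y, l, hl⟩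
  · rintro ⟨Y, l, hl⟩
    obtain ⟨c₀, hc₀, hs⟩ := P.sign hB
    obtain ⟨c₀', hc₀', hs'⟩ := P.sign hB'
    have hcc : c₀' = c₀ := by
      have h1 := congrArg (fun x => (K x)⁻¹) hl
      simp only [map_mul, map_inv, contra_smul, contra_contra, _root_.mul_inv_rev, ginv_smul, inv_inv, hs, hs',
        gsmul_mul, gmul_smul, smul_smul, ← mul_assoc] at h1
      rw [hl, smul_smul, mul_comm l c₀] at h1
      exact mul_right_cancel (smul_inj P.n_pos h1)
    have hfix : umap P.σ (k'⁻¹ * k) = k'⁻¹ * k := by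
      have h1 : k⁻¹ * umap P.σ k = k'⁻¹ * umap P.σ k' := by rw [← hc₀, ← hc₀', hcc]
      rw [inv_mul_eq_iff_eq_mul] at h1
      rw [map_mul, map_inv, h1]
      rw [mul_comm k'⁻¹ k, mul_comm (umap P.σ k')⁻¹, ← mul_assoc, mul_inv_cancel_right]
    obtain ⟨a, ha⟩ := P.exists_norm (c := k'⁻¹ * k * (P.u l)⁻¹) (by
      rw [map_mul, hfix, map_inv, P.fixed_units])
    have hmem : a • (B' * P.E Y * B⁻¹) ∈ Cfsg.GU n F q := by
      refine (P.transporter_mem hB hB').2 ?_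
      rw [ha, hl, P.E_smul]
      congr 1
      refine Units.ext ?_
      simp only [Units.val_mul, Units.val_inv_eq_inv_val]
      field_simp
    refine ⟨diagHom P.hF ⟨_, hmem⟩, by rw [inndiagPSU_eq P.hF]; exact ⟨_, rfl⟩, ?_⟩
    exact (P.transporter hA hA').2 ⟨a, Y, rfl⟩

theorem iso {γ : MulAut (Cfsg.PSU n F q)} {h : GL (Fin n) F₀} (hR : P.Rep γ h) :
    Nonempty (↥(Cfsg.inndiagPSU n F q ⊓ Subgroup.centralizer {γ}) ≃*
      Cfsg.projQuot (sim (h : Matrix (Fin n) (Fin n) F₀))) := by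
  obtain ⟨B, k, s, A, hB, hA, rfl⟩ := hR
  have hlift : ∀ Y : sim (h : Matrix (Fin n) (Fin n) F₀), ∃ (a : Fˣ) (C : Cfsg.GU n F q),
      (C : GL (Fin n) F) = a • (B * P.E (Y : GL (Fin n) F₀) * B⁻¹) := fun Y => by
    obtain ⟨l, hl⟩ := GraphPSL.mem_sim_gl.1 Y.2
    rw [map_inv, zmul] at hl
    obtain ⟨a, ha⟩ := P.exists_norm (c := (P.u l)⁻¹) (by rw [map_inv, P.fixed_units])
    refine ⟨a, ⟨_, (P.transporter_mem (a := a) hB hB).2 ?_⟩, rfl⟩
    rw [ha, hl, P.E_smul]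
    congr 1
    simp [mul_comm]
  choose a C hC using hlift
  have huniq : ∀ (Y : sim (h : Matrix (Fin n) (Fin n) F₀)) (D : Cfsg.GU n F q) (t : Fˣ),
      (D : GL (Fin n) F) = t • (B * P.E (Y : GL (Fin n) F₀) * B⁻¹) → diagHom P.hF D = diagHom P.hF (C Y) := by
    intro Y D t hD
    refine (diag_eq_iff P.hF P.hn _ _).2 ⟨t * (a Y)⁻¹, ?_⟩
    rw [hC, hD, zmul, smul_smul, inv_mul_cancel_right]
  let Ψ : sim (h : Matrix (Fin n) (Fin n) F₀) →* MulAut (Cfsg.PSU n F q) :=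
    MonoidHom.mk' (fun Y => diagHom P.hF (C Y)) fun Y W => by
      rw [← map_mul]
      refine (huniq (Y * W) (C Y * C W) (a Y * a W) ?_).symm
      rw [Subgroup.coe_mul, Subgroup.coe_mul, hC, hC, map_mul]
      simp only [gsmul_mul, gmul_smul, smul_smul, mul_assoc, inv_mul_cancel_left]
      congr 1
      exact mul_comm _ _
  have hrange : Cfsg.inndiagPSU n F q ⊓
      Subgroup.centralizer {diagHom P.hF A * semiAut (1 : Cfsg.GU n F q) P.σ} = Ψ.range := by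
    rw [inndiagPSU_eq P.hF]
    ext y
    constructor
    · rintro ⟨⟨D, rfl⟩, hy⟩
      obtain ⟨t, Y, hD⟩ := (P.transporter (C := D) hA hA).1
        (mul_inv_eq_iff_eq_mul.2 (Subgroup.mem_centralizer_singleton_iff.1 hy)).symm
      obtain ⟨l, -, hl⟩ := P.descend ((P.transporter_mem hB hB).1 (hD ▸ D.2))
      have hY : Y ∈ sim (h : Matrix (Fin n) (Fin n) F₀) :=
        GraphPSL.mem_sim_gl.2 ⟨l, by rw [map_inv, zmul]; exact hl⟩
      refine ⟨⟨Y, hY⟩, ?_⟩
      show diagHom P.hF (C ⟨Y, hY⟩) = _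
      exact (huniq ⟨Y, hY⟩ D t hD).symm
    · rintro ⟨Y, rfl⟩
      refine ⟨⟨_, rfl⟩, Subgroup.mem_centralizer_singleton_iff.2 ?_⟩
      exact mul_inv_eq_iff_eq_mul.1 ((P.transporter (C := C Y) hA hA).2 ⟨a Y, _, hC Y⟩).symm
  rw [hrange]
  refine ⟨(QuotientGroup.quotientKerEquivRange Ψ).symm.trans (QuotientGroup.quotientMulEquivOfEq ?_)⟩
  ext Y
  rw [MonoidHom.mem_ker, Subgroup.mem_subgroupOf]
  show diagHom P.hF (C Y) = 1 ↔ _
  rw [diag_eq_one_iff P.hF P.hn]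
  constructor
  · rintro ⟨c, hc⟩
    rw [hC, zone] at hc
    have h2 := congrArg (fun x => (a Y)⁻¹ • (B⁻¹ * (x * B))) hc
    simp only [gsmul_mul, gmul_smul, smul_smul, mul_assoc, inv_mul_cancel_left, inv_mul_cancel, one_smul, mul_one,
      one_mul] at h2
    obtain ⟨d, -, hd⟩ := P.descend (y := 1) (h2.trans (by rw [map_one]))
    exact ⟨d, by rw [hd, ← zone]; rfl⟩
  · rintro ⟨d, hd⟩
    refine ⟨a Y * P.u d, ?_⟩
    rw [hC, show (Y : GL (Fin n) F₀) = GeneralLinearGroup.scalar (Fin n) d from hd.symm, zone, P.E_smul, map_one,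
      zone]
    simp only [gsmul_mul, gmul_smul, smul_smul, mul_one, mul_inv_cancel]

theorem isGraph (A : Cfsg.GU n F q) :
    Cfsg.IsGraphAutClassPSU (diagHom P.hF A * semiAut (1 : Cfsg.GU n F q) P.σ) :=
  ⟨P.hn, _, _, P.σ, by rw [P.hσ2]; exact even_two, by rw [diagHom_apply]; exact Unitary.isInnerDiagonal_semiAut A,
    Unitary.isFieldAut_semiAut P.σ, rfl⟩

theorem orderOf_eq_two {A : Cfsg.GU n F q} {c : Fˣ} (h : (A : GL (Fin n) F) * P.S (A : GL (Fin n) F) = c • 1) :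
    orderOf (diagHom P.hF A * semiAut (1 : Cfsg.GU n F q) P.σ) = 2 := by
  refine orderOf_eq_prime_iff.2 ⟨?_, fun e => ?_⟩
  · rw [P.square_formula, diag_eq_one_iff P.hF P.hn]
    exact ⟨c, by rw [Subgroup.coe_mul, coe_theta, h, zone]⟩
  · have e' : semiAut A P.σ = semiAut 1 (RingEquiv.refl F) := by
      rw [Unitary.semiAut_split P.hF, ← diagHom_apply P.hF, e, Unitary.semiAut_one]
    have h2 := P.hσ2
    rw [semiAut_inj_field P.hF P.hn e'] at h2
    rw [show (RingEquiv.refl F : F ≃+* F) = 1 from rfl, orderOf_one] at h2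
    exact absurd h2 (by decide)

theorem exists_aut {h : GL (Fin n) F₀} (hh : Good (h : Matrix (Fin n) (Fin n) F₀)) :
    ∃ γ, (Cfsg.IsGraphAutClassPSU γ ∧ orderOf γ = 2) ∧ P.Rep γ h := by
  obtain ⟨c₀, hc₀⟩ := (GraphPSL.good_iff P.n_pos h).1 hh
  rw [map_inv, zmul] at hc₀
  have hc2 : c₀ * c₀ = 1 := by
    have h1 := congrArg (fun x => (K x)⁻¹) hc₀
    simp only [map_inv, contra_smul, contra_contra, ginv_smul, inv_inv] at h1
    rw [hc₀, smul_smul] at h1
    exact (smul_inj P.n_pos ((one_smul F₀ˣ h).trans h1)).symm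
  set c := P.u c₀ with hc
  obtain ⟨k, hk⟩ : ∃ k : Fˣ, umap P.σ k = c * k := by
    have hcc : (c : F) * c = 1 := by rw [← Units.val_mul, hc, ← map_mul, hc2, map_one, Units.val_one]
    rcases mul_self_eq_one_iff.1 hcc with h1 | h1
    · exact ⟨1, by rw [map_one, mul_one]; exact Units.ext h1.symm⟩
    · obtain ⟨δ, hδ0, hδ⟩ := Unitary.exists_skew P.hF
      exact ⟨Units.mk0 δ hδ0, Units.ext (by
        rw [umap_coe, Units.val_mk0, P.hσ, hδ, Units.val_mul, h1, Units.val_mk0, neg_one_mul])⟩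
  have hM : P.S (k • P.E h) = (K (k • P.E h))⁻¹ := by
    rw [P.S_smul, P.S_E, hk, contra_smul, ginv_smul, inv_inv, P.K_E, ← map_inv, hc₀, P.E_smul, smul_smul, mul_comm]
  obtain ⟨B', hB'⟩ := HermCongr.exists_congr_one (σ := P.σ) P.σσ
    (by
      by_contra hne
      push Not at hne
      have := P.hσ2
      rw [show P.σ = 1 from RingEquiv.ext hne, orderOf_one] at this
      exact absurd this (by decide))
    (fun a ha => by
      by_cases ha0 : a = 0
      · exact ⟨0, by rw [ha0, zero_mul]⟩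
      · obtain ⟨x, hx⟩ := P.exists_norm (c := Units.mk0 a ha0) (Units.ext ha)
        exact ⟨x, congrArg Units.val hx⟩)
    (k • P.E h) (by
      rw [← glMap_coe, show glMap P.σ (k • P.E h) = (K (k • P.E h))⁻¹ from hM, ← map_inv,
        GraphPSL.contraHom_inv_coe, Matrix.transpose_transpose])
  set B := (K B')⁻¹ with hBdef
  have hB : (K B)⁻¹ * P.S B = k • P.E h := by
    refine Units.ext ?_
    rw [hB', Units.val_mul]
    congr 1
  obtain ⟨s, hs⟩ := P.exists_norm (c := c) (P.fixed_units c₀)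
  have hSM := P.S_form hB
  rw [hk] at hSM
  have hmem : s • (B * (P.S B)⁻¹) ∈ Cfsg.GU n F q := by
    rw [P.mem_GU]
    have hfold : ∀ z, (K B)⁻¹ * (P.S B * z) = k • (P.E h * z) := fun z => by rw [← mul_assoc, hB, gsmul_mul]
    simp only [contra_smul, P.S_smul, ginv_smul, map_mul, map_inv, _root_.mul_inv_rev, inv_inv, P.S_S,
      gsmul_mul, gmul_smul, smul_smul, mul_assoc, hfold]
    rw [mul_left_comm, ← mul_assoc, hs, ← gmul_smul, ← gsmul_mul, ← hSM, mul_assoc, mul_inv_cancel, mul_one, mul_inv_cancel]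
  have hsq : s • (B * (P.S B)⁻¹) * P.S (s • (B * (P.S B)⁻¹)) = (s * umap P.σ s) • 1 := by
    simp only [P.S_smul, map_mul, map_inv, P.S_S, gsmul_mul, gmul_smul, smul_smul, mul_assoc, inv_mul_cancel_left,
      mul_inv_cancel]
    rw [mul_comm]
  exact ⟨_, ⟨P.isGraph ⟨_, hmem⟩, P.orderOf_eq_two (A := ⟨_, hmem⟩) hsq⟩, B, k, s, ⟨_, hmem⟩, hB, rfl, rfl⟩

theorem exists_rep {γ : MulAut (Cfsg.PSU n F q)} (hγ : Cfsg.IsGraphAutClassPSU γ) (hγ2 : orderOf γ = 2) :
    ∃ h : GL (Fin n) F₀, P.Rep γ h := by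
  obtain ⟨-, δ, φ, τ, hτ, hδ, hφ, rfl⟩ := hγ
  obtain ⟨A, rfl⟩ := Unitary.exists_of_isInnerDiagonal hδ
  obtain rfl := Unitary.eq_semiAut_of_isFieldAut hφ
  have hτ2 : τ = P.σ := by
    refine PSLGraphField.eq_of_orderOf_two P.hσ2 ?_
    have h1 := pow_orderOf_eq_one (semiAut A (RingEquiv.refl F) * semiAut (1 : Cfsg.GU n F q) τ)
    rw [hγ2, ← Unitary.semiAut_split P.hF, pow_two, Unitary.semiAut_mul P.hF] at h1
    have h2 := semiAut_inj_field P.hF P.hn (h1.trans Unitary.semiAut_one.symm)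
    have hdvd : orderOf τ ∣ 2 := orderOf_dvd_of_pow_eq_one (by rw [pow_two]; exact h2)
    rcases (Nat.dvd_prime Nat.prime_two).1 hdvd with e | e
    · rw [e] at hτ; exact absurd hτ (by decide)
    · exact e
  subst hτ2
  rw [← diagHom_apply P.hF] at hγ2 ⊢
  have h1 := pow_orderOf_eq_one (diagHom P.hF A * semiAut (1 : Cfsg.GU n F q) P.σ)
  rw [hγ2, P.square_formula, diag_eq_one_iff P.hF P.hn, Subgroup.coe_mul, coe_theta] at h1
  obtain ⟨μ, hμ⟩ := h1
  rw [zone] at hμ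
  have hμ' : P.S (A : GL (Fin n) F) * (A : GL (Fin n) F) = μ • 1 := by
    rw [eq_inv_mul_iff_mul_eq.2 hμ, gmul_smul, gsmul_mul, mul_one, inv_mul_cancel]
  have hμfix : umap P.σ μ = μ := by
    have h2 := congrArg P.S hμ
    rw [map_mul, P.S_S, hμ', P.S_smul, map_one] at h2
    exact (smul_inj P.n_pos h2).symm
  obtain ⟨s, hs⟩ := P.exists_norm (c := μ⁻¹) (by rw [map_inv, hμfix])
  have hnp : normProd (glMap P.σ) (s • (A : GL (Fin n) F)) (orderOf P.σ) = 1 := by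
    rw [P.hσ2]
    simp only [normProd, map_one, mul_one, glMap_smul, gsmul_mul, gmul_smul, smul_smul]
    rw [hμ, smul_smul, mul_comm (umap P.σ s) s, hs, inv_mul_cancel, one_smul]
  obtain ⟨B, hBA⟩ := descent P.σ hnp
  rw [map_inv] at hBA
  have hA : (A : GL (Fin n) F) = s⁻¹ • (B * (P.S B)⁻¹) := by rw [← hBA, inv_smul_smul]
  set Q := (K B)⁻¹ * P.S B with hQ
  have hfold : ∀ z, (K B)⁻¹ * (P.S B * z) = Q * z := fun z => (mul_assoc _ _ _).symm
  have h2 := (P.mem_GU _).1 A.2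
  rw [hA] at h2
  simp only [contra_smul, P.S_smul, ginv_smul, map_mul, map_inv, _root_.mul_inv_rev, inv_inv, P.S_S,
    gsmul_mul, gmul_smul, smul_smul, mul_assoc, hfold] at h2
  rw [← mul_inv, mul_comm (umap P.σ s), hs, inv_inv] at h2
  have hSQ : P.S Q = μ • Q := by
    have h3 := congrArg (fun x => (K (P.S B))⁻¹ * (x * B)) h2
    simp only [gsmul_mul, gmul_smul, mul_assoc, inv_mul_cancel_left, inv_mul_cancel, mul_one, one_mul] at h3
    rw [h3, hQ, map_mul, map_inv, P.S_S, P.S_K]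
  obtain ⟨k, h, hh⟩ := P.exists_E hSQ
  exact ⟨h, B, k, s⁻¹, A, hh, hA, rfl⟩

/-- The dictionary. -/
noncomputable def setup : Setup F₀ n (Cfsg.inndiagPSU n F q)
    (fun γ : MulAut (Cfsg.PSU n F q) => Cfsg.IsGraphAutClassPSU γ ∧ orderOf γ = 2) where
  Rep γ H := ∃ h : GL (Fin n) F₀, (h : Matrix (Fin n) (Fin n) F₀) = H ∧ P.Rep γ h
  exists_rep := fun γ ⟨hγ, hγ2⟩ => by
    obtain ⟨h, hh⟩ := P.exists_rep hγ hγ2
    exact ⟨_, P.good_of_rep hh, h, rfl, hh⟩
  exists_aut := fun H hH => by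
    obtain ⟨γ, h1, h2⟩ := P.exists_aut (h := GeneralLinearGroup.mkOfDetNeZero H hH.1) hH
    exact ⟨γ, h1, _, rfl, h2⟩
  conj_iff := by
    rintro γ γ' _ _ ⟨h, rfl, hR⟩ ⟨h', rfl, hR'⟩
    rw [P.conj_iff hR hR', congr_iff_matrix]
    constructor
    · rintro ⟨Y, l, e⟩
      refine ⟨Y⁻¹, l, ?_⟩
      have e' : h' = l • (K Y⁻¹⁻¹ * h * Y⁻¹) := by
        have := congrArg (fun x => K Y * (x * Y⁻¹)) e
        simp only [gsmul_mul, gmul_smul, mul_assoc, mul_inv_cancel_left, mul_inv_cancel, mul_one] at this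
        rw [this, inv_inv, mul_assoc]
      conv_lhs => rw [e']
      rw [coe_smul, Units.val_mul, Units.val_mul, GraphPSL.contraHom_inv_coe]
    · rintro ⟨Y, l, e⟩
      have e' : h' = l • (K Y⁻¹ * h * Y) := Units.ext (by
        rw [e, coe_smul, Units.val_mul, Units.val_mul, GraphPSL.contraHom_inv_coe])
      refine ⟨Y⁻¹, l, ?_⟩
      rw [e']
      simp only [map_inv, inv_inv, gsmul_mul, gmul_smul, mul_assoc, mul_inv_cancel_left, mul_inv_cancel, mul_one]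
  iso := by
    rintro γ _ ⟨h, rfl, hR⟩
    exact P.iso hR

end Frame

end Cfsg.Agent.H58.GraphPSU
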