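import Mathlib
import Cfsg.Agent.H58.GraphPSU
import Cfsg.Agent.H58.GraphIndex
import Cfsg.Agent.H58.FormInvariants

/-!
# Frames exist; splitting of the classes of graph automorphisms of `PSU_n`
-/

set_option autoImplicit false
set_option linter.unusedSectionVars false

namespace Cfsg.Agent.H58.GraphPSUSplit

open Matrix Cfsg.Agent.H58.PSLTwist Cfsg.Agent.H58.Descent Cfsg.Agent.H58.Twist
  Cfsg.Agent.H58.FormSim Cfsg.Agent.H58.GraphGeneric Cfsg.Agent.H58.UnitaryTwist Cfsg.Agent.H58.GLScalar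
  Cfsg.Agent.H58.GraphPSU Cfsg.Agent.H58.FormInvariants
open Cfsg.Agent.Unitary (diagHom semiAut inndiagPSU_eq)

variable {F : Type*} [Field F] [Fintype F] {F₀ : Type*} [Field F₀] [Fintype F₀] {n q : ℕ}

theorem exists_frame (hF : Fintype.card F = q ^ 2) (hn : 3 ≤ n) (hF₀ : Fintype.card F₀ = q) :
    Nonempty (Frame F F₀ n q) := by
  obtain ⟨p, f, hp, hf, hchar, hqe⟩ := Unitary.exists_char_pow hF
  have : Fact p.Prime := ⟨hp⟩
  set σ := Unitary.frob hF with hσdef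
  have hσ : ∀ a : F, σ a = a ^ q := Unitary.frob_apply hF
  have hne : ∃ a : F, a ^ q ≠ a := by
    by_contra hcon
    push Not at hcon
    obtain ⟨b, hb⟩ := Unitary.exists_trace_ne_zero hF
    obtain ⟨δ, hδ0, hδ⟩ := Unitary.exists_skew hF
    have h2 : (2 : F) * δ = 0 := by linear_combination (hcon δ).symm.trans hδ
    have h3 : (2 : F) = 0 := (mul_eq_zero.1 h2).resolve_right hδ0
    exact hb (by rw [hcon b]; linear_combination b * h3)
  have hord : orderOf σ = 2 := by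
    have := Fact.mk Nat.prime_two
    refine orderOf_eq_prime (RingEquiv.ext fun a => ?_) ?_
    · rw [pow_two]
      show σ (σ a) = a
      rw [hσ, hσ, Unitary.pow_q_q hF]
    · intro h
      obtain ⟨a, ha⟩ := hne
      exact ha (by rw [← hσ, h]; rfl)
  have hF' : Fintype.card F = p ^ (2 * f) := by rw [hF, hqe, ← pow_mul, mul_comm]
  obtain ⟨e, he, he'⟩ := PSLCentralizer.exists_subfield_hom hF' σ F₀
    (by rw [hF₀, hord, Nat.mul_div_cancel_left f (by norm_num), hqe])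
  exact ⟨⟨hF, hn, σ, hσ, hord, e, he, he'⟩⟩

/-- Splitting of a class of the inner-diagonal group of `PSU`. -/
theorem splitClassCount_eq (hF : Fintype.card F = q ^ 2) (hn : 3 ≤ n) (γ : MulAut (Cfsg.PSU n F q)) :
    Cfsg.splitClassCount (Cfsg.inndiagPSU n F q) (Cfsg.Inn (Cfsg.PSU n F q)) γ
      = (((Subgroup.centralizer {γ}).comap (diagHom (n := n) hF)).map (detU hF) ⊔
          (powMonoidHom n : (powMonoidHom (q + 1) : Fˣ →* Fˣ).ker →* (powMonoidHom (q + 1) : Fˣ →* Fˣ).ker).range).index := by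
  have : (Cfsg.Inn (Cfsg.PSU n F q)).Normal := Cfsg.Agent.H58.PSLTwist.Inn_normal
  have hle : Cfsg.Inn (Cfsg.PSU n F q) ≤ Cfsg.inndiagPSU n F q := by
    rw [inndiagPSU_eq hF, Inn_eq_map hF (by omega)]
    exact MonoidHom.range_eq_map (diagHom (n := n) hF) ▸ Subgroup.map_mono le_top
  set L := (Subgroup.centralizer {γ}).comap (diagHom (n := n) hF) with hL
  have hC : (diagHom (n := n) hF).range ⊓ Subgroup.centralizer {γ} = L.map (diagHom hF) := by
    rw [hL, Subgroup.map_comap_eq]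
  rw [splitClassCount_eq_relIndex hle, Inn_eq_map hF (by omega), inndiagPSU_eq hF, hC, ← Subgroup.map_sup,
    MonoidHom.range_eq_map (diagHom hF), Subgroup.relIndex_map_map, top_sup_eq, Subgroup.relIndex_top_right]
  set N := (detU (n := n) hF).ker ⊔ L ⊔ (diagHom (n := n) hF).ker with hN
  have h := Subgroup.index_map N (detU hF)
  rw [MonoidHom.range_eq_top.mpr (detU_surjective hF (by omega : 0 < n)), Subgroup.index_top, mul_one,
    sup_eq_left.mpr (le_sup_left.trans le_sup_left : (detU hF).ker ≤ N)] at h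
  rw [← h, hN, Subgroup.map_sup, Subgroup.map_sup, Subgroup.map_eq_bot_iff _ |>.mpr le_rfl, bot_sup_eq]
  congr 2
  set U := (powMonoidHom (q + 1) : Fˣ →* Fˣ).ker with hUdef
  ext u
  constructor
  · rintro ⟨A, hA, rfl⟩
    obtain ⟨c, hc⟩ := (diag_eq_one_iff hF hn A).1 (MonoidHom.mem_ker.1 hA)
    refine ⟨⟨c, Units.ext (by simpa [pow_succ'] using norm_of_scalar hF (by omega) hc)⟩, Subtype.ext ?_⟩
    show c ^ n = GeneralLinearGroup.det (A : GL (Fin n) F)
    rw [hc, PSLCentralizer.det_scalar']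
  · rintro ⟨c, rfl⟩
    have hc : ((c : Fˣ) : F) * ((c : Fˣ) : F) ^ q = 1 := by
      have := congrArg Units.val (MonoidHom.mem_ker.1 c.2)
      simpa [pow_succ'] using this
    refine ⟨⟨_, scalar_mem_GU hF hc⟩, MonoidHom.mem_ker.2 ((diag_eq_one_iff hF hn _).2 ⟨c, rfl⟩), Subtype.ext ?_⟩
    exact PSLCentralizer.det_scalar' (c : Fˣ)

variable (P : Frame F F₀ n q)

set_option quotPrecheck false in
local notation "U" => (powMonoidHom (q + 1) : Fˣ →* Fˣ).ker

theorem umap_eq_pow (x : Fˣ) : umap P.σ x = x ^ q := Units.ext (by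
  rw [umap_coe, P.hσ, Units.val_pow_eq_pow_val])

/-- `a / σ a` lies in the norm-one group. -/
theorem div_mem (a : Fˣ) : a * (umap P.σ a)⁻¹ ∈ U := by
  rw [MonoidHom.mem_ker, powMonoidHom_apply, pow_succ, ← umap_eq_pow P, map_mul, map_inv, P.UU]
  simp [mul_comm, mul_left_comm]

theorem exists_div {v : Fˣ} (hv : v ∈ U) : ∃ b : Fˣ, v = b * (umap P.σ b)⁻¹ := by
  refine descent_units P.σ ?_
  rw [P.hσ2]
  rw [MonoidHom.mem_ker, powMonoidHom_apply, pow_succ', ← umap_eq_pow P] at hv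
  simpa [normProd] using hv

theorem sims_iff {h : GL (Fin n) F₀} {Y : GL (Fin n) F₀} {l : F₀ˣ} :
    (contraHom Y)⁻¹ * h * Y = l • h ↔
      Sims (h : Matrix (Fin n) (Fin n) F₀) (Y : Matrix (Fin n) (Fin n) F₀) (l : F₀) := by
  rw [Units.ext_iff, Units.val_mul, Units.val_mul, ← map_inv, GraphPSL.contraHom_inv_coe, coe_smul]
  rfl

/-- The determinants of the centraliser. -/
theorem mem_det {γ : MulAut (Cfsg.PSU n F q)} {h : GL (Fin n) F₀} (hR : P.Rep γ h) (d : U) :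
    d ∈ ((Subgroup.centralizer {γ}).comap (diagHom (n := n) P.hF)).map (detU P.hF) ↔
      ∃ (a : Fˣ) (Y : GL (Fin n) F₀) (l : F₀ˣ), Sims (h : Matrix (Fin n) (Fin n) F₀) (Y : Matrix (Fin n) (Fin n) F₀) (l : F₀) ∧
        a * umap P.σ a * P.u l = 1 ∧ (d : Fˣ) = a ^ n * P.u (GeneralLinearGroup.det Y) := by
  obtain ⟨B, k, s, A, hB, hA, rfl⟩ := hR
  have hdet : ∀ (a : Fˣ) (Y : GL (Fin n) F₀),
      GeneralLinearGroup.det (a • (B * P.E Y * B⁻¹)) = a ^ n * P.u (GeneralLinearGroup.det Y) := fun a Y => by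
    rw [det_smul', map_mul, map_mul, map_inv, mul_inv_cancel_comm]
    congr 1
    exact Units.ext (P.e.map_det _).symm
  constructor
  · rintro ⟨C, hC, rfl⟩
    obtain ⟨a, Y, hY⟩ := (P.transporter (C := C) hA hA).1
      (mul_inv_eq_iff_eq_mul.2 (Subgroup.mem_centralizer_singleton_iff.1 (Subgroup.mem_comap.1 hC))).symm
    obtain ⟨l, hu, hl⟩ := P.descend ((P.transporter_mem hB hB).1 (hY ▸ C.2))
    refine ⟨a, Y, l, sims_iff.1 hl, ?_, ?_⟩
    · rw [hu, ← mul_assoc, _root_.mul_inv_rev]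
      simp [mul_comm, mul_left_comm]
    · show GeneralLinearGroup.det (C : GL (Fin n) F) = _
      rw [hY, hdet]
  · rintro ⟨a, Y, l, hl, hN, hd⟩
    have hmem : a • (B * P.E Y * B⁻¹) ∈ Cfsg.GU n F q := by
      refine (P.transporter_mem hB hB).2 ?_
      rw [sims_iff.2 hl, P.E_smul, eq_inv_of_mul_eq_one_left ((mul_comm _ _).trans hN)]
      congr 1
      simp [mul_comm]
    refine ⟨⟨_, hmem⟩, Subgroup.mem_comap.2 (Subgroup.mem_centralizer_singleton_iff.2
      (mul_inv_eq_iff_eq_mul.1 ((P.transporter (C := ⟨_, hmem⟩) hA hA).2 ⟨a, Y, rfl⟩).symm)), Subtype.ext ?_⟩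
    exact (hdet a Y).trans hd.symm

theorem key_pow {a : Fˣ} {l : F₀ˣ} (hN : a * umap P.σ a * P.u l = 1) (m : ℕ) :
    a ^ (2 * m) * P.u (l ^ m) = (a * (umap P.σ a)⁻¹) ^ m := by
  rw [map_pow, pow_mul, ← mul_pow, eq_inv_of_mul_eq_one_right hN, _root_.mul_inv_rev, pow_two]
  congr 1
  simp [mul_comm]

theorem key_pow' {a : Fˣ} {l : F₀ˣ} (hN : a * umap P.σ a * P.u l = 1) {m : ℕ} (hnm : n = 2 * m) :
    a ^ n * P.u (l ^ m) = (a * (umap P.σ a)⁻¹) ^ m := by
  have e : a ^ n = a ^ (2 * m) := congrArg (a ^ ·) hnm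
  rw [e, key_pow P hN m]

theorem det_sq_eq {h Y : GL (Fin n) F₀} {l : F₀ˣ}
    (hs : Sims (h : Matrix (Fin n) (Fin n) F₀) (Y : Matrix (Fin n) (Fin n) F₀) (l : F₀)) :
    GeneralLinearGroup.det Y ^ 2 = l ^ n := Units.ext (by
  rw [Units.val_pow_eq_pow_val, Units.val_pow_eq_pow_val, GeneralLinearGroup.val_det_apply,
    det_sq (GeneralLinearGroup.det_ne_zero h) hs, Fintype.card_fin])

theorem exists_lift_det {γ : MulAut (Cfsg.PSU n F q)} {h : GL (Fin n) F₀} (hR : P.Rep γ h) {m : ℕ} (hnm : n = 2 * m)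
    (he : ∀ c : F₀, ∃ g, Sims (h : Matrix (Fin n) (Fin n) F₀) g c ∧ g.det = c ^ m) (v : U) :
    v ^ m ∈ ((Subgroup.centralizer {γ}).comap (diagHom (n := n) P.hF)).map (detU P.hF) := by
  obtain ⟨b, hb⟩ := exists_div P v.2
  obtain ⟨l, hl⟩ := P.exists_fixed_units (c := (b * umap P.σ b)⁻¹) (by
    rw [map_inv, map_mul, P.UU, mul_comm])
  obtain ⟨g, hg, hdet⟩ := he (l : F₀)
  let Y := GeneralLinearGroup.mkOfDetNeZero g (hdet ▸ pow_ne_zero _ l.ne_zero)
  have hN : b * umap P.σ b * P.u l = 1 := by rw [hl, mul_inv_cancel]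
  refine (mem_det P hR _).2 ⟨b, Y, l, hg, hN, ?_⟩
  rw [show GeneralLinearGroup.det Y = l ^ m from Units.ext (hdet.trans (Units.val_pow_eq_pow_val l m).symm),
    key_pow' P hN hnm, ← hb]
  rfl

theorem det_skew {γ : MulAut (Cfsg.PSU n F q)} {h : GL (Fin n) F₀} (hR : P.Rep γ h) (h2 : (2 : F₀) ≠ 0)
    (hs : (h : Matrix (Fin n) (Fin n) F₀)ᵀ = (-1 : F₀) • (h : Matrix (Fin n) (Fin n) F₀)) {m : ℕ} (hnm : n = 2 * m) :
    ((Subgroup.centralizer {γ}).comap (diagHom (n := n) P.hF)).map (detU P.hF) = (powMonoidHom m : U →* U).range := by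
  obtain ⟨m', hm', hu, he⟩ := skew_det h2 (GeneralLinearGroup.det_ne_zero h) hs
  obtain rfl : m' = m := by rw [Fintype.card_fin] at hm'; omega
  ext d
  constructor
  · intro hd
    obtain ⟨a, Y, l, hl, hN, hd⟩ := (mem_det P hR d).1 hd
    refine ⟨⟨_, div_mem P a⟩, Subtype.ext ?_⟩
    rw [hd, show GeneralLinearGroup.det Y = l ^ m' from Units.ext ((hu _ _ l.ne_zero hl).trans
      (Units.val_pow_eq_pow_val l m').symm), key_pow' P hN hnm]
    rfl
  · rintro ⟨v, rfl⟩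
    exact exists_lift_det P hR hnm he v

theorem det_symm {γ : MulAut (Cfsg.PSU n F q)} {h : GL (Fin n) F₀} (hR : P.Rep γ h) (h2 : (2 : F₀) ≠ 0)
    (hs : (h : Matrix (Fin n) (Fin n) F₀)ᵀ = (h : Matrix (Fin n) (Fin n) F₀)) {j : ℕ} (hnm : n = 2 * (j + 1)) :
    ((Subgroup.centralizer {γ}).comap (diagHom (n := n) P.hF)).map (detU P.hF)
      = (powMonoidHom 2 : U →* U).ker ⊔ (powMonoidHom (j + 1) : U →* U).range := by
  have hd := GeneralLinearGroup.det_ne_zero h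
  refine le_antisymm (fun d hd' => ?_) (sup_le (fun d hd' => ?_) ?_)
  · obtain ⟨a, Y, l, hl, hN, hdd⟩ := (mem_det P hR d).1 hd'
    set v : U := ⟨_, div_mem P a⟩ with hv
    rw [← inv_mul_cancel_right d (v ^ (j + 1))]
    refine Subgroup.mul_mem_sup ?_ ⟨v, rfl⟩
    rw [MonoidHom.mem_ker, powMonoidHom_apply]
    refine Subtype.ext ?_
    show ((d : Fˣ) * ((a * (umap P.σ a)⁻¹) ^ (j + 1))⁻¹) ^ 2 = 1
    have e : l ^ n = (l ^ (j + 1)) ^ 2 := by rw [← pow_mul]; exact congrArg (l ^ ·) (hnm.trans (mul_comm _ _))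
    rw [← key_pow' P hN hnm, hdd, mul_pow, inv_pow, mul_inv_eq_one, mul_pow, mul_pow, ← map_pow,
      det_sq_eq hl, e, ← map_pow]
  · rw [MonoidHom.mem_ker, powMonoidHom_apply, pow_two] at hd'
    have hd2 : ((d : Fˣ) : F) * ((d : Fˣ) : F) = 1 := congrArg (fun x : U => ((x : Fˣ) : F)) hd'
    rcases mul_self_eq_one_iff.1 hd2 with e | e
    · rw [show d = 1 from Subtype.ext (Units.ext e)]; exact one_mem _
    · obtain ⟨g, hg, hdet⟩ := exists_refl h2 hs hd (by rw [Fintype.card_fin]; omega)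
      refine (mem_det P hR d).2 ⟨1, GeneralLinearGroup.mkOfDetNeZero g (hdet ▸ neg_ne_zero.2 one_ne_zero), 1, ?_, ?_, ?_⟩
      · rw [Units.val_one]; exact hg
      · rw [map_one, map_one, mul_one, mul_one]
      · refine Units.ext ?_
        rw [e, one_pow, one_mul]
        show _ = P.e g.det
        rw [hdet, map_neg, map_one]
  · rintro _ ⟨v, rfl⟩
    exact exists_lift_det P hR hnm (fun c => symm_exists_sim h2 hs hd (k := j) (by rw [Fintype.card_fin]; omega) c) v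

theorem det_small {γ : MulAut (Cfsg.PSU n F q)} {h : GL (Fin n) F₀} (hR : P.Rep γ h) (hn : Odd n ∨ Even q) :
    ((Subgroup.centralizer {γ}).comap (diagHom (n := n) P.hF)).map (detU P.hF) ≤ (powMonoidHom n : U →* U).range := by
  intro d hd
  obtain ⟨a, Y, l, hl, hN, hdd⟩ := (mem_det P hR d).1 hd
  have hsq : d ^ 2 ∈ (powMonoidHom n : U →* U).range := by
    refine ⟨⟨_, div_mem P a⟩, Subtype.ext ?_⟩
    show (a * (umap P.σ a)⁻¹) ^ n = (d : Fˣ) ^ 2
    rw [← key_pow P hN, hdd, mul_pow, ← map_pow, det_sq_eq hl, ← pow_mul, mul_comm n 2]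
  rcases hn with hn | hn
  · exact GraphIndex.mem_range_of_sq hn hsq
  · obtain ⟨r, hr⟩ := hn
    have h1 : (d ^ 2) ^ (r + 1) = d := by
      have hq1 : d ^ (q + 1) = 1 := Subtype.ext d.2
      rw [← pow_mul, show 2 * (r + 1) = q + 1 + 1 by omega, pow_succ, hq1, one_mul]
    exact h1 ▸ Subgroup.pow_mem _ hsq _

theorem split_count {p f : ℕ} [Fact p.Prime] (hq : q = p ^ f) (hf : 1 ≤ f) (hF₀ : Fintype.card F₀ = q)
    (P : Frame F F₀ n q) {γ : MulAut (Cfsg.PSU n F q)} (hγ : Cfsg.IsGraphAutClassPSU γ) (hγ2 : orderOf γ = 2) :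
    ((Even n ∧ Odd q ∧ Nonempty (↥(Cfsg.inndiagPSU n F q ⊓ Subgroup.centralizer {γ}) ≃* Cfsg.PGSp (n / 2) F₀)) →
      Cfsg.splitClassCount (Cfsg.inndiagPSU n F q) (Cfsg.Inn (Cfsg.PSU n F q)) γ = Nat.gcd (n / 2) (q + 1)) ∧
    ((Even n ∧ Odd q ∧ ¬ Nonempty (↥(Cfsg.inndiagPSU n F q ⊓ Subgroup.centralizer {γ}) ≃* Cfsg.PGSp (n / 2) F₀)) →
      Cfsg.splitClassCount (Cfsg.inndiagPSU n F q) (Cfsg.Inn (Cfsg.PSU n F q)) γ = Nat.gcd n (q + 1) / 2) ∧
    (¬ (Even n ∧ Odd q) →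
      Cfsg.splitClassCount (Cfsg.inndiagPSU n F q) (Cfsg.Inn (Cfsg.PSU n F q)) γ = Nat.gcd n (q + 1)) := by
  obtain ⟨h, hR⟩ := P.exists_rep hγ hγ2
  have hh := P.good_of_rep hR
  have hn := P.hn
  have hN : Nat.card ↥(U) = q + 1 := Unitary.card_ker_pow P.hF
  rw [splitClassCount_eq P.hF hn γ]
  have hodd : Odd q → (2 : F₀) ≠ 0 := fun ho => Ring.two_ne_zero fun hc => by
    have := FiniteField.even_card_of_char_two hc
    rw [hF₀] at this
    rw [Nat.odd_iff] at ho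
    omega
  have hS : P.setup.Rep γ (h : Matrix (Fin n) (Fin n) F₀) := ⟨h, rfl, hR⟩
  refine ⟨?_, ?_, ?_⟩
  · rintro ⟨⟨m, hm⟩, ho, ⟨i⟩⟩
    have hnm : n = 2 * m := by omega
    rw [show n / 2 = m by omega] at i ⊢
    rcases hh.2 with hs | hs
    · obtain ⟨j⟩ := P.iso hR
      exact absurd ⟨j.symm.trans i⟩ (not_iso_PGSp (hodd ho) hs hh.1 (by omega) (by rw [Fintype.card_fin]; exact hnm))
    · exact (GraphIndex.index_skew (det_skew P hR (hodd ho) hs hnm) hnm).trans (by rw [hN])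
  · rintro ⟨⟨m, hm⟩, ho, hno⟩
    rcases hh.2 with hs | hs
    · refine (GraphIndex.index_symm (det_symm P hR (hodd ho) hs (j := m - 1) (by omega)) (by omega) ?_).trans
        (by rw [hN])
      rw [hN]
      obtain ⟨r, hr⟩ := ho
      exact ⟨r + 1, by omega⟩
    · refine absurd ?_ hno
      obtain ⟨j, hj, hc⟩ := FormClass.congr_J hh.1 (FormClass.alt_of_skew (hodd ho) hs)
      rw [Fintype.card_fin] at hj
      rw [show n / 2 = j by omega]
      exact P.setup.iso_of_congr hS hc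
  · intro hne
    refine (GraphIndex.index_small (det_small P hR ?_)).trans (by rw [hN])
    rcases Nat.even_or_odd n with he | he
    · exact Or.inr (Nat.not_odd_iff_even.1 fun ho => hne ⟨he, ho⟩)
    · exact Or.inl he

end Cfsg.Agent.H58.GraphPSUSplit
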