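import Mathlib
import Cfsg.Prelude.Def_Solvable
import Cfsg.Agent.Cores.PCore

/-!
# When is `O_{p'}(C_A(β))` trivial, for an almost simple group `A`?
-/

set_option autoImplicit false
set_option linter.unusedSectionVars false

namespace Cfsg.Agent.H58.LocalBalance

variable {X : Type*} [Group X] (I : Subgroup X) (p : ℕ) (β : X)

/-- No subgroup of `I ∩ C(β)` of order prime to `p` is normalised by `I ∩ C(β)`. -/
def NoPrimeSub : Prop :=
  ∀ M : Subgroup X, M ≤ I ⊓ Subgroup.centralizer {β} →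
    (∀ g ∈ I ⊓ Subgroup.centralizer {β}, ∀ x ∈ M, g * x * g⁻¹ ∈ M) → (Nat.card M).Coprime p → M = ⊥

/-- Only powers of `β` centralise both `β` and `I ∩ C(β)`. -/
def SelfCent : Prop :=
  ∀ y ∈ Subgroup.centralizer {β}, (∀ x ∈ I ⊓ Subgroup.centralizer {β}, y * x = x * y) → y ∈ Subgroup.zpowers β

variable [hI : I.Normal] [Finite X] [hp : Fact p.Prime] (G : Subgroup X) (hle : I ≤ G) {I p β}

include hle in
theorem core_ne_bot (hne : I ⊓ Subgroup.centralizer {β} ≠ ⊥)
    (hco : (Nat.card ↥(I ⊓ Subgroup.centralizer {β})).Coprime p) :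
    Cfsg.pPrimeCore p ↥(G ⊓ Subgroup.centralizer {β}) ≠ ⊥ := by
  set H := G ⊓ Subgroup.centralizer {β}
  set N := I ⊓ Subgroup.centralizer {β}
  have hNH : N ≤ H := inf_le_inf_right _ hle
  have : (N.subgroupOf H).Normal := by
    constructor
    intro x hx g
    rw [Subgroup.mem_subgroupOf] at hx ⊢
    exact ⟨hI.conj_mem _ hx.1 g.1, (Subgroup.centralizer {β}).mul_mem ((Subgroup.centralizer {β}).mul_mem g.2.2 hx.2) ((Subgroup.centralizer {β}).inv_mem g.2.2)⟩
  intro h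
  have hle' := Cores.le_pPrimeCore (N := N.subgroupOf H) (p := p)
    (by rwa [Nat.card_congr (Subgroup.subgroupOfEquivOfLe hNH).toEquiv])
  rw [h, le_bot_iff, Subgroup.subgroupOf_eq_bot] at hle'
  exact hne (hle'.eq_bot_of_le hNH)

include hle in
theorem core_eq_bot (hord : orderOf β = p) (hM : NoPrimeSub I p β) (hZ : SelfCent I β) :
    Cfsg.pPrimeCore p ↥(G ⊓ Subgroup.centralizer {β}) = ⊥ := by
  set H := G ⊓ Subgroup.centralizer {β}
  set N := I ⊓ Subgroup.centralizer {β}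
  have hNH : N ≤ H := inf_le_inf_right _ hle
  set W := (Cfsg.pPrimeCore p ↥H).map H.subtype with hWdef
  have hWco : (Nat.card W).Coprime p := by
    rw [Subgroup.card_map_of_injective H.subtype_injective]
    exact Cores.coprime_card_pPrimeCore
  have hWH : W ≤ H := Subgroup.map_subtype_le _
  have hWn : ∀ g ∈ H, ∀ x ∈ W, g * x * g⁻¹ ∈ W := by
    rintro g hg _ ⟨x, hx, rfl⟩
    exact ⟨_, (inferInstance : (Cfsg.pPrimeCore p ↥H).Normal).conj_mem x hx ⟨g, hg⟩, rfl⟩
  have hWN : W ⊓ N = ⊥ := hM _ inf_le_right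
    (fun g hg x hx => ⟨hWn g (hNH hg) x hx.1, N.mul_mem (N.mul_mem hg hx.2) (N.inv_mem hg)⟩)
    (Nat.Coprime.coprime_dvd_left (Subgroup.card_dvd_of_le inf_le_left) hWco)
  rw [Subgroup.eq_bot_iff_forall]
  intro w hw
  have hwW : (w : X) ∈ W := ⟨w, hw, rfl⟩
  have hwC : (w : X) ∈ Subgroup.centralizer {β} := (w.2).2
  have hpow : (w : X) ∈ Subgroup.zpowers β := hZ _ hwC fun x hx => by
    have h1 : (w : X) * x * (w : X)⁻¹ * x⁻¹ ∈ W ⊓ N := by
      refine ⟨?_, N.mul_mem ⟨hI.conj_mem _ hx.1 _, (Subgroup.centralizer {β}).mul_mem ((Subgroup.centralizer {β}).mul_mem hwC hx.2) ((Subgroup.centralizer {β}).inv_mem hwC)⟩ (N.inv_mem hx)⟩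
      rw [show (w : X) * x * (w : X)⁻¹ * x⁻¹ = (w : X) * (x * (w : X)⁻¹ * x⁻¹) by group]
      exact W.mul_mem hwW (hWn x (hNH hx) _ (W.inv_mem hwW))
    rw [hWN, Subgroup.mem_bot, mul_inv_eq_one, mul_inv_eq_iff_eq_mul] at h1
    exact h1
  have h1 : orderOf (w : X) ∣ p := hord ▸ orderOf_dvd_of_mem_zpowers hpow
  have h2 : orderOf (w : X) ∣ Nat.card W := Subgroup.orderOf_dvd_natCard _ hwW
  have h3 : orderOf (w : X) = 1 := by
    rw [← Nat.dvd_one, ← hWco.gcd_eq_one]
    exact Nat.dvd_gcd h2 h1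
  exact Subtype.ext (orderOf_eq_one_iff.1 h3)

include hle in
/-- The criterion. -/
theorem core_ne_bot_iff (hord : orderOf β = p) (hne : I ⊓ Subgroup.centralizer {β} ≠ ⊥)
    (hM : p ∣ Nat.card ↥(I ⊓ Subgroup.centralizer {β}) → NoPrimeSub I p β) (hZ : SelfCent I β) :
    Cfsg.pPrimeCore p ↥(G ⊓ Subgroup.centralizer {β}) ≠ ⊥ ↔
      p.Coprime (Nat.card ↥(I ⊓ Subgroup.centralizer {β})) := by
  constructor
  · intro h
    rw [hp.out.coprime_iff_not_dvd]
    exact fun hd => h (core_eq_bot G hle hord (hM hd) hZ)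
  · exact fun h => core_ne_bot G hle hne h.symm

variable (I)

omit [Finite X] hp in
theorem centralizer_conj (α : X) :
    I ⊓ Subgroup.centralizer {α * β * α⁻¹} = (I ⊓ Subgroup.centralizer {β}).map (MulAut.conj α).toMonoidHom := by
  ext x
  rw [Subgroup.mem_map_equiv, MulAut.conj_symm_apply, Subgroup.mem_inf, Subgroup.mem_inf,
    Subgroup.mem_centralizer_singleton_iff, Subgroup.mem_centralizer_singleton_iff]
  constructor
  · rintro ⟨h1, h2⟩
    refine ⟨by simpa using hI.conj_mem x h1 α⁻¹, ?_⟩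
    calc α⁻¹ * x * α * β = α⁻¹ * (x * (α * β * α⁻¹)) * α := by group
      _ = _ := by rw [h2]; group
  · rintro ⟨h1, h2⟩
    refine ⟨by simpa [mul_assoc] using hI.conj_mem _ h1 α, ?_⟩
    calc x * (α * β * α⁻¹) = α * ((α⁻¹ * x * α) * β) * α⁻¹ := by group
      _ = _ := by rw [h2]; group

variable {I}

omit [Finite X] hp in
theorem noPrimeSub_conj (α : X) (h : NoPrimeSub I p β) : NoPrimeSub I p (α * β * α⁻¹) := by
  intro M hM hn hco
  rw [centralizer_conj] at hM hn
  set c := MulAut.conj α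
  have h1 : M.map c.symm.toMonoidHom = ⊥ := by
    refine h _ ?_ ?_ ?_
    · rintro _ ⟨x, hx, rfl⟩
      obtain ⟨y, hy, rfl⟩ := hM hx
      simpa using hy
    · rintro g hg _ ⟨x, hx, rfl⟩
      exact ⟨_, hn _ ⟨g, hg, rfl⟩ x hx, by simp⟩
    · rwa [Subgroup.card_map_of_injective c.symm.injective]
  exact (Subgroup.map_eq_bot_iff_of_injective _ c.symm.injective).1 h1

omit [Finite X] hp in
theorem selfCent_conj (α : X) (h : SelfCent I β) : SelfCent I (α * β * α⁻¹) := by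
  intro y hy hc
  set c := MulAut.conj α
  have h1 : c.symm y ∈ Subgroup.zpowers β := by
    refine h _ ?_ fun x hx => ?_
    · rw [Subgroup.mem_centralizer_singleton_iff] at hy ⊢
      refine c.injective ?_
      rw [map_mul, map_mul, MulEquiv.apply_symm_apply]
      exact hy
    · refine c.injective ?_
      rw [map_mul, map_mul, MulEquiv.apply_symm_apply]
      exact hc _ (by rw [centralizer_conj]; exact ⟨x, hx, rfl⟩)
  obtain ⟨k, hk⟩ := h1
  refine ⟨k, ?_⟩
  show (α * β * α⁻¹) ^ k = y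
  rw [conj_zpow, show β ^ k = c.symm y from hk]
  simp [c, mul_assoc]

omit [Finite X] hp hI in
/-- A criterion for `NoPrimeSub`. -/
theorem noPrimeSub_of {S : Subgroup X} (hS : S ≤ I ⊓ Subgroup.centralizer {β})
    (hnorm : ∀ g ∈ I ⊓ Subgroup.centralizer {β}, ∀ x ∈ S, g * x * g⁻¹ ∈ S)
    (hsub : ∀ M : Subgroup X, M ≤ S → (∀ g ∈ S, ∀ x ∈ M, g * x * g⁻¹ ∈ M) → (Nat.card M).Coprime p → M = ⊥)
    (hC : ∀ x ∈ I ⊓ Subgroup.centralizer {β}, (∀ s ∈ S, x * s = s * x) → x = 1) :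
    NoPrimeSub I p β := by
  intro M hM hn hco
  have h0 : M ⊓ S = ⊥ := hsub _ inf_le_right
    (fun g hg x hx => ⟨hn g (hS hg) x hx.1, S.mul_mem (S.mul_mem hg hx.2) (S.inv_mem hg)⟩)
    (Nat.Coprime.coprime_dvd_left (Subgroup.card_dvd_of_le inf_le_left) hco)
  rw [Subgroup.eq_bot_iff_forall]
  refine fun x hx => hC x (hM hx) fun s hs => ?_
  have h1 : x * s * x⁻¹ * s⁻¹ ∈ M ⊓ S := by
    refine ⟨?_, S.mul_mem (hnorm x (hM hx) s hs) (S.inv_mem hs)⟩
    rw [show x * s * x⁻¹ * s⁻¹ = x * (s * x⁻¹ * s⁻¹) by group]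
    exact M.mul_mem hx (hn s (hS hs) _ (M.inv_mem hx))
  rw [h0, Subgroup.mem_bot, mul_inv_eq_one, mul_inv_eq_iff_eq_mul] at h1
  exact h1

omit [Finite X] hI in
/-- Transport of the condition on normal subgroups to an abstract copy. -/
theorem sub_of_hom {Y : Type*} [Group Y] (f : Y →* X) (hf : Function.Injective f)
    (h : ∀ N : Subgroup Y, N.Normal → (Nat.card N).Coprime p → N = ⊥)
    (M : Subgroup X) (hM : M ≤ f.range) (hn : ∀ g ∈ f.range, ∀ x ∈ M, g * x * g⁻¹ ∈ M)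
    (hco : (Nat.card M).Coprime p) : M = ⊥ := by
  have h1 : M.comap f = ⊥ := by
    refine h _ ⟨fun x hx g => ?_⟩ ?_
    · rw [Subgroup.mem_comap, map_mul, map_mul, map_inv]
      exact hn _ ⟨g, rfl⟩ _ hx
    · rwa [← Subgroup.card_map_of_injective (K := M.comap f) hf, Subgroup.map_comap_eq_self hM]
  rw [← Subgroup.map_comap_eq_self hM, h1, Subgroup.map_bot]

/-- A simple group of order divisible by `p` has no non-trivial normal subgroup of order prime to `p`. -/
theorem simple_normal {Y : Type*} [Group Y] [IsSimpleGroup Y] (hd : p ∣ Nat.card Y) (N : Subgroup Y) (hN : N.Normal)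
    (hco : (Nat.card N).Coprime p) : N = ⊥ := by
  refine hN.eq_bot_or_eq_top.resolve_right fun h => ?_
  rw [h, Subgroup.card_top] at hco
  exact hp.out.not_dvd_one (hco.gcd_eq_one ▸ Nat.dvd_gcd hd dvd_rfl)

omit [Finite X] in
/-- `Inn ∩ C(β)` is the fixed point group of `β`. -/
theorem card_inn_inf_centralizer {K : Type*} [Group K] (hinj : Function.Injective (MulAut.conj : K →* MulAut K))
    (γ : MulAut K) :
    Nat.card ↥((MulAut.conj : K →* MulAut K).range ⊓ Subgroup.centralizer {γ})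
      = Nat.card ↥(MonoidHom.eqLocus γ.toMonoidHom (MonoidHom.id K)) := by
  rw [← Subgroup.card_map_of_injective hinj]
  congr 2
  ext y
  constructor
  · rintro ⟨⟨k, rfl⟩, hk'⟩
    refine ⟨k, hinj ?_, rfl⟩
    have hk : MulAut.conj k * γ = γ * MulAut.conj k := Subgroup.mem_centralizer_singleton_iff.1 hk'
    show MulAut.conj (γ k) = MulAut.conj k
    rw [show MulAut.conj (γ k) = γ * MulAut.conj k * γ⁻¹ from MulEquiv.ext fun z => by simp [MulAut.inv_def],
      ← hk, mul_inv_cancel_right]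
  · rintro ⟨k, hk, rfl⟩
    refine ⟨⟨k, rfl⟩, Subgroup.mem_centralizer_singleton_iff.2 (MulEquiv.ext fun z => ?_)⟩
    have hk' : γ k = k := hk
    simp [hk']

end Cfsg.Agent.H58.LocalBalance
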