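import Mathlib
import Cfsg.Agent.H58.OrthoOuter
import Cfsg.Agent.H51.ClassSplit
import Cfsg.Agent.Orthogonal.StdForms

/-!
# Similitudes preserving the two classes of maximal totally singular subspaces
-/

set_option autoImplicit false
set_option linter.unusedSectionVars false

namespace Cfsg.Agent.H58.OrthoClasses

open Matrix Module Cfsg.Agent.Orthogonal Cfsg.Agent.H58.OrthoAut Cfsg.Agent.H58.OrthoKlein
open QuadraticMap (polar)

section Split

variable {K : Type*} [Field K] [Fintype K] {ι : Type} [Fintype ι] [DecidableEq ι] {Q : QuadraticForm K (ι → K)}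
  {N : ℕ}

/-- The subspace `x ⊕ 0`. -/
def inlSpace (K : Type*) [Field K] (N : ℕ) : Submodule K (Fin N ⊕ Fin N → K) :=
  LinearMap.ker (LinearMap.funLeft K K (Sum.inr : Fin N → Fin N ⊕ Fin N))

theorem mem_inlSpace {v : Fin N ⊕ Fin N → K} : v ∈ inlSpace K N ↔ ∀ i, v (.inr i) = 0 := by
  rw [inlSpace, LinearMap.mem_ker, funext_iff]
  rfl

theorem finrank_inlSpace : finrank K (inlSpace K N) = N := by
  have h := LinearMap.finrank_range_add_finrank_ker (LinearMap.funLeft K K (Sum.inr : Fin N → Fin N ⊕ Fin N))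
  rw [LinearMap.range_eq_top.2 (LinearMap.funLeft_surjective_of_injective K K _ Sum.inr_injective), finrank_top,
    Module.finrank_fintype_fun_eq_card, Module.finrank_fintype_fun_eq_card, Fintype.card_sum, Fintype.card_fin] at h
  unfold inlSpace
  omega

/-- `c` on the first half, `1` on the second. -/
def scaleHalf (c : K) (N : ℕ) : (Fin N ⊕ Fin N → K) →ₗ[K] (Fin N ⊕ Fin N → K) :=
  Matrix.toLin' (Matrix.diagonal (Sum.elim (fun _ => c) (fun _ => 1)))

theorem det_scaleHalf (c : K) : LinearMap.det (scaleHalf c N) = c ^ N := by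
  rw [scaleHalf, LinearMap.det_toLin', Matrix.det_diagonal, Fintype.prod_sum_type]
  simp

theorem formPlus_scaleHalf (c : K) (v : Fin N ⊕ Fin N → K) :
    formPlus K N (scaleHalf c N v) = c * formPlus K N v := by
  simp only [formPlus_coe, Cfsg.quadFormPlus, scaleHalf, Matrix.toLin'_apply, Matrix.mulVec_diagonal, Sum.elim_inl,
    Sum.elim_inr, Finset.mul_sum, one_mul, mul_assoc]

theorem scaleHalf_mem {c : K} {v : Fin N ⊕ Fin N → K} (h : v ∈ inlSpace K N) : scaleHalf c N v ∈ inlSpace K N := by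
  rw [mem_inlSpace] at h ⊢
  intro i
  rw [scaleHalf, Matrix.toLin'_apply, Matrix.mulVec_diagonal, h i, mul_zero]

theorem dickson_eq_detSign (hQ : Nondeg Q) (h2 : (2 : K) ≠ 0) (g : O Q) :
    dicksonSign g = detSign Q hQ h2 g := by
  refine DFunLike.congr_fun (hom_ext_rO (φ := dickson hQ (reflGroup_eq_top_of_odd hQ h2)) hQ h2 fun v hv => ?_) g
  rw [dickson_rO hQ _ hv, detSign_rO hQ h2 hv]

/-- A similitude of a split form fixes the two classes iff its determinant is the `N`-th power of its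
multiplier. -/
theorem classes_iff (h2 : (2 : K) ≠ 0) (hN : Fintype.card ι = 2 * N)
    (E : (ι → K) ≃ₗ[K] (Fin N ⊕ Fin N → K)) (hE : ∀ x, formPlus K N (E x) = Q x)
    {g : Matrix ι ι K} {c : K} (hc : c ≠ 0) (hg : ∀ v, Q (g *ᵥ v) = c * Q v) :
    Cfsg.PreservesSingularClasses ⇑Q g ↔ g.det = c ^ N := by
  have hQ : Nondeg Q := fun x hx => E.injective (by
    rw [map_zero]
    refine formPlus_nondeg K N (E x) fun y => ?_
    rw [← E.apply_symm_apply y, ← hx (E.symm y), polar, polar, ← map_add, hE, hE, hE])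
  have hdim : finrank K (ι → K) = 2 * N := by rw [Module.finrank_fintype_fun_eq_card, hN]
  set W := (inlSpace K N).map (E.symm : (Fin N ⊕ Fin N → K) →ₗ[K] (ι → K)) with hWdef
  have hW : TotSing Q W := by
    rintro _ ⟨x, hx, rfl⟩
    rw [LinearEquiv.coe_coe, ← hE, E.apply_symm_apply, formPlus_coe, Cfsg.quadFormPlus]
    exact Finset.sum_eq_zero fun i _ => by rw [mem_inlSpace.1 hx i, mul_zero]
  have dW : finrank K W = N := by rw [hWdef, LinearEquiv.finrank_map_eq, finrank_inlSpace]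
  have hWmax : Cfsg.IsMaxTotallySingular ⇑Q W := by
    refine ⟨hW, fun U hU hle => (Submodule.eq_of_le_of_finrank_le hle ?_).symm⟩
    have := TotSing.two_mul_finrank_le hQ (W := U) hU
    omega
  have hmaxdim : ∀ U, Cfsg.IsMaxTotallySingular ⇑Q U → finrank K U = N := fun U hU => by
    rw [TotSing.finrank_eq_of_maximal hQ hU.1 hW (fun T h h' => hU.2 T h' h) (fun T h h' => hWmax.2 T h' h), dW]
  set D : (ι → K) →ₗ[K] (ι → K) :=
    (E.symm : (Fin N ⊕ Fin N → K) →ₗ[K] (ι → K)) ∘ₗ scaleHalf c N ∘ₗ (E : (ι → K) →ₗ[K] (Fin N ⊕ Fin N → K)) with hD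
  have hdetD : LinearMap.det D = c ^ N := by
    rw [hD, ← det_scaleHalf c]
    exact LinearMap.det_conj (scaleHalf c N) E.symm
  have hQD : ∀ v, Q (D v) = c * Q v := fun v => by
    rw [hD, LinearMap.comp_apply, LinearMap.comp_apply, LinearEquiv.coe_coe, LinearEquiv.coe_coe, ← hE,
      E.apply_symm_apply, formPlus_scaleHalf, hE]
  have hDu : LinearMap.det D ≠ 0 := hdetD ▸ pow_ne_zero _ hc
  let De : (ι → K) ≃ₗ[K] (ι → K) := LinearEquiv.ofInjectiveEndo D
    (LinearMap.ker_eq_bot.1 (Classical.not_not.1 fun hk => hDu (LinearMap.det_eq_zero_iff_ker_ne_bot.2 hk)))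
  have hDW : W.map D = W := by
    refine Submodule.eq_of_le_of_finrank_eq ?_ ?_
    · rintro _ ⟨_, ⟨x, hx, rfl⟩, rfl⟩
      exact ⟨scaleHalf c N x, scaleHalf_mem hx, by simp [hD]⟩
    · exact LinearEquiv.finrank_map_eq De W
  have key : ∀ h : O Q, Cfsg.SameParityClass (W.map ((h : (ι → K) ≃ₗ[K] (ι → K)) : (ι → K) →ₗ[K] (ι → K)))
      (Cfsg.imageSubmodule g (W.map ((h : (ι → K) ≃ₗ[K] (ι → K)) : (ι → K) →ₗ[K] (ι → K)))) ↔ g.det = c ^ N := by
    intro h
    set hl : (ι → K) →ₗ[K] (ι → K) := ((h : (ι → K) ≃ₗ[K] (ι → K)) : (ι → K) →ₗ[K] (ι → K)) with hhl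
    let o : O Q := h⁻¹ * hQ.ofLinear (Matrix.toLin' g ∘ₗ hl ∘ₗ (De.symm : (ι → K) →ₗ[K] (ι → K))) (fun x => by
      have h1 : Q (De.symm x) = c⁻¹ * Q x := by
        conv_rhs => rw [← De.apply_symm_apply x]
        rw [show Q (De (De.symm x)) = c * Q (De.symm x) from hQD _, inv_mul_cancel_left₀ hc]
      rw [LinearMap.comp_apply, LinearMap.comp_apply, Matrix.toLin'_apply, hg, hhl, LinearEquiv.coe_coe,
        LinearEquiv.coe_coe, O.map_app, h1, mul_inv_cancel_left₀ hc])
    have ho : hl ∘ₗ ((o : (ι → K) ≃ₗ[K] (ι → K)) : (ι → K) →ₗ[K] (ι → K)) ∘ₗ D = Matrix.toLin' g ∘ₗ hl := by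
      refine LinearMap.ext fun x => ?_
      show (h : (ι → K) ≃ₗ[K] (ι → K)) ((o : (ι → K) ≃ₗ[K] (ι → K)) (De x)) = _
      rw [← mul_app, ← Subgroup.coe_mul, mul_inv_cancel_left, Nondeg.ofLinear_app]
      simp
    have himg : Cfsg.imageSubmodule g (W.map hl)
        = (W.map ((o : (ι → K) ≃ₗ[K] (ι → K)) : (ι → K) →ₗ[K] (ι → K))).map hl := by
      rw [Cfsg.imageSubmodule, ← Submodule.map_comp, ← ho, Submodule.map_comp, Submodule.map_comp, hDW]
    have hdet : (g.det = c ^ N) ↔ LinearMap.det ((o : (ι → K) ≃ₗ[K] (ι → K)) : (ι → K) →ₗ[K] (ι → K)) = 1 := by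
      have := congrArg LinearMap.det ho
      rw [LinearMap.det_comp, LinearMap.det_comp, LinearMap.det_comp, LinearMap.det_toLin', hdetD,
        mul_comm g.det] at this
      have hl0 : LinearMap.det hl ≠ 0 := (LinearEquiv.isUnit_det' (h : (ι → K) ≃ₗ[K] (ι → K))).ne_zero
      rw [← mul_left_cancel₀ hl0 this]
      exact ⟨fun e => mul_right_cancel₀ (pow_ne_zero N hc) (e.trans (one_mul _).symm), fun e => by rw [e, one_mul]⟩
    rw [hdet, ← detSign_eq_one_iff hQ h2, ← dickson_eq_detSign hQ h2,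
      H51.dicksonSign_eq_inf hQ (reflGroup_eq_top_of_odd hQ h2) hdim hW dW, himg, Cfsg.SameParityClass,
      ← Submodule.map_inf hl (h : (ι → K) ≃ₗ[K] (ι → K)).injective, hhl,
      LinearEquiv.finrank_map_eq (h : (ι → K) ≃ₗ[K] (ι → K)) W, LinearEquiv.finrank_map_eq (h : (ι → K) ≃ₗ[K] (ι → K)), dW, neg_one_pow_eq_one_iff_even (by decide)]
    have hle := Submodule.finrank_mono (inf_le_left : W ⊓ W.map ((o : (ι → K) ≃ₗ[K] (ι → K)) : (ι → K) →ₗ[K] (ι → K)) ≤ W)
    rw [dW] at hle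
    rw [Nat.even_sub hle, Nat.even_add]
  constructor
  · intro hp
    refine (key 1).1 ?_
    have e : W.map (((1 : O Q) : (ι → K) ≃ₗ[K] (ι → K)) : (ι → K) →ₗ[K] (ι → K)) = W := Submodule.map_id W
    rw [e]
    exact hp W hWmax
  · intro hd U hU
    obtain ⟨h, hh⟩ := hW.exists_map_le hQ hU.1 (by rw [dW, hmaxdim U hU])
    have e := Submodule.eq_of_le_of_finrank_eq hh (by rw [LinearEquiv.finrank_map_eq, dW, hmaxdim U hU])
    rw [← e]
    exact (key h).2 hd

end Split

section Plus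

variable {F : Type*} [Field F] [Fintype F]

theorem classes_plus (h2 : (2 : F) ≠ 0) {m : ℕ} {g : Matrix (Fin m ⊕ Fin m) (Fin m ⊕ Fin m) F} {c : F} (hc : c ≠ 0)
    (hg : ∀ v, formPlus F m (g *ᵥ v) = c * formPlus F m v) :
    Cfsg.PreservesSingularClasses (Cfsg.quadFormPlus m F) g ↔ g.det = c ^ m :=
  classes_iff (Q := formPlus F m) h2 (by simp; omega) (LinearEquiv.refl F _) (fun _ => rfl) hc hg

theorem inndiag_plus {m : ℕ} (H : OrthoOuter.Setup (formPlus F m) m) :
    Cfsg.inndiagPOmegaPlus m F = H.ds.ker.map (simAut (formPlus F m)) := by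
  refine le_antisymm ((Subgroup.closure_le _).2 fun β hβ => ?_) ?_
  · obtain ⟨g, hg, hp, h⟩ := hβ
    refine ⟨⟨g, hg⟩, MonoidHom.mem_ker.2 ((H.ds_eq_one_iff _).2 ?_), (eq_simAut (g := ⟨g, hg⟩) h).symm⟩
    exact (classes_plus H.two (Units.ne_zero _) (mu_spec (Q := formPlus F m) ⟨g, hg⟩)).1 hp
  · rintro _ ⟨g, hg, rfl⟩
    exact Subgroup.subset_closure ⟨g, g.2,
      (classes_plus H.two (Units.ne_zero _) (mu_spec g)).2 ((H.ds_eq_one_iff g).1 hg), isInduced_simAut g⟩

end Plus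

section Minus

universe u

variable {F : Type u} [Field F] [Fintype F] {m : ℕ} {a b : F}

theorem minus_map {K : Type*} [Field K] (φ : F →+* K) (v : (Fin m ⊕ Fin m) ⊕ Fin 2 → F) :
    formMinus K m (φ a) (φ b) (φ ∘ v) = φ (formMinus F m a b v) := by
  simp [formMinus_coe, Cfsg.quadFormMinus]

theorem minus_map_sim {K : Type*} [Field K] (φ : F →+* K) {g : Matrix ((Fin m ⊕ Fin m) ⊕ Fin 2) ((Fin m ⊕ Fin m) ⊕ Fin 2) F}
    {c : F} (hg : ∀ v, formMinus F m a b (g *ᵥ v) = c * formMinus F m a b v) (v : (Fin m ⊕ Fin m) ⊕ Fin 2 → K) :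
    formMinus K m (φ a) (φ b) (g.map φ *ᵥ v) = φ c * formMinus K m (φ a) (φ b) v := by
  have hb : ∀ i, Pi.basisFun K ((Fin m ⊕ Fin m) ⊕ Fin 2) i = φ ∘ Pi.single i 1 := fun i => by
    funext j
    rw [Pi.basisFun_apply, Function.comp_apply, Pi.single_apply, Pi.single_apply]
    split_ifs <;> simp
  have hm : ∀ w, Matrix.toLin' (g.map φ) (φ ∘ w) = φ ∘ (g *ᵥ w) := fun w => funext fun j =>
    (RingHom.map_mulVec φ g w j).symm
  have hadd : ∀ w w' : (Fin m ⊕ Fin m) ⊕ Fin 2 → F, φ ∘ w + φ ∘ w' = φ ∘ (w + w') := fun w w' =>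
    funext fun j => (map_add φ _ _).symm
  have hpt : ∀ w, (formMinus K m (φ a) (φ b)).comp (Matrix.toLin' (g.map φ)) (φ ∘ w)
      = (φ c • formMinus K m (φ a) (φ b)) (φ ∘ w) := fun w => by
    rw [QuadraticMap.comp_apply, hm, minus_map, hg, _root_.map_mul, QuadraticMap.smul_apply, minus_map, smul_eq_mul]
  have h := qf_ext (Pi.basisFun K _) (Q₁ := (formMinus K m (φ a) (φ b)).comp (Matrix.toLin' (g.map φ)))
    (Q₂ := φ c • formMinus K m (φ a) (φ b)) (fun i => by rw [hb]; exact hpt _)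
    (fun i j _ => by rw [hb, hb, polar, polar, hadd, hpt, hpt, hpt])
  simpa using DFunLike.congr_fun h v

/-- Splitting of the anisotropic binary part. -/
def splitLin (K : Type*) [Field K] (m : ℕ) (r s : K) :
    ((Fin m ⊕ Fin m) ⊕ Fin 2 → K) →ₗ[K] (Fin (m + 1) ⊕ Fin (m + 1) → K) where
  toFun v := Sum.elim (Fin.cons (v (.inr 0) - r * v (.inr 1)) fun i => v (.inl (.inl i)))
    (Fin.cons (v (.inr 0) - s * v (.inr 1)) fun i => v (.inl (.inr i)))
  map_add' v w := by
    funext j; rcases j with j | j <;> refine Fin.cases ?_ ?_ j <;> simp <;> ring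
  map_smul' k v := by
    funext j; rcases j with j | j <;> refine Fin.cases ?_ ?_ j <;> simp <;> ring

theorem exists_split {K : Type*} [Field K] (φ : F →+* K) {r s : K} (hrs : r ≠ s) (h1 : r + s = -φ a)
    (h2 : r * s = φ b) : ∃ E : ((Fin m ⊕ Fin m) ⊕ Fin 2 → K) ≃ₗ[K] (Fin (m + 1) ⊕ Fin (m + 1) → K),
      ∀ x, formPlus K (m + 1) (E x) = formMinus K m (φ a) (φ b) x := by
  have hinj : Function.Injective (splitLin K m r s) := by
    rw [← LinearMap.ker_eq_bot, eq_bot_iff]
    intro v hv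
    have e0 := congrFun hv (.inl 0)
    have e1 := congrFun hv (.inr 0)
    simp [splitLin] at e0 e1
    have hv1 : v (.inr 1) = 0 := by
      refine (mul_eq_zero.1 (show (r - s) * v (.inr 1) = 0 by linear_combination e1 - e0)).resolve_left ?_
      exact sub_ne_zero.2 hrs
    funext j
    rcases j with (j | j) | j
    · simpa [splitLin] using congrFun hv (.inl j.succ)
    · simpa [splitLin] using congrFun hv (.inr j.succ)
    · fin_cases j
      · show v (.inr 0) = 0
        rw [hv1, mul_zero, sub_zero] at e0; exact e0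
      · exact hv1
  refine ⟨LinearEquiv.ofBijective _ ⟨hinj, (LinearMap.injective_iff_surjective_of_finrank_eq_finrank (by
    simp [Module.finrank_fintype_fun_eq_card]; omega)).1 hinj⟩, fun x => ?_⟩
  simp [splitLin, formPlus_coe, formMinus_coe, Cfsg.quadFormPlus, Cfsg.quadFormMinus, Fin.sum_univ_succ]
  linear_combination (x (.inr 1) ^ 2) * h2 - (x (.inr 0) * x (.inr 1)) * h1

theorem exists_roots {K : Type*} [Field K] [Fintype K] [Algebra F K] (hK : finrank F K = 2) (h2 : (2 : F) ≠ 0)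
    (hab : ∀ z₁ z₂ : F, z₁ ^ 2 + a * z₁ * z₂ + b * z₂ ^ 2 = 0 → z₁ = 0 ∧ z₂ = 0) :
    (2 : K) ≠ 0 ∧ ∃ r s : K, r ≠ s ∧ r + s = -algebraMap F K a ∧ r * s = algebraMap F K b := by
  have h2K : (2 : K) ≠ 0 := fun h => h2 ((algebraMap F K).injective (by rw [map_ofNat, h, map_zero]))
  refine ⟨h2K, ?_⟩
  set d : F := a ^ 2 - 4 * b with hd
  have hd0 : d ≠ 0 := fun h => aniso_binary hab (by rw [← h, hd])
  have hsq : IsSquare (algebraMap F K d) := by
    rw [FiniteField.isSquare_iff (fun h => by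
        have := (ringChar.eq_iff (R := K) (p := 2)).1 h; exact h2K CharTwo.two_eq_zero)
      ((map_ne_zero _).2 hd0)]
    have hcard : Fintype.card K = Fintype.card F ^ 2 := by rw [Module.card_eq_pow_finrank (K := F), hK]
    have hodd : Fintype.card F % 2 = 1 := Nat.odd_iff.1 (by
      simpa using odd_natCard_of_two_ne_zero h2)
    obtain ⟨k, hk⟩ : ∃ k, Fintype.card F = 2 * k + 1 := ⟨Fintype.card F / 2, by omega⟩
    have : Fintype.card K / 2 = (Fintype.card F - 1) * (k + 1) := by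
      rw [hcard, hk, pow_two, Nat.add_sub_cancel]
      have : (2 * k + 1) * (2 * k + 1) = 2 * (2 * k * (k + 1)) + 1 := by ring
      omega
    rw [this, pow_mul, ← map_pow, FiniteField.pow_card_sub_one_eq_one d hd0, map_one, one_pow]
  obtain ⟨t, ht⟩ := hsq
  have ht0 : t ≠ 0 := fun h => hd0 ((algebraMap F K).injective (by rw [ht, h, mul_zero, map_zero]))
  refine ⟨(-algebraMap F K a + t) / 2, (-algebraMap F K a - t) / 2, fun h => ?_, by field_simp; try ring, ?_⟩
  · apply ht0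
    field_simp at h
    exact (mul_eq_zero.1 (show (2 : K) * t = 0 by linear_combination h)).resolve_left h2K
  · have ht' : t * t = algebraMap F K a ^ 2 - 4 * algebraMap F K b := by
      rw [← ht, hd, map_sub, map_pow, _root_.map_mul, map_ofNat]
    field_simp
    linear_combination -ht'

theorem classes_minus (h2 : (2 : F) ≠ 0) (hab : ∀ z₁ z₂ : F, z₁ ^ 2 + a * z₁ * z₂ + b * z₂ ^ 2 = 0 → z₁ = 0 ∧ z₂ = 0)
    {g : Matrix ((Fin m ⊕ Fin m) ⊕ Fin 2) ((Fin m ⊕ Fin m) ⊕ Fin 2) F} {c : F} (hc : c ≠ 0)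
    (hg : ∀ v, formMinus F m a b (g *ᵥ v) = c * formMinus F m a b v) :
    Cfsg.PreservesSingularClassesMinus m a b g ↔ g.det = c ^ (m + 1) := by
  have hK : ∀ (K : Type u) (_ : Field K) (_ : Algebra F K), finrank F K = 2 →
      (Cfsg.PreservesSingularClasses (Cfsg.quadFormMinus m K (algebraMap F K a) (algebraMap F K b))
        (g.map (algebraMap F K)) ↔ g.det = c ^ (m + 1)) := by
    intro K _ _ h
    have : Module.Finite F K := Module.finite_of_finrank_pos (by omega)
    have : Finite K := Module.finite_of_finite F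
    have : Fintype K := Fintype.ofFinite K
    obtain ⟨h2K, r, s, hrs, e1, e2⟩ := exists_roots (K := K) h h2 hab
    obtain ⟨E, hE⟩ := exists_split (m := m) (algebraMap F K) hrs e1 e2
    refine (classes_iff (Q := formMinus K m (algebraMap F K a) (algebraMap F K b)) h2K (by simp; omega) E hE
      ((map_ne_zero _).2 hc) (minus_map_sim _ hg)).trans ?_
    show ((algebraMap F K).mapMatrix g).det = _ ↔ _
    rw [← RingHom.map_det, ← map_pow, (algebraMap F K).injective.eq_iff]
  constructor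
  · rintro ⟨K, iK, iA, h, hp⟩
    exact (hK K iK iA h).1 hp
  · intro hd
    have hne : (Polynomial.X ^ 2 + Polynomial.C a * Polynomial.X + Polynomial.C b : Polynomial F).natDegree = 2 := by
      compute_degree!
    have hirr : Fact (Irreducible (Polynomial.X ^ 2 + Polynomial.C a * Polynomial.X + Polynomial.C b : Polynomial F)) := ⟨by
      rw [Polynomial.irreducible_iff_roots_eq_zero_of_degree_le_three (by omega) (by omega)]
      refine Multiset.eq_zero_of_forall_notMem fun x hx => ?_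
      have := Polynomial.isRoot_of_mem_roots hx
      simp at this
      exact one_ne_zero (hab x 1 (by linear_combination this)).2⟩
    refine ⟨AdjoinRoot (Polynomial.X ^ 2 + Polynomial.C a * Polynomial.X + Polynomial.C b : Polynomial F),
      inferInstance, inferInstance, ?_, ?_⟩
    · rw [(AdjoinRoot.powerBasis hirr.out.ne_zero).finrank]
      exact hne
    · exact (hK _ inferInstance inferInstance (by rw [(AdjoinRoot.powerBasis hirr.out.ne_zero).finrank]; exact hne)).2 hd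

theorem inndiag_minus (hab : ∀ z₁ z₂ : F, z₁ ^ 2 + a * z₁ * z₂ + b * z₂ ^ 2 = 0 → z₁ = 0 ∧ z₂ = 0)
    (H : OrthoOuter.Setup (formMinus F m a b) (m + 1)) :
    Cfsg.inndiagPOmegaMinus m F a b = H.ds.ker.map (simAut (formMinus F m a b)) := by
  refine le_antisymm ((Subgroup.closure_le _).2 fun β hβ => ?_) ?_
  · obtain ⟨g, hg, hp, h⟩ := hβ
    refine ⟨⟨g, hg⟩, MonoidHom.mem_ker.2 ((H.ds_eq_one_iff _).2 ?_), (eq_simAut (g := ⟨g, hg⟩) h).symm⟩
    exact (classes_minus H.two hab (Units.ne_zero _) (mu_spec (Q := formMinus F m a b) ⟨g, hg⟩)).1 hp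
  · rintro _ ⟨g, hg, rfl⟩
    exact Subgroup.subset_closure ⟨g, g.2,
      (classes_minus H.two hab (Units.ne_zero _) (mu_spec g)).2 ((H.ds_eq_one_iff g).1 hg), isInduced_simAut g⟩

end Minus

end Cfsg.Agent.H58.OrthoClasses
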