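import Mathlib
import Cfsg.Agent.H58.OrthoClasses
import Cfsg.Agent.H52.OrthoRankForms
import Cfsg.Agent.H57.Discriminant

/-!
# Explicit similitudes of the standard split and elliptic forms
-/

set_option autoImplicit false
set_option linter.unusedSectionVars false

namespace Cfsg.Agent.H58.OrthoWitness

open Matrix Cfsg.Agent.Orthogonal Cfsg.Agent.H58.OrthoAut Cfsg.Agent.H58.OrthoKlein Cfsg.Agent.H58.OrthoOuter
open Cfsg.Agent.H52.OrthoRank (negSign negSign_plus negSign_minus)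

variable {F : Type*} [Field F] [Fintype F]

theorem two_ne (hodd : Odd (Fintype.card F)) : (2 : F) ≠ 0 := H57.card_odd_two_ne_zero hodd

theorem sqSign_neg_one_pow (hodd : Odd (Fintype.card F)) (k : ℕ) :
    ((Odd k ∧ Fintype.card F % 4 = 3) → sqSign ((-1 : F) ^ k) = -1) ∧
      (¬ (Odd k ∧ Fintype.card F % 4 = 3) → sqSign ((-1 : F) ^ k) = 1) := by
  constructor
  · rintro ⟨hk, hq⟩
    rw [hk.neg_one_pow]
    exact sqSign_of_not_isSquare (by rw [FiniteField.isSquare_neg_one_iff]; simp [hq])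
  · intro h
    rcases Nat.even_or_odd k with hk | hk
    · rw [hk.neg_one_pow]; exact sqSign_of_isSquare IsSquare.one
    · rw [hk.neg_one_pow]
      exact sqSign_of_isSquare (FiniteField.isSquare_neg_one_iff.2 fun hq => h ⟨hk, hq⟩)

theorem setup_plus (hodd : Odd (Fintype.card F)) {m : ℕ} (hm : 4 ≤ m) : Setup (formPlus F m) m :=
  ⟨formPlus_nondeg F m, two_ne hodd, by simp; omega, by simp; omega⟩

theorem setup_minus (hodd : Odd (Fintype.card F)) {m : ℕ} (hm : 3 ≤ m) {a b : F}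
    (hab : ∀ z₁ z₂ : F, z₁ ^ 2 + a * z₁ * z₂ + b * z₂ ^ 2 = 0 → z₁ = 0 ∧ z₂ = 0) :
    Setup (formMinus F m a b) (m + 1) :=
  ⟨formMinus_nondeg m hab, two_ne hodd, by simp; omega, by simp; omega⟩

section Gen

variable {ι : Type} [Fintype ι] [DecidableEq ι] {Q : QuadraticForm F (ι → F)}

/-- The witnesses from matrices. -/
theorem witness {k : ℕ} (H : Setup Q k) {c : F} (hc : c ≠ 0) (hns : ¬ IsSquare c) {R S : Matrix ι ι F}
    (hR : ∀ v, Q (R *ᵥ v) = c * Q v) (hdR : R.det = c ^ k) (hS : ∀ v, Q (S *ᵥ v) = Q v) {e : ℕ}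
    (hdS : S.det = (-1) ^ e) (hsq : R * S * (R * S) = c • (1 : Matrix ι ι F)) :
    ∃ (g : sim Q) (s : Cfsg.isometryGroup F ⇑Q) (d : Fˣ), H.sg g = -1 ∧ H.ds g = 1 ∧
      H.dt s = (-1) ^ e ∧ ((g * toSim Q s) * (g * toSim Q s) : sim Q).1 = GeneralLinearGroup.scalar ι d := by
  let Rg : GL ι F := GeneralLinearGroup.mkOfDetNeZero R (hdR ▸ pow_ne_zero _ hc)
  let Sg : GL ι F := GeneralLinearGroup.mkOfDetNeZero S (hdS ▸ pow_ne_zero _ (neg_ne_zero.2 one_ne_zero))
  let g : sim Q := ⟨Rg, Units.mk0 c hc, fun v => hR v⟩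
  let s : Cfsg.isometryGroup F ⇑Q := ⟨Sg, (mem_isometryGroup_iff _ _).2 hS⟩
  have hmu : mu g = Units.mk0 c hc := mu_unique H.value fun v => hR v
  refine ⟨g, s, Units.mk0 c hc, ?_, ?_, ?_, Units.ext ?_⟩
  · show sqSign (mu g : F) = -1
    rw [hmu]; exact sqSign_of_not_isSquare hns
  · rw [H.ds_eq_one_iff, hmu]; exact hdR
  · rcases Nat.even_or_odd e with he | he
    · rw [he.neg_one_pow, H.dt_eq_one_iff]
      exact hdS.trans he.neg_one_pow
    · rw [he.neg_one_pow]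
      refine (Int.units_eq_one_or _).resolve_left fun h => ?_
      have h1 : S.det = 1 := (H.dt_eq_one_iff s).1 h
      rw [hdS, he.neg_one_pow] at h1
      exact H.two (by linear_combination -h1)
  · rw [GeneralLinearGroup.coe_scalar, Matrix.scalar_apply, ← Matrix.smul_one_eq_diagonal]
    exact hsq

end Gen

theorem plus (hodd : Odd (Fintype.card F)) {m : ℕ} (H : Setup (formPlus F m) m) :
    ∃ (g : sim (formPlus F m)) (s : Cfsg.isometryGroup F ⇑(formPlus F m)) (d : Fˣ), H.sg g = -1 ∧ H.ds g = 1 ∧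
      H.dt s = (-1) ^ m ∧ ((g * toSim _ s) * (g * toSim _ s) : sim (formPlus F m)).1 = GeneralLinearGroup.scalar _ d := by
  obtain ⟨ν, hν⟩ := exists_not_isSquare (two_ne hodd)
  have hν0 : ν ≠ 0 := fun h => hν (h ▸ IsSquare.zero)
  refine witness H hν0 hν (R := fromBlocks (ν • (1 : Matrix (Fin m) (Fin m) F)) 0 0 1) (S := fromBlocks 0 1 1 0)
    (fun v => ?_) ?_ (fun v => ?_) (H57.det_hyperbolicGram m) ?_
  · simp [formPlus_coe, Cfsg.quadFormPlus, fromBlocks_mulVec, smul_mulVec, Finset.mul_sum, mul_assoc]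
  · rw [det_fromBlocks_zero₂₁, det_smul, det_one, Fintype.card_fin, mul_one, mul_one]
  · simp [formPlus_coe, Cfsg.quadFormPlus, fromBlocks_mulVec, mul_comm]
  · simp [fromBlocks_multiply, ← fromBlocks_one, fromBlocks_smul]

theorem minus (hodd : Odd (Fintype.card F)) {m : ℕ} {a b : F}
    (hab : ∀ z₁ z₂ : F, z₁ ^ 2 + a * z₁ * z₂ + b * z₂ ^ 2 = 0 → z₁ = 0 ∧ z₂ = 0)
    (H : Setup (formMinus F m a b) (m + 1)) :
    ∃ (g : sim (formMinus F m a b)) (s : Cfsg.isometryGroup F ⇑(formMinus F m a b)) (d : Fˣ),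
      H.sg g = -1 ∧ H.ds g = 1 ∧ H.dt s = (-1) ^ (m + 1) ∧
      ((g * toSim _ s) * (g * toSim _ s) : sim (formMinus F m a b)).1 = GeneralLinearGroup.scalar _ d := by
  have h2 : (2 : F) ≠ 0 := two_ne hodd
  obtain ⟨ν, hν⟩ := exists_not_isSquare h2
  have hν0 : ν ≠ 0 := fun h => hν (h ▸ IsSquare.zero)
  have h4 : (4 : F) ≠ 0 := by rw [show (4 : F) = 2 * 2 by norm_num]; exact mul_ne_zero h2 h2
  have hd : b - a ^ 2 / 4 ≠ 0 := fun h => by
    refine one_ne_zero (hab (-a / 2) 1 ?_).2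
    field_simp at h ⊢
    linear_combination h
  obtain ⟨x, y, hxy⟩ := FiniteField.exists_root_sum_quadratic (f := Polynomial.X ^ 2)
    (g := Polynomial.C (b - a ^ 2 / 4) * Polynomial.X ^ 2 - Polynomial.C ν)
    (Polynomial.degree_X_pow 2)
    ((Polynomial.degree_sub_eq_left_of_degree_lt (by
      rw [Polynomial.degree_C_mul_X_pow 2 hd]
      exact Polynomial.degree_C_le.trans_lt (by decide))).trans (Polynomial.degree_C_mul_X_pow 2 hd))
    (Nat.odd_iff.1 hodd)
  simp only [Polynomial.eval_pow, Polynomial.eval_X, Polynomial.eval_sub, Polynomial.eval_mul, Polynomial.eval_C] at hxy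
  set w := x - a / 2 * y with hw
  have hnorm : w ^ 2 + a * w * y + b * y ^ 2 = ν := by
    rw [hw]
    field_simp at hxy ⊢
    linear_combination hxy
  refine witness H hν0 hν
    (R := fromBlocks (fromBlocks (ν • (1 : Matrix (Fin m) (Fin m) F)) 0 0 1) 0 0 !![w, -(b * y); y, w + a * y])
    (S := fromBlocks (fromBlocks 0 1 1 0) 0 0 !![1, a; 0, -1])
    (fun v => ?_) ?_ (fun v => ?_) ?_ ?_
  · simp [formMinus_coe, Cfsg.quadFormMinus, fromBlocks_mulVec, smul_mulVec, Matrix.mulVec, dotProduct,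
      Fin.sum_univ_two, Matrix.one_apply, Finset.mul_sum, mul_add, mul_assoc]
    rw [← hnorm]; ring
  · rw [det_fromBlocks_zero₂₁, det_fromBlocks_zero₂₁, det_smul, det_one, Fintype.card_fin, mul_one, mul_one,
      Matrix.det_fin_two_of, pow_succ ν m]
    linear_combination ν ^ m * hnorm
  · simp [formMinus_coe, Cfsg.quadFormMinus, fromBlocks_mulVec, Matrix.mulVec, dotProduct, Fin.sum_univ_two,
      Matrix.one_apply, mul_comm]
    ring
  · rw [det_fromBlocks_zero₂₁, H57.det_hyperbolicGram, Matrix.det_fin_two_of, pow_succ]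
    ring
  · have h22 : !![w, -(b * y); y, w + a * y] * !![1, a; 0, -1] * (!![w, -(b * y); y, w + a * y] * !![1, a; 0, -1])
        = ν • (1 : Matrix (Fin 2) (Fin 2) F) := by
      ext i j
      fin_cases i <;> fin_cases j <;> simp [← hnorm] <;> ring
    rw [fromBlocks_multiply, fromBlocks_multiply]
    simp only [Matrix.zero_mul, Matrix.mul_zero, add_zero, zero_add]
    rw [h22]
    simp [fromBlocks_multiply, ← fromBlocks_one, fromBlocks_smul]

theorem nonsquare_sim {ι : Type} [Fintype ι] [DecidableEq ι] {Q : QuadraticForm F (ι → F)} {k : ℕ} (H : Setup Q k)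
    {g : sim Q} (hg : H.sg g = -1) :
    ∃ (g : sim Q) (c : Fˣ), ¬ IsSquare (c : F) ∧ ∀ v, Q (((g : GL ι F) : Matrix ι ι F) *ᵥ v) = (c : F) * Q v :=
  ⟨g, mu g, fun h => absurd ((sqSign_of_isSquare h).symm.trans hg) (by decide), mu_spec g⟩

theorem pgo_klein {ι : Type} [Fintype ι] [DecidableEq ι] {Q : QuadraticForm F (ι → F)} {k : ℕ} (H : Setup Q k)
    (h0 : negSign Q H.nondeg H.two = -1) {g : sim Q} (hg : H.sg g = -1) :
    ∃ φ : ↥(Cfsg.pgoAut F ⇑Q) →* Multiplicative (ZMod 2 × ZMod 2), Function.Surjective φ ∧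
      φ.ker = (Cfsg.Inn (Cfsg.POmega F ⇑Q)).subgroupOf (Cfsg.pgoAut F ⇑Q) := by
  rw [← H.pso_eq_inn h0]
  exact klein H.nondeg H.two H.card H.five (nonsquare_sim H hg)

end Cfsg.Agent.H58.OrthoWitness
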