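import Mathlib
import Cfsg.Agent.H58.PSLTwist

/-!
# Orders of automorphisms of `PSL_d(F)`
-/

set_option autoImplicit false

namespace Cfsg.Agent.H58.PSLAutOrder

open Matrix Polynomial Cfsg.Agent.H56 Cfsg.Agent.H58.PSLAut Cfsg.Agent.H58.Twist Cfsg.Agent.H58.Descent
  Cfsg.Agent.H58.PSLTwist

variable {F : Type*} [Field F] {d : ℕ}

/-- The coefficient vector of `f` modulo `P`. -/
noncomputable def remVec {K : Type*} [Field K] (P f : K[X]) : Fin P.natDegree → K :=
  fun t => (f %ₘ P).coeff t

theorem remVec_inj {K : Type*} [Field K] {P f g : K[X]} (hP : P.Monic) (hk : 0 < P.natDegree)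
    (h : remVec P f = remVec P g) : f %ₘ P = g %ₘ P := by
  have hne : P ≠ 1 := fun h1 => by rw [h1, natDegree_one] at hk; exact lt_irrefl _ hk
  refine Polynomial.ext fun i => ?_
  by_cases hi : i < P.natDegree
  · exact congrFun h ⟨i, hi⟩
  · rw [coeff_eq_zero_of_natDegree_lt ((natDegree_modByMonic_lt f hP hne).trans_le (not_lt.1 hi)),
      coeff_eq_zero_of_natDegree_lt ((natDegree_modByMonic_lt g hP hne).trans_le (not_lt.1 hi))]

theorem aeval_rem {K : Type*} [Field K] [Algebra K F] (h : GL (Fin d) F) {P : K[X]}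
    (h0 : aeval (h : Matrix (Fin d) (Fin d) F) P = 0) (f : K[X]) :
    aeval (h : Matrix (Fin d) (Fin d) F) (f %ₘ P) = aeval (h : Matrix (Fin d) (Fin d) F) f :=
  aeval_modByMonic_eq_self_of_root h0

theorem aeval_C_mul_X_pow {K : Type*} [Field K] [Algebra K F] (h : GL (Fin d) F) (c : K) (i : ℕ) :
    aeval (h : Matrix (Fin d) (Fin d) F) (C c * X ^ i) =
      algebraMap K F c • ((h ^ i : GL (Fin d) F) : Matrix (Fin d) (Fin d) F) := by
  rw [map_mul, aeval_C, map_pow, aeval_X, Units.val_pow_eq_pow_val,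
    IsScalarTower.algebraMap_apply K F (Matrix (Fin d) (Fin d) F), Algebra.smul_def]

theorem remVec_ne_zero {K : Type*} [Field K] [Algebra K F] (hd : 0 < d) (h : GL (Fin d) F) {P : K[X]}
    (hP : P.Monic) (hk : 0 < P.natDegree) (h0 : aeval (h : Matrix (Fin d) (Fin d) F) P = 0)
    (f : K[X]) (hf : IsUnit (aeval (h : Matrix (Fin d) (Fin d) F) f)) : remVec P f ≠ 0 := by
  intro hv
  have h1 : f %ₘ P = 0 %ₘ P := remVec_inj hP hk (by rw [hv]; funext t; simp [remVec])
  rw [zero_modByMonic] at h1
  rw [← aeval_rem h h0, h1, map_zero] at hf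
  have : Nonempty (Fin d) := ⟨⟨0, hd⟩⟩
  exact not_isUnit_zero hf

theorem eq_of_smul_pow_eq (hd : 2 ≤ d) (h : GL (Fin d) F) {c c' : Fˣ} {i j : Fin (orderOf (glAut h))}
    (e : (c : F) • ((h ^ (i : ℕ) : GL (Fin d) F) : Matrix (Fin d) (Fin d) F) =
      (c' : F) • ((h ^ (j : ℕ) : GL (Fin d) F) : Matrix (Fin d) (Fin d) F)) : i = j ∧ c = c' := by
  have e' : GeneralLinearGroup.scalar (Fin d) c * h ^ (i : ℕ) =
      GeneralLinearGroup.scalar (Fin d) c' * h ^ (j : ℕ) := Units.ext (by
    simpa [Matrix.scalar_apply, ← Matrix.smul_eq_diagonal_mul] using e)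
  have hij : i = j := Fin.ext (pow_injOn_Iio_orderOf i.2 j.2 (by
    have := congrArg glAut e'
    rwa [glAut_scalar_mul, glAut_scalar_mul, map_pow, map_pow] at this))
  subst hij
  exact ⟨rfl, scalar_inj (by omega) (mul_right_cancel e')⟩

theorem remVec_pow_injective {K : Type*} [Field K] [Algebra K F] (hd : 2 ≤ d) (h : GL (Fin d) F) {P : K[X]}
    (hP : P.Monic) (hk : 0 < P.natDegree) (h0 : aeval (h : Matrix (Fin d) (Fin d) F) P = 0) :
    Function.Injective (fun x : Fin (orderOf (glAut h)) × Kˣ => remVec P (C (x.2 : K) * X ^ (x.1 : ℕ))) := by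
  rintro ⟨i, c⟩ ⟨j, c'⟩ e
  have h1 := congrArg (aeval (h : Matrix (Fin d) (Fin d) F)) (remVec_inj hP hk e)
  rw [aeval_rem h h0, aeval_rem h h0, aeval_C_mul_X_pow, aeval_C_mul_X_pow] at h1
  obtain ⟨rfl, h2⟩ := eq_of_smul_pow_eq hd h (c := Units.map (algebraMap K F : K →* F) c)
    (c' := Units.map (algebraMap K F : K →* F) c') (i := i) (j := j) h1
  exact Prod.ext rfl (Units.map_injective (algebraMap K F).injective h2)

theorem isUnit_aeval_C_mul_X_pow {K : Type*} [Field K] [Algebra K F] (h : GL (Fin d) F) (c : Kˣ) (i : ℕ) :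
    IsUnit (aeval (h : Matrix (Fin d) (Fin d) F) (C (c : K) * X ^ i)) := by
  rw [map_mul, aeval_C, map_pow, aeval_X]
  exact (c.isUnit.map _).mul (h.isUnit.pow _)

/-- Counting remainders of `c X^i`. -/
theorem count_le {K : Type*} [Field K] [Fintype K] [Algebra K F] (hd : 2 ≤ d) (h : GL (Fin d) F) {P : K[X]}
    (hP : P.Monic) (hk : 0 < P.natDegree) (h0 : aeval (h : Matrix (Fin d) (Fin d) F) P = 0)
    (T : Finset (Fin P.natDegree → K)) (hT : ∀ i (c : Kˣ), remVec P (C (c : K) * X ^ i) ∈ T) :
    (Fintype.card K - 1) * orderOf (glAut h) ≤ T.card := by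
  classical
  have := Finset.card_le_card_of_injOn (s := (Finset.univ : Finset (Fin (orderOf (glAut h)) × Kˣ)))
    (fun x => remVec P (C (x.2 : K) * X ^ (x.1 : ℕ))) (fun x _ => hT _ _)
    (remVec_pow_injective hd h hP hk h0).injOn
  rwa [Finset.card_univ, Fintype.card_prod, Fintype.card_fin, Fintype.card_units, mul_comm] at this

theorem count_le_pow {K : Type*} [Field K] [Fintype K] [Algebra K F] (hd : 2 ≤ d) (h : GL (Fin d) F) {P : K[X]}
    (hP : P.Monic) (hk : 0 < P.natDegree) (h0 : aeval (h : Matrix (Fin d) (Fin d) F) P = 0) :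
    (Fintype.card K - 1) * orderOf (glAut h) ≤ Fintype.card K ^ P.natDegree - 1 := by
  classical
  refine (count_le hd h hP hk h0 (Finset.univ.erase 0) fun i c => Finset.mem_erase.2
    ⟨remVec_ne_zero (by omega) h hP hk h0 _ (isUnit_aeval_C_mul_X_pow h c i), Finset.mem_univ _⟩).trans ?_
  simp

section Finite

variable [Fintype F]

/-- If some invertible element of `F[g]` is not a scalar multiple of a power of `g`, the count doubles. -/
theorem count_double (hd : 2 ≤ d) (g : GL (Fin d) F) {P : F[X]} (hP : P.Monic) (hk : 0 < P.natDegree)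
    (h0 : aeval (g : Matrix (Fin d) (Fin d) F) P = 0) (a : F[X])
    (ha : IsUnit (aeval (g : Matrix (Fin d) (Fin d) F) a))
    (hne : ∀ (j : ℤ) (c : F), aeval (g : Matrix (Fin d) (Fin d) F) a ≠
      c • ((g ^ j : GL (Fin d) F) : Matrix (Fin d) (Fin d) F)) :
    2 * ((Fintype.card F - 1) * orderOf (glAut g)) ≤ Fintype.card F ^ P.natDegree - 1 := by
  classical
  let f : Bool × Fin (orderOf (glAut g)) × Fˣ → (Fin P.natDegree → F) := fun x =>
    remVec P ((if x.1 then a else 1) * (C (x.2.2 : F) * X ^ (x.2.1 : ℕ)))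
  have hu : ∀ x : Bool, IsUnit (aeval (g : Matrix (Fin d) (Fin d) F)
      (if x then a else 1)) := by
    rintro (_ | _)
    · simp
    · simpa using ha
  have hcross : ∀ (i j : ℕ) (c c' : Fˣ), aeval (g : Matrix (Fin d) (Fin d) F) (a * (C (c : F) * X ^ i)) ≠
      aeval (g : Matrix (Fin d) (Fin d) F) (C (c' : F) * X ^ j) := by
    intro i j c c' e
    rw [map_mul, aeval_C_mul_X_pow, aeval_C_mul_X_pow] at e
    simp only [Algebra.algebraMap_self, RingHom.id_apply, mul_smul_comm] at e
    refine hne ((j : ℤ) - i) ((c⁻¹ * c' : Fˣ) : F) ?_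
    have e1 := congrArg (fun M => ((c⁻¹ : Fˣ) : F) • (M * ((g ^ i)⁻¹ : GL (Fin d) F).val)) e
    simp only [smul_mul_assoc, mul_assoc, Units.mul_inv, mul_one, smul_smul, Units.inv_mul, one_smul] at e1
    rw [e1, ← Units.val_mul, ← Units.val_mul, _root_.zpow_sub, zpow_natCast, zpow_natCast]
  have hinj : Function.Injective f := by
    rintro ⟨b, i, c⟩ ⟨b', j, c'⟩ e
    have h1 := congrArg (aeval (g : Matrix (Fin d) (Fin d) F)) (remVec_inj hP hk e)
    rw [aeval_rem g h0, aeval_rem g h0] at h1
    rcases b with _ | _ <;> rcases b' with _ | _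
    · simp only [Bool.false_eq_true, if_false, one_mul, aeval_C_mul_X_pow, Algebra.algebraMap_self,
        RingHom.id_apply] at h1
      obtain ⟨rfl, rfl⟩ := eq_of_smul_pow_eq hd g h1
      rfl
    · simp only [Bool.false_eq_true, if_false, if_true, one_mul] at h1
      exact absurd h1.symm (hcross _ _ _ _)
    · simp only [Bool.false_eq_true, if_false, if_true, one_mul] at h1
      exact absurd h1 (hcross _ _ _ _)
    · simp only [if_true, map_mul] at h1
      have h2 := ha.mul_left_cancel h1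
      rw [← map_mul, ← map_mul, aeval_C_mul_X_pow, aeval_C_mul_X_pow] at h2
      simp only [Algebra.algebraMap_self, RingHom.id_apply] at h2
      obtain ⟨rfl, rfl⟩ := eq_of_smul_pow_eq hd g h2
      rfl
  have hmem : ∀ x, f x ∈ Finset.univ.erase (0 : Fin P.natDegree → F) := fun x => Finset.mem_erase.2
    ⟨remVec_ne_zero (by omega) g hP hk h0 _ (by
      rw [map_mul]; exact (hu x.1).mul (isUnit_aeval_C_mul_X_pow g x.2.2 _)), Finset.mem_univ _⟩
  have := Finset.card_le_card_of_injOn (s := Finset.univ) f (fun x _ => hmem x) hinj.injOn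
  simpa [Fintype.card_units, mul_comm, mul_assoc, mul_left_comm] using this

theorem geom_le_iff {q : ℕ} (hq : 2 ≤ q) (o k : ℕ) :
    (q - 1) * o ≤ q ^ k - 1 ↔ o ≤ ∑ i ∈ Finset.range k, q ^ i := by
  have h : (q - 1) * ∑ i ∈ Finset.range k, q ^ i = q ^ k - 1 := by
    rw [mul_comm]; exact geom_sum_mul_of_one_le (by omega) k
  rw [← h]
  exact ⟨fun h' => Nat.le_of_mul_le_mul_left h' (by omega), fun h' => Nat.mul_le_mul_left _ h'⟩

theorem mul_geom_sum_le {Q e : ℕ} (hQ : 2 ≤ Q) (he : 1 ≤ e) {k : ℕ} (hk : 2 ≤ k)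
    (hex : ¬ (k = 2 ∧ Q = 2 ∧ e = 2)) :
    e * ∑ i ∈ Finset.range k, Q ^ i ≤ ∑ i ∈ Finset.range k, (Q ^ e) ^ i := by
  have hpow : e ≤ Q ^ (e - 1) := by
    have : e - 1 < 2 ^ (e - 1) := Nat.lt_two_pow_self
    have := Nat.pow_le_pow_left hQ (e - 1)
    omega
  have hstep : ∀ i, 2 ≤ i → e * Q ^ i ≤ (Q ^ e) ^ i := by
    intro i hi
    calc e * Q ^ i ≤ Q ^ (e - 1) * Q ^ i := Nat.mul_le_mul_right _ hpow
      _ = Q ^ (e - 1 + i) := (pow_add Q _ _).symm
      _ ≤ Q ^ (e * i) := Nat.pow_le_pow_right (by omega) (by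
        obtain ⟨e, rfl⟩ := Nat.exists_eq_add_of_le he
        obtain ⟨i, rfl⟩ := Nat.exists_eq_add_of_le hi
        simp only [Nat.add_sub_cancel_left]
        nlinarith)
      _ = _ := pow_mul Q e i
  have hbase : ¬ (Q = 2 ∧ e = 2) → e * (1 + Q) ≤ 1 + Q ^ e := by
    intro hne
    rcases Nat.lt_or_ge e 3 with h3 | h3
    · interval_cases e
      · simp
      · have : 3 ≤ Q := by omega
        nlinarith
    · clear hne hex hstep hpow he
      induction e, h3 using Nat.le_induction with
      | base => nlinarith [Nat.pow_le_pow_left hQ 2]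
      | succ e h3 ih =>
        have h4 : Q ^ e + Q ^ e ≤ Q ^ (e + 1) := by
          rw [pow_succ]
          have := Nat.mul_le_mul_left (Q ^ e) hQ
          omega
        have h5 : Q * Q ≤ Q ^ e := by rw [← sq]; exact Nat.pow_le_pow_right (by omega) (by omega)
        have h6 : 1 + Q ≤ Q ^ e := by nlinarith
        rw [Nat.add_mul, one_mul]
        omega
  induction k, hk using Nat.le_induction with
  | base =>
    simp only [Finset.sum_range_succ, Finset.sum_range_zero, pow_zero, pow_one, zero_add]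
    exact hbase fun h => hex ⟨rfl, h⟩
  | succ k hk ih =>
    rcases eq_or_ne k 2 with rfl | hk2
    · by_cases h : Q = 2 ∧ e = 2
      · obtain ⟨rfl, rfl⟩ := h
        decide
      · rw [Finset.sum_range_succ, Finset.sum_range_succ _ 2, mul_add]
        exact Nat.add_le_add (ih (fun h' => h ⟨h'.2.1, h'.2.2⟩)) (hstep _ le_rfl)
    · rw [Finset.sum_range_succ, Finset.sum_range_succ _ k, mul_add]
      exact Nat.add_le_add (ih (fun h' => hk2 h'.1)) (hstep _ (by omega))

theorem two_mul_geom_sum_le {Q e : ℕ} (hQ : 2 ≤ Q) (he : 2 ≤ e) (hex : ¬ (Q = 2 ∧ e = 2)) {k : ℕ}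
    (hk : 3 ≤ k) :
    2 * e * ∑ i ∈ Finset.range k, Q ^ i ≤ ∑ i ∈ Finset.range k, (Q ^ e) ^ i := by
  have h4e : 4 * e ≤ Q ^ (2 * (e - 1)) := by
    rcases Nat.lt_or_ge e 3 with h3 | h3
    · obtain rfl : e = 2 := by omega
      have : 3 ≤ Q := by omega
      show 8 ≤ Q ^ 2
      nlinarith
    · have h1 : ∀ n, 3 ≤ n → 4 * n ≤ 2 ^ (2 * (n - 1)) := by
        intro n hn
        induction n, hn using Nat.le_induction with
        | base => norm_num
        | succ n hn ih =>
          rw [show 2 * (n + 1 - 1) = 2 * (n - 1) + 2 by omega, pow_add]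
          omega
      exact (h1 e h3).trans (Nat.pow_le_pow_left hQ _)
  induction k, hk using Nat.le_induction with
  | base =>
    simp only [Finset.sum_range_succ, Finset.sum_range_zero, pow_zero, pow_one, zero_add]
    have h1 : 1 + Q + Q ^ 2 ≤ 2 * Q ^ 2 := by nlinarith
    have h2 : 2 * e * (2 * Q ^ 2) ≤ (Q ^ e) ^ 2 := by
      calc 2 * e * (2 * Q ^ 2) = 4 * e * Q ^ 2 := by ring
        _ ≤ Q ^ (2 * (e - 1)) * Q ^ 2 := Nat.mul_le_mul_right _ h4e
        _ = _ := by rw [← pow_add, ← pow_mul]; congr 1; omega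
    have h3 := Nat.mul_le_mul_left (2 * e) h1
    omega
  | succ k hk ih =>
    rw [Finset.sum_range_succ, Finset.sum_range_succ _ k, mul_add]
    refine Nat.add_le_add ih ?_
    calc 2 * e * Q ^ k ≤ Q ^ (2 * (e - 1)) * Q ^ k := Nat.mul_le_mul_right _ (by omega)
      _ = Q ^ (2 * (e - 1) + k) := (pow_add Q _ _).symm
      _ ≤ Q ^ (e * k) := Nat.pow_le_pow_right (by omega) (by
        obtain ⟨e, rfl⟩ := Nat.exists_eq_add_of_le he
        obtain ⟨k, rfl⟩ := Nat.exists_eq_add_of_le hk
        simp only [show 2 + e - 1 = e + 1 by omega]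
        nlinarith)
      _ = _ := pow_mul Q e k

omit [Fintype F] in
theorem orderOf_glAut_le (hd : 2 ≤ d) {K : Type*} [Field K] [Fintype K] [Algebra K F] (h : GL (Fin d) F)
    {P : K[X]} (hP : P.Monic) (hk : P.natDegree = d) (h0 : aeval (h : Matrix (Fin d) (Fin d) F) P = 0) :
    orderOf (glAut h) ≤ ∑ i ∈ Finset.range d, Fintype.card K ^ i := by
  rw [← geom_le_iff Fintype.one_lt_card]
  exact hk ▸ count_le_pow hd h hP (by omega) h0

/-- A semilinear automorphism with field part `s` of order `e` has order at most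
`e (Q^d - 1)/(Q - 1)`, where `Q` is the size of the fixed field. -/
theorem semi_order_le (hd : 2 ≤ d) (A : GL (Fin d) F) (s : F ≃+* F) :
    orderOf (semiAut A s) ≤
      orderOf s * ∑ i ∈ Finset.range d, Nat.card (fixedField s) ^ i := by
  classical
  have := finite_ringEquiv (F := F)
  let : Fintype (fixedField s) := Fintype.ofFinite _
  set e := orderOf s with he
  set h := normProd (glMap s) A e with hh
  have hpow : semiAut A s ^ e = glAut h := by
    rw [semiAut_split, mul_pow_eq glAut (glMap s) _ (field_conj s), field_pow, he, pow_orderOf_eq_one,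
      show semiAut (1 : GL (Fin d) F) (1 : F ≃+* F) = 1 from semiAut_one, mul_one]
  have hconj : glMap s h = A⁻¹ * h * A := by
    have e1 := normProd_succ (glMap s) A e
    rw [normProd_succ', show (glMap s)^[e] A = A from Units.ext (by
      rw [glMap_iterate, he, pow_orderOf_eq_one]; exact Matrix.map_id _)] at e1
    rw [mul_assoc, hh, e1, inv_mul_cancel_left]
  set M := (h : Matrix (Fin d) (Fin d) F) with hM
  have hcp : M.charpoly.map (s : F →+* F) = M.charpoly := by
    rw [← Matrix.charpoly_map]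
    show (M.map s).charpoly = _
    rw [hM, ← glMap_coe, hconj, Units.val_mul, Units.val_mul]
    rw [mul_assoc, Matrix.charpoly_mul_comm, mul_assoc, Units.mul_inv, mul_one]
  have hlift : M.charpoly ∈ lifts (algebraMap (fixedField s) F) := by
    rw [lifts_iff_coeff_lifts]
    intro i
    refine ⟨⟨M.charpoly.coeff i, (mem_fixedField s).mpr ?_⟩, rfl⟩
    have := congrArg (fun P : F[X] => P.coeff i) hcp
    simpa using this
  obtain ⟨P, hPmap, hPdeg, hPm⟩ := lifts_and_degree_eq_and_monic hlift M.charpoly_monic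
  have hk : P.natDegree = d := by
    rw [natDegree_eq_of_degree_eq hPdeg, Matrix.charpoly_natDegree_eq_dim, Fintype.card_fin]
  have h0 : aeval M P = 0 := by
    rw [← aeval_map_algebraMap F M P, hPmap, M.aeval_self_charpoly]
  have hb := orderOf_glAut_le hd h hPm hk h0
  rw [← Nat.card_eq_fintype_card] at hb
  refine le_trans (Nat.le_of_dvd (Nat.mul_pos (orderOf_pos' s) (orderOf_pos _)) ?_) (Nat.mul_le_mul_left _ hb)
  rw [orderOf_dvd_iff_pow_eq_one, pow_mul, hpow, pow_orderOf_eq_one]

/-- Evaluation of coefficient vectors at the nonzero elements. -/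
noncomputable def evalVec (k : ℕ) : (Fin k → F) →ₗ[F] (Fˣ → F) where
  toFun w u := ∑ t : Fin k, w t * (u : F) ^ (t : ℕ)
  map_add' v w := funext fun u => by simp [add_mul, Finset.sum_add_distrib]
  map_smul' c w := funext fun u => by simp [Finset.mul_sum, mul_assoc]

omit [Fintype F] in
theorem evalVec_remVec {P : F[X]} (hP : P.Monic) (hk : 0 < P.natDegree) (f : F[X]) (u : Fˣ)
    (hu : P.eval (u : F) = 0) : evalVec P.natDegree (remVec P f) u = f.eval (u : F) := by
  have hne : P ≠ 1 := fun h1 => by rw [h1, natDegree_one] at hk; exact lt_irrefl _ hk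
  have h1 : (f %ₘ P).eval (u : F) = f.eval (u : F) := by
    have := congrArg (Polynomial.eval (u : F)) (modByMonic_add_div f (q := P))
    simpa [hu] using this
  rw [← h1, eval_eq_sum_range' (natDegree_modByMonic_lt f hP hne), ← Fin.sum_univ_eq_sum_range]
  rfl

theorem evalVec_surjective {k : ℕ} (hk : Fintype.card F - 1 ≤ k) :
    Function.Surjective (evalVec (F := F) k) := by
  classical
  intro f
  set p := Lagrange.interpolate (Finset.univ : Finset Fˣ) (fun u => (u : F)) f with hp
  have hinj : Set.InjOn (fun u : Fˣ => (u : F)) (Finset.univ : Finset Fˣ) := Units.val_injective.injOn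
  have hdeg : p.degree < (Fintype.card Fˣ : ℕ) := Lagrange.degree_interpolate_lt f hinj
  refine ⟨fun t => p.coeff t, funext fun u => ?_⟩
  show ∑ t : Fin k, p.coeff t * (u : F) ^ (t : ℕ) = f u
  rw [← Lagrange.eval_interpolate_at_node f hinj (Finset.mem_univ u), ← hp,
    Fin.sum_univ_eq_sum_range (fun t => p.coeff t * (u : F) ^ t)]
  rcases eq_or_ne p 0 with hp0 | hp0
  · simp [hp0]
  · refine (eval_eq_sum_range' ?_ _).symm
    have := (natDegree_lt_iff_degree_lt hp0).mpr hdeg
    rw [Fintype.card_units] at this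
    omega

/-- Vectors whose polynomial vanishes at no nonzero element. -/
noncomputable def goodVecs (k : ℕ) : Finset (Fin k → F) := by
  classical exact Finset.univ.filter fun w => ∀ u, evalVec k w u ≠ 0

theorem mem_goodVecs {k : ℕ} {w : Fin k → F} : w ∈ goodVecs k ↔ ∀ u, evalVec k w u ≠ 0 := by
  classical
  simp [goodVecs]

theorem card_goodVecs {k : ℕ} (hk : Fintype.card F - 1 ≤ k) :
    Fintype.card F ^ (Fintype.card F - 1) * (goodVecs (F := F) k).card =
      (Fintype.card F - 1) ^ (Fintype.card F - 1) * Fintype.card F ^ k := by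
  classical
  set E := evalVec (F := F) k
  obtain ⟨s, hs⟩ := E.exists_rightInverse_of_surjective (LinearMap.range_eq_top.mpr (evalVec_surjective hk))
  have hs' : ∀ f, E (s f) = f := fun f => congrArg (fun l => l f) hs
  let e : (Fin k → F) ≃ (Fˣ → F) × LinearMap.ker E :=
    { toFun := fun w => (E w, ⟨w - s (E w), by simp [hs']⟩)
      invFun := fun x => s x.1 + x.2
      left_inv := fun w => by simp
      right_inv := fun x => by
        obtain ⟨f, v, hv⟩ := x
        rw [LinearMap.mem_ker] at hv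
        simp [hs', hv] }
  let S := {f : Fˣ → F // ∀ u, f u ≠ 0}
  have e2 : {w : Fin k → F // ∀ u, E w u ≠ 0} ≃ S × LinearMap.ker E :=
    (e.subtypeEquiv (q := fun x => ∀ u, x.1 u ≠ 0) fun w => Iff.rfl).trans
      { toFun := fun x => (⟨x.1.1, x.2⟩, x.1.2)
        invFun := fun x => ⟨(x.1.1, x.2), x.1.2⟩
        left_inv := fun x => rfl
        right_inv := fun x => rfl }
  have hS : Fintype.card S = (Fintype.card F - 1) ^ (Fintype.card F - 1) := by
    rw [Fintype.card_congr (Equiv.subtypePiEquivPi (p := fun _ (x : F) => x ≠ 0)), Fintype.card_pi,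
      Finset.prod_const, Finset.card_univ, Fintype.card_units, Fintype.card_subtype_compl,
      Fintype.card_subtype_eq]
  have h1 : (goodVecs (F := F) k).card = Fintype.card S * Fintype.card (LinearMap.ker E) := by
    rw [← Fintype.card_prod, ← Fintype.card_congr e2, Fintype.card_subtype]
    rfl
  have h2 := Fintype.card_congr e
  rw [Fintype.card_fun, Fintype.card_fin, Fintype.card_prod, Fintype.card_fun, Fintype.card_units] at h2
  rw [h1, hS, h2]
  ring

theorem two_mul_pow_lt {b : ℕ} (hb : 2 ≤ b) : 2 * b ^ b < (b + 1) ^ b := by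
  have key : ∀ n, 2 ≤ n → b ^ n + n * b ^ (n - 1) < (b + 1) ^ n := by
    intro n hn
    induction n, hn using Nat.le_induction with
    | base =>
      show b ^ 2 + 2 * b ^ 1 < (b + 1) ^ 2
      ring_nf
      omega
    | succ n hn ih =>
      have h1 : b ^ (n - 1) * b = b ^ n := by rw [← pow_succ]; congr 1; omega
      rw [pow_succ (b + 1), Nat.add_sub_cancel, pow_succ b n]
      have := Nat.mul_lt_mul_of_pos_right ih (show 0 < b + 1 by omega)
      have h2 : (b ^ n + n * b ^ (n - 1)) * (b + 1) =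
          b ^ n * b + (n + 1) * b ^ n + n * b ^ (n - 1) := by
        rw [← h1]; ring
      omega
  have h := key b hb
  have h1 : b * b ^ (b - 1) = b ^ b := by rw [← pow_succ']; congr 1; omega
  omega

/-- A polynomial whose only nonzero root candidates all are roots, over two elements. -/
theorem two_order_le (hd : 4 ≤ d) (hq : Fintype.card F = 2) (g : GL (Fin d) F)
    (hroot : (Matrix.charpoly (g : Matrix (Fin d) (Fin d) F)).eval 1 = 0) :
    2 * orderOf (glAut g) ≤ 2 ^ d - 1 := by
  classical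
  set M := (g : Matrix (Fin d) (Fin d) F) with hM
  set P := M.charpoly with hPdef
  have hPm : P.Monic := M.charpoly_monic
  have hPd : P.natDegree = d := by rw [hPdef, Matrix.charpoly_natDegree_eq_dim, Fintype.card_fin]
  have hP0 : aeval M P = 0 := M.aeval_self_charpoly
  have hk : 0 < P.natDegree := by omega
  have : Nonempty (Fin d) := ⟨⟨0, by omega⟩⟩
  have hu1 : ∀ u : Fˣ, (u : F) = 1 := by
    intro u
    have h1 : Fintype.card Fˣ = 1 := by rw [Fintype.card_units, hq]
    have := Fintype.card_le_one_iff_subsingleton.1 h1.le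
    rw [Subsingleton.elim u 1, Units.val_one]
  obtain ⟨r, hr, hnd⟩ := exists_eq_pow_rootMultiplicity_mul_and_not_dvd P hPm.ne_zero (1 : F)
  have hm0 : 0 < rootMultiplicity (1 : F) P := (rootMultiplicity_pos hPm.ne_zero).2 hroot
  revert hr hm0
  generalize rootMultiplicity (1 : F) P = m
  intro hr hm0
  have hrm : r.Monic := ((monic_X_sub_C (1 : F)).pow m).of_mul_monic_left (hr ▸ hPm)
  have hdeg : m + r.natDegree = d := by
    rw [← hPd, hr, ((monic_X_sub_C (1 : F)).pow m).natDegree_mul hrm, natDegree_pow, natDegree_X_sub_C,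
      mul_one]
  have h4 : 2 ^ d = 2 ^ (d - 2) * 4 := by
    rw [show (4 : ℕ) = 2 ^ 2 from rfl, ← pow_add]; congr 1; omega
  rcases Nat.eq_zero_or_pos r.natDegree with hr0 | hr0
  · have hr1 : r = 1 := Polynomial.eq_one_of_monic_natDegree_zero hrm hr0
    rw [hr1, mul_one] at hr
    have : Fact (Nat.Prime 2) := ⟨Nat.prime_two⟩
    have : CharP F 2 := charP_of_card_eq_prime hq
    have hpow : ∀ n, 4 ≤ n → n ≤ 2 ^ (n - 2) := by
      intro n hn
      induction n, hn using Nat.le_induction with
      | base => norm_num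
      | succ n hn ih =>
        rw [show n + 1 - 2 = n - 2 + 1 by omega, pow_succ]
        omega
    have h1 : M ^ (2 ^ (d - 2)) = 1 := by
      have h2 : (M - 1) ^ (2 ^ (d - 2)) = 0 := by
        refine pow_eq_zero_of_le (hpow d hd) ?_
        have := hP0
        rw [hr, map_pow, map_sub, aeval_X, aeval_C, map_one] at this
        rwa [show m = d by omega] at this
      rwa [sub_pow_char_pow_of_commute (p := 2) (h := Commute.one_right M), one_pow, sub_eq_zero] at h2
    have h3 : orderOf (glAut g) ≤ 2 ^ (d - 2) := by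
      refine Nat.le_of_dvd (by positivity) ?_
      rw [orderOf_dvd_iff_pow_eq_one, ← map_pow,
        show g ^ 2 ^ (d - 2) = 1 from Units.ext (by rw [Units.val_pow_eq_pow_val, Units.val_one]; exact h1),
        map_one]
    have h5 : 0 < 2 ^ (d - 2) := by positivity
    omega
  have hrmod : r %ₘ P = r := (modByMonic_eq_self_iff hPm).2 (degree_lt_degree (by omega))
  have hroots : ∀ u : Fˣ, P.eval (u : F) = 0 := fun u => by rw [hu1 u]; exact hroot
  have hgood : ∀ i (c : Fˣ), remVec P (C (c : F) * X ^ i) ∈ goodVecs P.natDegree := by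
    intro i c
    rw [mem_goodVecs]
    intro u
    rw [evalVec_remVec hPm hk _ u (hroots u)]
    simp
  have hvr : remVec P r ∈ goodVecs P.natDegree := by
    rw [mem_goodVecs]
    intro u
    rw [evalVec_remVec hPm hk _ u (hroots u), hu1 u]
    exact fun h => hnd (dvd_iff_isRoot.2 h)
  have hrP : r ∣ P := ⟨(X - C 1) ^ m, by rw [hr]; exact mul_comm _ _⟩
  have hnotin : ∀ i (c : Fˣ), remVec P (C (c : F) * X ^ i) ≠ remVec P r := by
    intro i c e
    have e1 := remVec_inj hPm hk e
    rw [hrmod, hu1 c, map_one, one_mul] at e1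
    have hdvd : r ∣ (X : F[X]) ^ i := by
      have := modByMonic_add_div ((X : F[X]) ^ i) (q := P)
      rw [e1] at this
      rw [← this]
      exact dvd_add dvd_rfl (hrP.mul_right _)
    obtain ⟨l, -, hl⟩ := (dvd_prime_pow (Polynomial.prime_X : Prime (X : F[X])) i).1 hdvd
    have hl0 : l ≠ 0 := by
      intro h
      rw [h, pow_zero, associated_one_iff_isUnit] at hl
      have := natDegree_eq_zero_of_isUnit hl
      omega
    have hX : (X : F[X]) ∣ P := ((dvd_pow_self X hl0).trans hl.symm.dvd).trans hrP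
    rw [X_dvd_iff] at hX
    have h0 : M.det = 0 := by rw [M.det_eq_sign_charpoly_coeff, ← hPdef, hX, mul_zero]
    exact ((Matrix.isUnit_iff_isUnit_det M).1 g.isUnit).ne_zero h0
  have hc := count_le (by omega : 2 ≤ d) g hPm hk hP0 ((goodVecs P.natDegree).erase (remVec P r))
    fun i c => Finset.mem_erase.2 ⟨hnotin i c, hgood i c⟩
  have hT := card_goodVecs (F := F) (k := P.natDegree) (by omega)
  have hpos : 0 < (goodVecs (F := F) P.natDegree).card := Finset.card_pos.2 ⟨_, hvr⟩
  rw [Finset.card_erase_of_mem hvr] at hc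
  rw [hq] at hT hc
  rw [show (2 : ℕ) ^ P.natDegree = 2 ^ d by rw [hPd]] at hT
  norm_num at hT hc
  omega

/-- All nonzero elements are roots, at least three elements. -/
theorem roots_order_le (hd : 2 ≤ d) (hq : 3 ≤ Fintype.card F) (g : GL (Fin d) F) (P : F[X]) (hPm : P.Monic)
    (hPd : P.natDegree = d) (hP0 : aeval (g : Matrix (Fin d) (Fin d) F) P = 0)
    (hall : ∀ u : Fˣ, P.eval (u : F) = 0) :
    2 * ((Fintype.card F - 1) * orderOf (glAut g)) ≤ Fintype.card F ^ d - 1 := by
  classical
  have hcard : Fintype.card F - 1 ≤ P.natDegree := by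
    have h1 : (Finset.univ.map ⟨((↑) : Fˣ → F), Units.val_injective⟩) ⊆ P.roots.toFinset := fun x hx => by
      obtain ⟨u, -, rfl⟩ := Finset.mem_map.1 hx
      exact Multiset.mem_toFinset.2 ((mem_roots hPm.ne_zero).2 (hall u))
    have := (Finset.card_le_card h1).trans ((Multiset.toFinset_card_le _).trans (card_roots' P))
    rwa [Finset.card_map, Finset.card_univ, Fintype.card_units] at this
  have hgood : ∀ i (c : Fˣ), remVec P (C (c : F) * X ^ i) ∈ goodVecs P.natDegree := by
    intro i c
    rw [mem_goodVecs]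
    intro u
    rw [evalVec_remVec hPm (by omega) _ u (hall u)]
    simp
  have hT := card_goodVecs (F := F) hcard
  have h1 := count_le hd g hPm (by omega) hP0 _ hgood
  revert hT h1
  generalize (goodVecs (F := F) P.natDegree).card = T
  rw [hPd]
  generalize orderOf (glAut g) = o
  revert hq
  generalize Fintype.card F = q
  intro hq hT h1
  obtain ⟨b, rfl⟩ : ∃ b, q = b + 1 := ⟨q - 1, by omega⟩
  simp only [Nat.add_sub_cancel] at hT h1 ⊢
  have h2 := two_mul_pow_lt (show 2 ≤ b by omega)
  have h4 : 0 < (b + 1) ^ d := by positivity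
  have h3 : 2 * T < (b + 1) ^ d := by
    by_contra h
    push Not at h
    have h5 := Nat.mul_le_mul_left ((b + 1) ^ b) h
    have h6 := Nat.mul_lt_mul_of_pos_right h2 h4
    rw [mul_left_comm, hT, ← mul_assoc] at h5
    omega
  omega

omit [Fintype F] in
theorem map_transpose_smul (σ : F ≃+* F) (a : F) (N : Matrix (Fin d) (Fin d) F) :
    ((a • N).map σ)ᵀ = σ a • (N.map σ)ᵀ := by
  ext i k; simp

omit [Fintype F] in
/-- If `σ(g)ᵀ` is conjugate to `g⁻¹` and `g` has minimal polynomial of degree at least 3, then `g - u` is not `c g^j`. -/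
theorem not_scalar_pow (σ : F ≃+* F) (A g : GL (Fin d) F)
    (hg : ((g : Matrix (Fin d) (Fin d) F).map σ)ᵀ =
      ((A⁻¹ * g⁻¹ * A : GL (Fin d) F) : Matrix (Fin d) (Fin d) F))
    (hdeg : 3 ≤ (minpoly F (g : Matrix (Fin d) (Fin d) F)).natDegree) (u : Fˣ) (j : ℤ) (c : F) :
    (g : Matrix (Fin d) (Fin d) F) - (u : F) • 1 ≠ c • ((g ^ j : GL (Fin d) F) : Matrix (Fin d) (Fin d) F) := by
  intro e
  have h1 : contraHom (glMap σ g) = A⁻¹ * g * A := by
    rw [← _root_.inv_inj]
    refine Units.ext ?_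
    rw [← map_inv, contraHom_coe, inv_inv, glMap_coe, hg]
    group
  have hgg : ((glMap σ (g ^ j) : GL (Fin d) F) : Matrix (Fin d) (Fin d) F)ᵀ =
      ((A⁻¹ * (g ^ j)⁻¹ * A : GL (Fin d) F) : Matrix (Fin d) (Fin d) F) := by
    have h2 : contraHom (glMap σ ((g ^ j)⁻¹)) = A⁻¹ * (g ^ j)⁻¹ * A := by
      rw [← _root_.zpow_neg, map_zpow, map_zpow, h1]
      simpa using conj_zpow (a := A⁻¹) (b := g) (i := -j)
    have h3 := congrArg Units.val h2
    rwa [contraHom_coe, ← map_inv, inv_inv] at h3
  have e2 : ((g⁻¹ : GL (Fin d) F) : Matrix (Fin d) (Fin d) F) - σ (u : F) • 1 =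
      σ c • (((g ^ j)⁻¹ : GL (Fin d) F) : Matrix (Fin d) (Fin d) F) := by
    have e1 := congrArg (fun N : Matrix (Fin d) (Fin d) F => (N.map σ)ᵀ) e
    simp only [Matrix.map_sub _ (map_sub σ), transpose_sub, map_transpose_smul, ← glMap_coe, hgg] at e1
    rw [glMap_coe, hg, Matrix.map_one _ (map_zero σ) (map_one σ), transpose_one] at e1
    have e3 := congrArg (fun N => (A : Matrix (Fin d) (Fin d) F) * N *
      ((A⁻¹ : GL (Fin d) F) : Matrix (Fin d) (Fin d) F)) e1
    simp only [mul_sub, sub_mul, smul_mul_assoc, mul_smul_comm, mul_one, Units.val_mul, ← mul_assoc,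
      Units.mul_inv, one_mul] at e3
    simpa [mul_assoc] using e3
  set M := (g : Matrix (Fin d) (Fin d) F) with hM
  have hQ : aeval M (C (σ (u : F)) * X ^ 2 + C (c * σ c - 1 - (u : F) * σ (u : F)) * X + C (u : F)) = 0 := by
    have e4 := congrArg₂ (· * ·) e e2
    simp only [mul_sub, sub_mul, smul_mul_assoc, mul_smul_comm, smul_smul, Units.mul_inv, mul_one, one_mul,
      hM] at e4
    have e5 := congrArg (· * M) e4
    simp only [sub_mul, smul_mul_assoc, one_mul, hM, Units.inv_mul, ← sq] at e5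
    simp only [map_add, map_mul, aeval_C, map_pow, aeval_X, Algebra.algebraMap_eq_smul_one, smul_mul_assoc,
      one_mul, hM]
    rw [← sub_eq_zero] at e5
    rw [← neg_eq_zero, ← e5]
    module
  have hQ0 : (C (σ (u : F)) * X ^ 2 + C (c * σ c - 1 - (u : F) * σ (u : F)) * X + C (u : F)) ≠ 0 := by
    intro h
    have := congrArg (fun Q : F[X] => Q.coeff 0) h
    simp at this
  have := natDegree_le_of_dvd (minpoly.dvd F M hQ) hQ0
  have := natDegree_quadratic_le (a := σ (u : F)) (b := c * σ c - 1 - (u : F) * σ (u : F)) (c := (u : F))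
  omega

/-- The case of a graph part with trivial square of the field part. -/
theorem graph_order_le (hd : 3 ≤ d) (hex : ¬ (d = 3 ∧ Fintype.card F = 2)) (A g : GL (Fin d) F)
    (σ : F ≃+* F)
    (hg : ((g : Matrix (Fin d) (Fin d) F).map σ)ᵀ =
      ((A⁻¹ * g⁻¹ * A : GL (Fin d) F) : Matrix (Fin d) (Fin d) F)) :
    2 * ((Fintype.card F - 1) * orderOf (glAut g)) ≤ Fintype.card F ^ d - 1 := by
  classical
  have hq2 : 2 ≤ Fintype.card F := Fintype.one_lt_card
  set M := (g : Matrix (Fin d) (Fin d) F) with hM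
  have : Nonempty (Fin d) := ⟨⟨0, by omega⟩⟩
  have hint : IsIntegral F M := Matrix.isIntegral M
  have hkpos : 0 < (minpoly F M).natDegree := minpoly.natDegree_pos hint
  rcases lt_or_ge (minpoly F M).natDegree d with hk | hk
  · have h1 := count_le_pow (K := F) (by omega : 2 ≤ d) g (minpoly.monic hint) hkpos (minpoly.aeval F M)
    have h2 : 2 * Fintype.card F ^ (minpoly F M).natDegree ≤ Fintype.card F ^ d :=
      calc 2 * Fintype.card F ^ (minpoly F M).natDegree
          ≤ Fintype.card F * Fintype.card F ^ (minpoly F M).natDegree := Nat.mul_le_mul_right _ hq2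
        _ = Fintype.card F ^ ((minpoly F M).natDegree + 1) := (pow_succ' _ _).symm
        _ ≤ Fintype.card F ^ d := Nat.pow_le_pow_right (by omega) hk
    have h3 : 0 < Fintype.card F ^ (minpoly F M).natDegree := pow_pos (by omega) _
    omega
  have hPm := M.charpoly_monic
  have hPd : M.charpoly.natDegree = d := by rw [Matrix.charpoly_natDegree_eq_dim, Fintype.card_fin]
  have hP0 := M.aeval_self_charpoly
  by_cases hall : ∀ u : Fˣ, M.charpoly.eval (u : F) = 0
  · rcases eq_or_lt_of_le hq2 with hq2' | hq3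
    · have hd4 : 4 ≤ d := by
        by_contra h
        exact hex ⟨by omega, hq2'.symm⟩
      have := two_order_le hd4 hq2'.symm g (by simpa using hall 1)
      simp only [← hq2', show (2 : ℕ) - 1 = 1 from rfl, one_mul]
      exact this
    · exact roots_order_le (by omega) hq3 g _ hPm hPd hP0 hall
  push Not at hall
  obtain ⟨u, hu⟩ := hall
  have hunit : IsUnit (aeval M (X - C (u : F))) := by
    rw [map_sub, aeval_X, aeval_C, Matrix.isUnit_iff_isUnit_det, isUnit_iff_ne_zero]
    rw [Matrix.eval_charpoly] at hu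
    intro h
    apply hu
    rw [← neg_sub, Matrix.det_neg, show Matrix.scalar (Fin d) (u : F) = algebraMap F _ (u : F) from rfl, h,
      mul_zero]
  have h := count_double (by omega : 2 ≤ d) g hPm (by omega) hP0 _ hunit fun j c => by
    rw [map_sub, aeval_X, aeval_C, Algebra.algebraMap_eq_smul_one]
    exact not_scalar_pow σ A g hg (show 3 ≤ (minpoly F M).natDegree by omega) u j c
  rwa [hPd] at h

theorem orderOf_le (hd : 2 ≤ d) (h24 : ¬ (d = 2 ∧ Fintype.card F = 4))
    (h32 : ¬ (d = 3 ∧ Fintype.card F = 2)) (φ : MulAut (PSLn d F)) :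
    (Fintype.card F - 1) * orderOf φ ≤ Fintype.card F ^ d - 1 := by
  have := finite_ringEquiv (F := F)
  have hq : 2 ≤ Fintype.card F := Fintype.one_lt_card
  rw [geom_le_iff hq]
  have hQ2 : ∀ s : F ≃+* F, 2 ≤ Nat.card (fixedField s) := fun s => Finite.one_lt_card
  obtain ⟨A, σ, rfl | ⟨hd3, rfl⟩⟩ := exists_decomp hd φ
  · refine (semi_order_le hd A σ).trans ?_
    rw [card_eq_pow σ]
    refine mul_geom_sum_le (hQ2 σ) (orderOf_pos' σ) hd ?_
    rintro ⟨h1, h2, h3⟩
    exact h24 ⟨h1, by rw [card_eq_pow σ, h2, h3]; norm_num⟩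
  · set g := A * gfTwist σ A with hg
    have hsq : (semiAut A σ * invTAut) ^ 2 = semiAut g (σ * σ) := by
      rw [pow_two, mul_assoc, ← mul_assoc invTAut, invTAut_mul_semiAut, mul_assoc, invTAut_mul_self, mul_one,
        semiAut_mul]
      rfl
    have h2 : orderOf (semiAut A σ * invTAut) ≤ 2 * orderOf (semiAut g (σ * σ)) := by
      refine Nat.le_of_dvd (Nat.mul_pos two_pos (orderOf_pos _)) ?_
      rw [orderOf_dvd_iff_pow_eq_one, pow_mul, hsq, pow_orderOf_eq_one]
    refine h2.trans ?_
    by_cases hσ : σ * σ = 1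
    · rw [hσ]
      change 2 * orderOf (glAut g) ≤ _
      rw [← geom_le_iff hq, mul_left_comm]
      refine graph_order_le hd3 h32 A g σ ?_
      have hss : ∀ x, σ (σ x) = x := fun x => DFunLike.congr_fun hσ x
      rw [hg, _root_.mul_inv_rev, ← mul_assoc, inv_mul_cancel_right, ← map_inv, Units.val_mul, Units.val_mul,
        gfTwist_coe, gfTwist_coe, Matrix.map_mul, transpose_mul, inv_inv]
      congr 1
      ext i j
      simp [hss]
    · have he : 2 ≤ orderOf (σ * σ) := by
        have := orderOf_pos' (σ * σ)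
        have : orderOf (σ * σ) ≠ 1 := fun h => hσ (orderOf_eq_one_iff.1 h)
        omega
      calc 2 * orderOf (semiAut g (σ * σ))
          ≤ 2 * (orderOf (σ * σ) * ∑ i ∈ Finset.range d, Nat.card (fixedField (σ * σ)) ^ i) :=
            Nat.mul_le_mul_left _ (semi_order_le hd g _)
        _ ≤ _ := by
          rw [← mul_assoc, card_eq_pow (σ * σ)]
          refine two_mul_geom_sum_le (hQ2 _) he ?_ hd3
          rintro ⟨h1, h2'⟩
          apply hσ
          have h4 : Fintype.card F = 2 ^ 2 := by rw [card_eq_pow (σ * σ), h1, h2']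
          have := Fact.mk Nat.prime_two
          have := Nat.le_of_dvd two_pos (orderOf_dvd_of_card σ h4).1
          have h5 := pow_orderOf_eq_one σ
          rcases (by have := orderOf_pos' σ; omega : orderOf σ = 1 ∨ orderOf σ = 2) with h | h
          · rw [orderOf_eq_one_iff.1 h, one_mul]
          · rwa [h, pow_two] at h5

end Finite

end Cfsg.Agent.H58.PSLAutOrder
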