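import Mathlib
import Cfsg.Agent.H58.LocalBalance
import Cfsg.Agent.H58.PSLGraphField
import Cfsg.Agent.Linear.Simple
import Cfsg.Agent.Linear.Order

/-!
# Field automorphisms of `PSL_n` and local balance
-/

set_option autoImplicit false
set_option linter.unusedSectionVars false

namespace Cfsg.Agent.H58.PSLFieldBalance

open Matrix Cfsg.Agent.H56 Cfsg.Agent.H58.PSLAut Cfsg.Agent.H58.Twist Cfsg.Agent.H58.Descent
  Cfsg.Agent.H58.PSLTwist Cfsg.Agent.H58.PSLCentralizer Cfsg.Agent.H58.LocalBalance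

section Small

variable {F₀ : Type*} [Field F₀] [Fintype F₀] {n p : ℕ} [hp : Fact p.Prime]

theorem toP_eq_one_iff (s : SLn n F₀) :
    toP s = 1 ↔ ∃ c : F₀, (s : Matrix (Fin n) (Fin n) F₀) = Matrix.scalar (Fin n) c := by
  rw [toP, QuotientGroup.mk'_apply, QuotientGroup.eq_one_iff, Matrix.SpecialLinearGroup.mem_center_iff]
  exact ⟨fun ⟨c, _, hc⟩ => ⟨c, hc.symm⟩, fun ⟨c, hc⟩ => ⟨c, by
    have h := s.det_coe
    rw [hc, Matrix.scalar_apply, Matrix.det_diagonal, Finset.prod_const, Finset.card_univ] at h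
    exact h, hc.symm⟩⟩

/-- A prime dividing `|SL_n(q)|` divides `|PSL_n(q)|`. -/
theorem dvd_card_PSL (hn : 2 ≤ n) (hd : p ∣ Nat.card (SLn n F₀)) : p ∣ Nat.card (PSLn n F₀) := by
  have : Nonempty (Fin n) := ⟨⟨0, by omega⟩⟩
  by_cases h1 : p ∣ Fintype.card F₀ - 1
  · obtain ⟨ω, hω⟩ := exists_prime_orderOf_dvd_card' (G := F₀ˣ) p (by rw [Linear.card_units']; exact h1)
    suffices h : ∃ y : PSLn n F₀, orderOf y = p by
      obtain ⟨y, hy⟩ := h
      exact hy ▸ orderOf_dvd_natCard y
    by_cases hcase : 3 ≤ n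
    · let i : Fin n := ⟨0, by omega⟩
      let j : Fin n := ⟨1, by omega⟩
      let k : Fin n := ⟨2, by omega⟩
      let d : Fin n → F₀ˣ := Pi.mulSingle i ω * Pi.mulSingle j ω⁻¹
      have hdet : (Matrix.diagonal fun a => (d a : F₀)).det = 1 := by
        rw [Matrix.det_diagonal, ← Units.coe_prod]
        simp [d, Finset.prod_mul_distrib]
      let s : SLn n F₀ := ⟨_, hdet⟩
      refine ⟨toP s, orderOf_eq_prime ?_ ?_⟩
      · rw [← map_pow]
        refine (congrArg toP (Subtype.ext ?_ : s ^ p = 1)).trans (map_one _)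
        show (Matrix.diagonal fun a => (d a : F₀)) ^ p = 1
        rw [Matrix.diagonal_pow, ← Matrix.diagonal_one]
        congr 1
        funext a
        have hd1 : d a ^ p = 1 := by
          simp only [d, Pi.mul_apply, mul_pow, Pi.mulSingle_apply]
          split_ifs <;> simp [inv_pow, ← hω, pow_orderOf_eq_one]
        simpa using congrArg Units.val hd1
      · intro h
        obtain ⟨c, hc⟩ := (toP_eq_one_iff s).1 h
        have e : ∀ a, (d a : F₀) = c := fun a => by
          have := congrFun (congrFun hc a) a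
          simpa [s] using this
        have h2 : (d i : F₀) = d k := (e i).trans (e k).symm
        have : ω = 1 := by
          refine Units.ext ?_
          simpa [d, i, j, k, Pi.mulSingle_apply, Fin.ext_iff] using h2
        rw [this, orderOf_one] at hω
        exact hp.out.one_lt.ne hω
    · obtain rfl : n = 2 := by omega
      by_cases hp2 : p = 2
      · subst hp2
        let w : SLn 2 F₀ := ⟨!![0, 1; -1, 0], by simp [Matrix.det_fin_two]⟩
        refine ⟨toP w, orderOf_eq_prime ?_ ?_⟩
        · rw [← map_pow, toP_eq_one_iff]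
          refine ⟨-1, ?_⟩
          rw [Matrix.SpecialLinearGroup.coe_pow, pow_two]
          ext a b
          fin_cases a <;> fin_cases b <;> simp [w]
        · intro h
          obtain ⟨c, hc⟩ := (toP_eq_one_iff w).1 h
          simpa [w] using congrFun (congrFun hc 0) 1
      · have hdet : (!![(ω : F₀), 0; 0, ((ω⁻¹ : F₀ˣ) : F₀)]).det = 1 := by simp [Matrix.det_fin_two]
        let s : SLn 2 F₀ := ⟨_, hdet⟩
        refine ⟨toP s, orderOf_eq_prime ?_ ?_⟩
        · rw [← map_pow]
          refine (congrArg toP (Subtype.ext ?_ : s ^ p = 1)).trans (map_one _)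
          rw [Matrix.SpecialLinearGroup.coe_pow]
          show (!![(ω : F₀), 0; 0, ((ω⁻¹ : F₀ˣ) : F₀)]) ^ p = 1
          rw [show (!![(ω : F₀), 0; 0, ((ω⁻¹ : F₀ˣ) : F₀)]) = Matrix.diagonal ![(ω : F₀), ((ω⁻¹ : F₀ˣ) : F₀)] by
            ext a b; fin_cases a <;> fin_cases b <;> simp, Matrix.diagonal_pow, ← Matrix.diagonal_one]
          congr 1
          funext a
          fin_cases a
          · show (ω : F₀) ^ p = 1
            rw [← Units.val_pow_eq_pow_val, ← hω, pow_orderOf_eq_one, Units.val_one]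
          · show ((ω⁻¹ : F₀ˣ) : F₀) ^ p = 1
            rw [← Units.val_pow_eq_pow_val, inv_pow, ← hω, pow_orderOf_eq_one, inv_one, Units.val_one]
        · intro h
          obtain ⟨c, hc⟩ := (toP_eq_one_iff s).1 h
          have h2 : (ω : F₀) = ((ω⁻¹ : F₀ˣ) : F₀) := by
            have e0 := congrFun (congrFun hc 0) 0
            have e1 := congrFun (congrFun hc 1) 1
            simp [s] at e0 e1
            rw [Units.val_inv_eq_inv_val, e1, e0]
          have h3 : ω ^ 2 = 1 := by
            rw [pow_two]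
            exact mul_eq_one_iff_eq_inv.2 (Units.ext h2)
          have := orderOf_dvd_of_pow_eq_one h3
          rw [hω, Nat.prime_dvd_prime_iff_eq hp.out Nat.prime_two] at this
          exact hp2 this
  · rw [← Linear.card_center_mul_card_PSL] at hd
    refine (hp.out.dvd_mul.1 hd).resolve_left fun h => h1 ?_
    rw [Linear.card_center_SL, Fintype.card_fin] at h
    exact h.trans (Nat.gcd_dvd_right _ _)

/-- `PSL_n(q)` has no non-trivial normal subgroup of order prime to a prime divisor of its order, other than the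
characteristic. -/
theorem psl_no_sub (hn : 2 ≤ n) (hr : ¬ p ∣ Fintype.card F₀) (hd : p ∣ Nat.card (PSLn n F₀))
    (N : Subgroup (PSLn n F₀)) (hN : N.Normal) (hco : (Nat.card N).Coprime p)
    (hZ : ∀ z : PSLn n F₀, (∀ w, z * w = w * z) → z = 1) : N = ⊥ := by
  by_cases hs : n = 2 → 4 ≤ Nat.card F₀
  · have := Linear.isSimpleGroup_PSL_fin hn hs
    exact simple_normal hd N hN hco
  · push Not at hs
    obtain ⟨rfl, hq⟩ := hs
    rw [Nat.card_eq_fintype_card] at hq
    have hpr := hp.out
    have hcard := Linear.card_PSL_two_mul (F := F₀)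
    have h1q := Fintype.one_lt_card (α := F₀)
    rcases (show Fintype.card F₀ = 2 ∨ Fintype.card F₀ = 3 by omega) with h | h <;>
      rw [h] at hcard hr
    · have hPS : Nat.card (PSLn 2 F₀) = 6 := by norm_num at hcard; omega
      rw [hPS] at hd
      obtain rfl : p = 3 := by
        rcases (hpr.dvd_mul (m := 2) (n := 3)).1 hd with e | e
        · exact absurd (by rw [(Nat.prime_dvd_prime_iff_eq hpr Nat.prime_two).1 e]) hr
        · exact (Nat.prime_dvd_prime_iff_eq hpr Nat.prime_three).1 e
      have hdvd := hPS ▸ Subgroup.card_subgroup_dvd_card N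
      rcases (show Nat.card N = 1 ∨ Nat.card N = 2 by
        have := Nat.le_of_dvd (by norm_num) hdvd
        interval_cases h : Nat.card N <;> first | (left; rfl) | (right; rfl) | (norm_num at hdvd; done) | (norm_num at hco; done)) with h2 | h2
      · exact Subgroup.card_eq_one.1 h2
      · rw [Subgroup.eq_bot_iff_forall]
        intro x hx
        by_contra hx1
        refine hx1 (hZ x fun w => ?_)
        obtain ⟨y, -, hy⟩ := (Nat.card_eq_two_iff' (1 : N)).1 h2
        have hne : w * x * w⁻¹ ≠ 1 := fun e1 => hx1 (conj_eq_one_iff.1 e1)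
        have e1 := hy ⟨x, hx⟩ fun e => hx1 (congrArg Subtype.val e)
        have e2 := hy ⟨w * x * w⁻¹, hN.conj_mem x hx w⟩ fun e => hne (congrArg Subtype.val e)
        have h3 : x = w * x * w⁻¹ := congrArg Subtype.val (e1.trans e2.symm)
        exact (eq_mul_inv_iff_mul_eq.1 h3)
    · have hPS : Nat.card (PSLn 2 F₀) = 12 := by
        rw [show Nat.gcd 2 (3 - 1) = 2 from rfl] at hcard
        exact Nat.eq_of_mul_eq_mul_left two_pos (hcard.trans (by norm_num))
      rw [hPS] at hd
      obtain rfl : p = 2 := by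
        rcases (hpr.dvd_mul (m := 4) (n := 3)).1 hd with e | e
        · exact (Nat.prime_dvd_prime_iff_eq hpr Nat.prime_two).1 (hpr.dvd_of_dvd_pow (n := 2) e)
        · exact absurd (by rw [(Nat.prime_dvd_prime_iff_eq hpr Nat.prime_three).1 e]) hr
      have hdvd := hPS ▸ Subgroup.card_subgroup_dvd_card N
      rcases (show Nat.card N = 1 ∨ Nat.card N = 3 by
        have := Nat.le_of_dvd (by norm_num) hdvd
        interval_cases h : Nat.card N <;> first | (left; rfl) | (right; rfl) | (norm_num at hdvd; done) | (norm_num at hco; done)) with h3 | h3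
      · exact Subgroup.card_eq_one.1 h3
      · exfalso
        have hi : N.index = 4 := by
          have := Subgroup.card_mul_index N
          rw [hPS, h3] at this
          omega
        have htop : (N.comap (toP (n := 2) (F := F₀))) = ⊤ := by
          refine Linear.eq_top_of_transvection_mem fun a b hab c => ?_
          rw [Subgroup.mem_comap]
          set u := toP (n := 2) (F := F₀) (Matrix.SpecialLinearGroup.transvection hab c)
          have hu : u ^ 3 = 1 := by
            show toP (n := 2) (F := F₀) (Matrix.SpecialLinearGroup.transvection hab c) ^ 3 = 1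
            rw [← map_pow]
            refine (congrArg toP (Subtype.ext ?_ : Matrix.SpecialLinearGroup.transvection hab c ^ 3 = 1)).trans (map_one _)
            rw [Matrix.SpecialLinearGroup.coe_pow, pow_succ, pow_two]
            show Matrix.transvection a b c * Matrix.transvection a b c * Matrix.transvection a b c = 1
            rw [Matrix.transvection_mul_transvection_same a b hab, Matrix.transvection_mul_transvection_same a b hab,
              show c + c + c = 0 from by
                have h30 : (3 : F₀) = 0 := by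
                  have := FiniteField.cast_card_eq_zero F₀
                  rw [h] at this
                  simpa using this
                linear_combination c * h30, Matrix.transvection_zero]
          have h4 : (QuotientGroup.mk' N u) ^ 4 = 1 := by
            rw [← hi, Subgroup.index_eq_card]
            exact pow_card_eq_one'
          have h3' : (QuotientGroup.mk' N u) ^ 3 = 1 := by rw [← map_pow, hu, map_one]
          rw [← QuotientGroup.eq_one_iff]
          rw [pow_succ, h3', one_mul] at h4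
          exact h4
        have : N = ⊤ := by
          rw [← Subgroup.map_comap_eq_self_of_surjective toP_surjective N, htop,
            Subgroup.map_top_of_surjective _ toP_surjective]
        rw [this, Subgroup.card_top, hPS] at h3
        omega

end Small

section Field

variable {F : Type*} [Field F] [Fintype F] {n : ℕ} {σ : F ≃+* F} {F₀ : Type*} [Field F₀] [Fintype F₀] (e : F₀ →+* F)
  (he : ∀ x, σ (e x) = e x) (he' : ∀ a, σ a = a → ∃ x, e x = a)

theorem map_injective' : Function.Injective (GeneralLinearGroup.map (n := Fin n) e) := fun x y h =>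
  Units.ext (Matrix.ext fun i j => e.injective
    (congrArg (fun M : GL (Fin n) F => (M : Matrix (Fin n) (Fin n) F) i j) h))

theorem map_eq_scalar {B : GL (Fin n) F₀} (hn : 0 < n) {c : Fˣ}
    (h : GeneralLinearGroup.map e B = GeneralLinearGroup.scalar (Fin n) c) :
    ∃ c₀ : F₀ˣ, B = GeneralLinearGroup.scalar (Fin n) c₀ := by
  have hentry : ∀ i j, e ((B : Matrix (Fin n) (Fin n) F₀) i j) = if i = j then (c : F) else 0 := by
    intro i j
    have := congrArg (fun M : GL (Fin n) F => (M : Matrix (Fin n) (Fin n) F) i j) h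
    rw [GeneralLinearGroup.coe_scalar, Matrix.scalar_apply, Matrix.diagonal_apply] at this
    exact this
  let i₀ : Fin n := ⟨0, hn⟩
  have hd : (B : Matrix (Fin n) (Fin n) F₀) i₀ i₀ ≠ 0 := fun h0 => by
    have := hentry i₀ i₀
    rw [h0, map_zero, if_pos rfl] at this
    exact c.ne_zero this.symm
  refine ⟨Units.mk0 _ hd, Units.ext (Matrix.ext fun i j => e.injective ?_)⟩
  rw [GeneralLinearGroup.coe_scalar, Matrix.scalar_apply, Matrix.diagonal_apply, hentry, apply_ite e, map_zero,
    Units.val_mk0, hentry, if_pos rfl]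

/-- `SL_n(F₀) → Aut PSL_n(F)`. -/
noncomputable def slι : SLn n F₀ →* MulAut (PSLn n F) :=
  glAut.comp ((GeneralLinearGroup.map e).comp (Matrix.SpecialLinearGroup.toGL (n := Fin n) (R := F₀)))

theorem slι_apply (s : SLn n F₀) :
    slι e s = glAut (GeneralLinearGroup.map e (Matrix.SpecialLinearGroup.toGL s)) := rfl

theorem ker_slι (hn : 2 ≤ n) : (slι (n := n) e).ker = Subgroup.center (SLn n F₀) := by
  ext s
  rw [MonoidHom.mem_ker, slι_apply, glAut_eq_one_iff hn,
    show Subgroup.center (SLn n F₀) = (toP (n := n) (F := F₀)).ker from (QuotientGroup.ker_mk' _).symm,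
    MonoidHom.mem_ker, toP_eq_one_iff]
  constructor
  · rintro ⟨c, hc⟩
    obtain ⟨c₀, hc₀⟩ := map_eq_scalar e (by omega) hc
    exact ⟨c₀, congrArg Units.val hc₀⟩
  · rintro ⟨c, hc⟩
    have hc0 : c ≠ 0 := fun h0 => by
      have h := s.det_coe
      rw [hc, h0, map_zero, @Matrix.det_zero (Fin n) _ _ F₀ _ ⟨⟨0, by omega⟩⟩] at h
      exact zero_ne_one h
    refine ⟨Units.map (e : F₀ →* F) (Units.mk0 c hc0), ?_⟩
    rw [show Matrix.SpecialLinearGroup.toGL s = GeneralLinearGroup.scalar (Fin n) (Units.mk0 c hc0) from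
      Units.ext (hc.trans (GeneralLinearGroup.coe_scalar (Units.mk0 c hc0)).symm), GeneralLinearGroup.map_scalar]

/-- `PSL_n(F₀) → Aut PSL_n(F)`. -/
noncomputable def ι (hn : 2 ≤ n) : PSLn n F₀ →* MulAut (PSLn n F) :=
  QuotientGroup.lift _ (slι e) (ker_slι e hn).ge

theorem ι_toP (hn : 2 ≤ n) (s : SLn n F₀) : ι e hn (toP s) = slι e s := rfl

theorem ι_injective (hn : 2 ≤ n) : Function.Injective (ι e hn) := by
  rw [injective_iff_map_eq_one]
  intro z hz
  obtain ⟨s, rfl⟩ := toP_surjective z
  rw [ι_toP, ← MonoidHom.mem_ker, ker_slι e hn] at hz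
  exact (QuotientGroup.eq_one_iff s).2 hz

theorem toGL_semiSL (g : GL (Fin n) F₀) (τ : F₀ ≃+* F₀) (s : SLn n F₀) :
    Matrix.SpecialLinearGroup.toGL (semiSL g τ s) = g * glMap τ (Matrix.SpecialLinearGroup.toGL s) * g⁻¹ :=
  Units.ext (smat_semiSL g τ s)

theorem toGL_invTSL (s : SLn n F₀) :
    Matrix.SpecialLinearGroup.toGL (invTSL s) = contraHom (Matrix.SpecialLinearGroup.toGL s) :=
  Units.ext (by rw [contraHom_coe, ← map_inv]; rfl)

/-- Semilinear maps over `F₀` and over `F` intertwine. -/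
theorem ι_semiAut (hn : 2 ≤ n) (g : GL (Fin n) F₀) {τ : F ≃+* F} {τ₀ : F₀ ≃+* F₀} (hτ : ∀ x, τ (e x) = e (τ₀ x))
    (z : PSLn n F₀) :
    glAut (GeneralLinearGroup.map e g) * semiAut 1 τ * ι e hn z * (glAut (GeneralLinearGroup.map e g) * semiAut 1 τ)⁻¹
      = ι e hn (semiAut g τ₀ z) := by
  obtain ⟨s, rfl⟩ := toP_surjective z
  rw [semiAut_toP, ι_toP, ι_toP, slι_apply, slι_apply, toGL_semiSL, map_mul, map_mul, map_mul, map_mul,
    show GeneralLinearGroup.map e (glMap τ₀ (Matrix.SpecialLinearGroup.toGL s))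
      = glMap τ (GeneralLinearGroup.map e (Matrix.SpecialLinearGroup.toGL s)) from
        Units.ext (Matrix.ext fun i j => (hτ _).symm), ← field_conj, map_inv, map_inv]
  group

theorem ι_invT (hn : 2 ≤ n) (z : PSLn n F₀) : invTAut * ι e hn z * invTAut⁻¹ = ι e hn (invTAut z) := by
  obtain ⟨s, rfl⟩ := toP_surjective z
  rw [show invTAut (toP s) = toP (invTSL s) from rfl, ι_toP, ι_toP, slι_apply, slι_apply, toGL_invTSL,
    invTAut_mul_glAut, mul_inv_cancel_right]
  congr 1

include he in
theorem range_ι_le (hn : 2 ≤ n) :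
    (ι (n := n) e hn).range ≤ Cfsg.Inn (PSLn n F) ⊓ Subgroup.centralizer {semiAut (1 : GL (Fin n) F) σ} := by
  rintro _ ⟨z, rfl⟩
  obtain ⟨s, rfl⟩ := toP_surjective z
  refine ⟨?_, ?_⟩
  · rw [Inn_eq_map, ι_toP, slι_apply]
    exact ⟨_, ⟨Matrix.SpecialLinearGroup.map e s, rfl⟩, congrArg glAut (Units.ext rfl)⟩
  · rw [ι_toP, slι_apply]
    exact (commutes_iff glAut (glMap σ) _ (field_conj σ) _).2
      (by rw [show glMap σ (GeneralLinearGroup.map e (Matrix.SpecialLinearGroup.toGL s)) =
        GeneralLinearGroup.map e (Matrix.SpecialLinearGroup.toGL s) from Units.ext (Matrix.ext fun i j => he _)])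

include he he' in
theorem exists_of_mem (hn : 2 ≤ n) {x : MulAut (PSLn n F)}
    (hx : x ∈ Cfsg.Inn (PSLn n F) ⊓ Subgroup.centralizer {semiAut (1 : GL (Fin n) F) σ}) :
    ∃ B : GL (Fin n) F₀, x = glAut (GeneralLinearGroup.map e B) := by
  have h : x ∈ Cfsg.inndiagPSL n F ⊓ Subgroup.centralizer {semiAut (1 : GL (Fin n) F) σ} :=
    ⟨Inn_le_inndiag hx.1, hx.2⟩
  rw [field_centralizer hn e he he'] at h
  obtain ⟨_, ⟨B, rfl⟩, rfl⟩ := h
  exact ⟨B, rfl⟩

include he he' in
theorem noPrimeSub (hn : 2 ≤ n) {p : ℕ} [hp : Fact p.Prime] (hr : ¬ p ∣ Fintype.card F₀)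
    (hd : p ∣ Nat.card ↥(Cfsg.Inn (PSLn n F) ⊓ Subgroup.centralizer {semiAut (1 : GL (Fin n) F) σ})) :
    NoPrimeSub (Cfsg.Inn (PSLn n F)) p (semiAut (1 : GL (Fin n) F) σ) := by
  have hC : ∀ x ∈ Cfsg.Inn (PSLn n F) ⊓ Subgroup.centralizer {semiAut (1 : GL (Fin n) F) σ},
      (∀ s ∈ (ι (n := n) e hn).range, x * s = s * x) → x = 1 := by
    intro x hx hs
    obtain ⟨B, rfl⟩ := exists_of_mem e he he' hn hx
    have h1 : semiAut B (RingEquiv.refl F₀) = 1 := MulEquiv.ext fun z => ι_injective e hn (by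
      rw [← ι_semiAut e hn B (τ := RingEquiv.refl F) (fun _ => rfl) z,
        show semiAut (1 : GL (Fin n) F) (RingEquiv.refl F) = 1 from semiAut_one, mul_one,
        hs _ ⟨z, rfl⟩, mul_inv_cancel_right]
      rfl)
    obtain ⟨-, c, rfl⟩ := eq_of_semiAut_eq_one hn h1
    rw [GeneralLinearGroup.map_scalar]
    exact semiAut_scalar _
  have hdS : p ∣ Nat.card (PSLn n F₀) := by
    refine dvd_card_PSL hn ?_
    rw [← Linear.card_PGL_eq]
    refine hd.trans ?_
    let f : GL (Fin n) F₀ →* MulAut (PSLn n F) := glAut.comp (GeneralLinearGroup.map e)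
    refine (Subgroup.card_dvd_of_le (K := f.range) fun x hx => ?_).trans ?_
    · obtain ⟨B, rfl⟩ := exists_of_mem e he he' hn hx
      exact ⟨B, rfl⟩
    · have hle : Subgroup.center (GL (Fin n) F₀) ≤ f.ker := by
        rw [GeneralLinearGroup.center_eq_range_scalar]
        rintro _ ⟨c, rfl⟩
        rw [MonoidHom.mem_ker, MonoidHom.comp_apply, GeneralLinearGroup.map_scalar]
        exact semiAut_scalar _
      rw [show f.range = (QuotientGroup.lift _ f hle).range from (MonoidHom.range_eq_map f).trans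
        (le_antisymm (by rintro _ ⟨B, -, rfl⟩; exact ⟨QuotientGroup.mk B, rfl⟩)
          (by rintro _ ⟨B, rfl⟩; induction B using QuotientGroup.induction_on with | _ B; exact ⟨B, trivial, rfl⟩))]
      exact Subgroup.card_range_dvd _
  refine noPrimeSub_of (S := (ι (n := n) e hn).range) (range_ι_le e he hn) ?_ ?_ hC
  · intro g hg x hx
    obtain ⟨B, rfl⟩ := exists_of_mem e he he' hn hg
    obtain ⟨z, rfl⟩ := hx
    refine ⟨semiAut B (RingEquiv.refl F₀) z, ?_⟩
    rw [← ι_semiAut e hn B (τ := RingEquiv.refl F) (fun _ => rfl) z,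
      show semiAut (1 : GL (Fin n) F) (RingEquiv.refl F) = 1 from semiAut_one, mul_one]
  · refine sub_of_hom _ (ι_injective e hn) fun N hN hco => psl_no_sub hn hr hdS N hN hco fun z hz => ?_
    refine ι_injective e hn (((hC _ (range_ι_le e he hn ⟨z, rfl⟩)) ?_).trans (map_one _).symm)
    rintro _ ⟨w, rfl⟩
    rw [← map_mul, ← map_mul, hz w]

include he he' in
theorem selfCent (hn : 2 ≤ n) :
    SelfCent (Cfsg.Inn (PSLn n F)) (semiAut (1 : GL (Fin n) F) σ) := by
  intro y hy hc
  rw [Subgroup.mem_centralizer_singleton_iff] at hy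
  have hrestr : ∀ τ : F ≃+* F, (∀ x, σ (τ x) = τ (σ x)) → ∃ τ₀ : F₀ ≃+* F₀, ∀ x, τ (e x) = e (τ₀ x) := by
    intro τ hτ
    have hx : ∀ x, ∃ x', e x' = τ (e x) := fun x => he' _ (by rw [hτ, he])
    choose f hf using hx
    let f' : F₀ →+* F₀ :=
      { toFun := f
        map_one' := e.injective (by rw [hf, map_one, map_one])
        map_zero' := e.injective (by rw [hf, map_zero, map_zero])
        map_mul' := fun a b => e.injective (by rw [hf, map_mul, map_mul, map_mul, hf, hf])
        map_add' := fun a b => e.injective (by rw [hf, map_add, map_add, map_add, hf, hf]) }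
    exact ⟨RingEquiv.ofBijective f' ⟨f'.injective, Finite.surjective_of_injective f'.injective⟩, fun x => (hf x).symm⟩
  have hmain : ∀ (g : GL (Fin n) F) (τ : F ≃+* F),
      semiAut g τ * semiAut 1 σ = semiAut 1 σ * semiAut g τ →
      ∃ (g₀ : GL (Fin n) F₀) (τ₀ : F₀ ≃+* F₀), (∀ x, τ (e x) = e (τ₀ x)) ∧
        semiAut g τ = glAut (GeneralLinearGroup.map e g₀) * semiAut 1 τ := by
    intro g τ h
    rw [semiAut_split g τ, mul_assoc, ← mul_assoc (semiAut 1 σ),
      show semiAut 1 σ * glAut g = glAut (glMap σ g) * semiAut 1 σ from mul_inv_eq_iff_eq_mul.1 (field_conj σ g),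
      mul_assoc, semiAut_mul, semiAut_mul, map_one, map_one, mul_one] at h
    have h2 : semiAut ((glMap σ g)⁻¹ * g) ((τ.trans σ).symm.trans (σ.trans τ)) = 1 := by
      have h3 : (glAut (glMap σ g))⁻¹ * glAut g * semiAut 1 (σ.trans τ) = semiAut 1 (τ.trans σ) := by
        rw [mul_assoc, h, inv_mul_cancel_left]
      have h4 := congrArg (fun z => z * (semiAut (1 : GL (Fin n) F) (τ.trans σ))⁻¹) h3
      simp only [mul_inv_cancel] at h4
      rw [← map_inv, ← map_mul, glAut_apply, semiAut_inv, inv_one, map_one, semiAut_mul, semiAut_mul, map_one,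
        map_one, mul_one, mul_one] at h4
      exact h4
    obtain ⟨h5, c, h6⟩ := eq_of_semiAut_eq_one hn h2
    have hcomm : ∀ x, σ (τ x) = τ (σ x) := fun x => by
      have := RingEquiv.congr_fun h5 ((τ.trans σ) x)
      simpa using this.symm
    rw [inv_mul_eq_iff_eq_mul, ← GeneralLinearGroup.scalar_commute] at h6
    have h7 : glMap σ g = GeneralLinearGroup.scalar (Fin n) c⁻¹ * g := by
      conv_rhs => rw [h6, ← mul_assoc, ← map_mul, inv_mul_cancel, map_one, one_mul]
    obtain ⟨b, hb⟩ := exists_scalar_fixed σ (by omega) h7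
    obtain ⟨g₀, hg₀⟩ := (mem_range_map_iff e he he' _).2 hb
    obtain ⟨τ₀, hτ₀⟩ := hrestr τ hcomm
    refine ⟨g₀, τ₀, hτ₀, ?_⟩
    rw [hg₀, glAut_scalar_mul, semiAut_split g τ]
  obtain ⟨g, τ, hy' | ⟨h3, hy'⟩⟩ := exists_decomp hn y
  · subst hy'
    obtain ⟨g₀, τ₀, hτ₀, heq⟩ := hmain g τ hy
    have h1 : semiAut g₀ τ₀ = 1 := MulEquiv.ext fun z => ι_injective e hn (by
      rw [← ι_semiAut e hn g₀ hτ₀ z, ← heq, hc _ (range_ι_le e he hn ⟨z, rfl⟩), mul_inv_cancel_right]
      rfl)
    obtain ⟨hτ1, c, hg₀⟩ := eq_of_semiAut_eq_one hn h1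
    rw [heq, hg₀, GeneralLinearGroup.map_scalar, show ∀ d : Fˣ,
      glAut (GeneralLinearGroup.scalar (Fin n) d) = (1 : MulAut (PSLn n F)) from semiAut_scalar, one_mul]
    have hfix : ∀ a : F, σ a = a → τ a = a := fun a ha => by
      obtain ⟨x, rfl⟩ := he' a ha
      rw [hτ₀, hτ1, RingEquiv.refl_apply]
    have := finite_ringEquiv (F := F)
    obtain ⟨⟨_, k, rfl⟩, hg⟩ := FixedPoints.toAlgAut_surjective (Subgroup.zpowers σ) F
      (AlgEquiv.ofRingEquiv (f := τ) fun x : FixedPoints.subfield (Subgroup.zpowers σ) F =>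
        hfix _ ((mem_fixedField σ).1 x.2))
    have hτk : σ ^ k = τ := RingEquiv.ext fun a => DFunLike.congr_fun hg a
    refine ⟨k, ?_⟩
    show semiAut (1 : GL (Fin n) F) σ ^ k = _
    rw [← hτk]
    let φ : (F ≃+* F) →* MulAut (PSLn n F) :=
      { toFun := fun t => semiAut 1 t
        map_one' := semiAut_one
        map_mul' := fun s t => by rw [semiAut_mul, map_one, mul_one]; rfl }
    exact (map_zpow φ σ k).symm
  · exfalso
    subst hy'
    have hcI : semiAut (1 : GL (Fin n) F) σ * invTAut = invTAut * semiAut 1 σ := (invTAut_mul_field σ).symm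
    have hy2 : semiAut g τ * semiAut 1 σ = semiAut 1 σ * semiAut g τ := by
      refine mul_right_cancel (b := invTAut) ?_
      rw [mul_assoc, hcI, ← mul_assoc, hy, mul_assoc]
    obtain ⟨g₀, τ₀, hτ₀, heq⟩ := hmain g τ hy2
    refine semiAut_ne_invT h3 1 g₀ (RingEquiv.refl F₀) τ₀ ?_
    rw [semiAut_one]
    refine MulEquiv.ext fun z => ι_injective e hn ?_
    rw [MulAut.mul_apply, ← ι_semiAut e hn g₀ hτ₀, ← ι_invT e hn z, ← heq,
      show semiAut g τ * (invTAut * ι e hn z * invTAut⁻¹) * (semiAut g τ)⁻¹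
        = semiAut g τ * invTAut * ι e hn z * (semiAut g τ * invTAut)⁻¹ by group,
      hc _ (range_ι_le e he hn ⟨z, rfl⟩), mul_inv_cancel_right]
    rfl

include he in
theorem inf_ne_bot (hn : 2 ≤ n) :
    Cfsg.Inn (PSLn n F) ⊓ Subgroup.centralizer {semiAut (1 : GL (Fin n) F) σ} ≠ ⊥ := by
  intro h
  have hbot : (ι (n := n) e hn).range = ⊥ := le_bot_iff.1 ((range_ι_le e he hn).trans h.le)
  let a : Fin n := ⟨0, by omega⟩
  let b : Fin n := ⟨1, by omega⟩
  have hab : a ≠ b := by simp [a, b, Fin.ext_iff]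
  have h1 : toP (Matrix.SpecialLinearGroup.transvection hab (1 : F₀)) = 1 := ι_injective e hn (by
    rw [map_one]
    exact Subgroup.mem_bot.1 (hbot ▸ ⟨_, rfl⟩))
  obtain ⟨c, hc⟩ := (toP_eq_one_iff _).1 h1
  have := congrFun (congrFun hc a) b
  simp [Matrix.SpecialLinearGroup.transvection_coe, Matrix.transvection, hab] at this

end Field

end Cfsg.Agent.H58.PSLFieldBalance
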