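import Mathlib
import Cfsg.Agent.H58.LocalBalance
import Cfsg.Agent.H58.GraphPSL
import Cfsg.Agent.H58.PSLGraphField
import Cfsg.Agent.H58.FormCore
import Cfsg.Agent.Unitary.AutThm
import Cfsg.Agent.Unitary.Simple

/-!
# Graph and graph-field automorphisms of `PSL_n` and local balance
-/

set_option autoImplicit false
set_option linter.unusedSectionVars false

namespace Cfsg.Agent.H58.PSLGraphBalance

open Matrix Cfsg.Agent.H56 Cfsg.Agent.H58.PSLAut Cfsg.Agent.H58.Twist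
  Cfsg.Agent.H58.PSLTwist Cfsg.Agent.H58.PSLCentralizer Cfsg.Agent.H58.LocalBalance
  Cfsg.Agent.H58.FormSim Cfsg.Agent.H58.FormInvariants Cfsg.Agent.H58.GraphGeneric Cfsg.Agent.H58.GraphPSL

variable {F : Type*} [Field F] {n : ℕ}

/-- Commuting with an inner-diagonal automorphism, for a semilinear automorphism. -/
theorem commutes_glAut (g S : GL (Fin n) F) (τ : F ≃+* F) (hn : 2 ≤ n)
    (h : semiAut g τ * glAut S = glAut S * semiAut g τ) :
    ∃ c : Fˣ, g * glMap τ S = GeneralLinearGroup.scalar (Fin n) c * (S * g) := by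
  have h1 : glAut (g * glMap τ S * g⁻¹) = glAut S := by
    rw [map_mul, map_mul, map_inv, ← field_conj]
    calc glAut g * (semiAut 1 τ * glAut S * (semiAut 1 τ)⁻¹) * (glAut g)⁻¹
        = (glAut g * semiAut 1 τ) * glAut S * (glAut g * semiAut 1 τ)⁻¹ := by group
      _ = glAut S := by rw [← semiAut_split, h, mul_inv_cancel_right]
  obtain ⟨c, hc⟩ := (glAut_eq_iff hn).1 h1
  exact ⟨c, by rw [← mul_assoc, ← hc, inv_mul_cancel_right]⟩

variable [Fintype F]

theorem odd_of_coprime_two {k : ℕ} (h : k.Coprime 2) : Odd k := Nat.coprime_two_right.1 h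

section Graph

theorem graph_noPrimeSub (hn : 3 ≤ n) (h2 : (2 : F) ≠ 0) {h : GL (Fin n) F}
    (hG : Good (h : Matrix (Fin n) (Fin n) F)) : NoPrimeSub (Cfsg.Inn (PSLn n F)) 2 (gam h) := by
  intro M hM hn' hco
  let Γ := sim (h : Matrix (Fin n) (Fin n) F)
  refine FormCore.odd_eq_bot (H := (h : Matrix (Fin n) (Fin n) F)) (Γ := Γ) (glAut.comp Γ.subtype) hn h2 hG
    (fun g hg => mem_sim_iff.1 hg) (fun g hg _ => mem_sim_iff.2 ⟨1, by rw [Units.val_one]; exact hg⟩)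
    (fun g => glAut_eq_one_iff (by omega)) M ?_ (odd_of_coprime_two hco) fun s hs hdet _ x hx => hn' _ ⟨?_, ?_⟩ x hx
  · intro x hx
    have h1 : x ∈ Cfsg.inndiagPSL n F ⊓ Subgroup.centralizer {gam h} := ⟨Inn_le_inndiag (hM hx).1, (hM hx).2⟩
    rw [centralizer_gam hn h] at h1
    obtain ⟨B, hB, rfl⟩ := h1
    exact ⟨⟨B, hB⟩, rfl⟩
  · rw [Inn_eq_map]
    exact ⟨_, ⟨⟨_, hdet⟩, rfl⟩, congrArg glAut (Units.ext rfl)⟩
  · have h1 : glAut (s : GL (Fin n) F) ∈ Cfsg.inndiagPSL n F ⊓ Subgroup.centralizer {gam h} := by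
      rw [centralizer_gam hn h]; exact ⟨_, s.2, rfl⟩
    exact h1.2

theorem graph_selfCent (hn : 3 ≤ n) (h2 : (2 : F) ≠ 0) {h : GL (Fin n) F}
    (hG : Good (h : Matrix (Fin n) (Fin n) F)) : SelfCent (Cfsg.Inn (PSLn n F)) (gam h) := by
  intro y hy hc
  have hmem : ∀ s : Matrix (Fin n) (Fin n) F, Sims (h : Matrix (Fin n) (Fin n) F) s 1 → ∀ hdet : s.det = 1,
      glAut (Matrix.SpecialLinearGroup.toGL ⟨s, hdet⟩) ∈ Cfsg.Inn (PSLn n F) ⊓ Subgroup.centralizer {gam h} := by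
    intro s hs hdet
    refine ⟨by rw [Inn_eq_map]; exact ⟨_, ⟨_, rfl⟩, rfl⟩, ?_⟩
    have h1 : glAut (Matrix.SpecialLinearGroup.toGL ⟨s, hdet⟩) ∈
        Cfsg.inndiagPSL n F ⊓ Subgroup.centralizer {gam h} := by
      rw [centralizer_gam hn h]
      exact ⟨_, mem_sim_iff.2 ⟨1, by rw [Units.val_one]; exact hs⟩, rfl⟩
    exact h1.2
  have key : ∀ (g : GL (Fin n) F) (τ : F ≃+* F),
      (∀ x ∈ Cfsg.Inn (PSLn n F) ⊓ Subgroup.centralizer {gam h}, semiAut g τ * x = x * semiAut g τ) →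
      semiAut g τ = 1 := by
    intro g τ hcomm
    obtain ⟨rfl, c, rfl⟩ := FormCore.rigid hn h2 hG g τ fun s hs hdet => by
      obtain ⟨c, hc⟩ := commutes_glAut g (Matrix.SpecialLinearGroup.toGL ⟨s, hdet⟩) τ (by omega)
        (hcomm _ (hmem s hs hdet))
      refine ⟨(c : F), ?_⟩
      have h' := congrArg Units.val hc
      rw [coe_scalar_mul, Units.val_mul, Units.val_mul, glMap_coe] at h'
      exact h'
    exact semiAut_scalar c
  obtain ⟨g, τ, rfl | ⟨-, rfl⟩⟩ := exists_decomp (by omega : 2 ≤ n) y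
  · rw [key g τ hc]; exact one_mem _
  · have e : semiAut g τ * invTAut * gam h = semiAut (g * glMap τ (contraHom h⁻¹)) ((RingEquiv.refl F).trans τ) := by
      rw [gam, mul_assoc, ← mul_assoc invTAut, invTAut_mul_glAut, mul_assoc, invTAut_mul_self, mul_one,
        glAut_apply, semiAut_mul]
    have h1 := key _ _ fun x hx => by
      rw [← e, mul_assoc, ← Subgroup.mem_centralizer_singleton_iff.1 hx.2, ← mul_assoc, hc x hx, mul_assoc]
    rw [← e, mul_eq_one_iff_eq_inv] at h1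
    rw [h1]
    exact Subgroup.inv_mem _ (Subgroup.mem_zpowers _)

end Graph

section GraphField

open Cfsg.Agent.Unitary (toPSU toPSU_surjective ap mat)

variable {σ : F ≃+* F} {q : ℕ}

theorem invol_PSU (hF : Fintype.card F = q ^ 2) (hn : 3 ≤ n) (h2 : (2 : F) ≠ 0) :
    2 ∣ Nat.card (Cfsg.PSU n F q) := by
  let d : Fin n → F := fun i => if (i : ℕ) < 2 then -1 else 1
  have hd : ∀ i, d i * d i ^ q = 1 := fun i => by
    by_cases hi : (i : ℕ) < 2
    · simp only [d, if_pos hi]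
      rw [Cfsg.Agent.Unitary.neg_pow_q hF, one_pow]
      ring
    · simp only [d, if_neg hi, one_pow, mul_one]
  have hP : Cfsg.Agent.Unitary.Preserves q (Matrix.diagonal d) := by
    intro u v
    simp only [Cfsg.hermForm, mulVec_diagonal]
    refine Finset.sum_congr rfl fun i _ => ?_
    rw [mul_pow]
    linear_combination (u i * v i ^ q) * hd i
  have hdet : (Matrix.diagonal d).det = 1 := by
    obtain ⟨k, rfl⟩ : ∃ k, n = k + 2 := ⟨n - 2, by omega⟩
    rw [Matrix.det_diagonal, Fin.prod_univ_succ, Fin.prod_univ_succ]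
    simp [d]
  let s := Cfsg.Agent.Unitary.toSU hP hdet
  have hap : ∀ x i, ap s x i = d i * x i := fun x i => by
    rw [Cfsg.Agent.Unitary.ap_def, show mat s = Matrix.diagonal d from Cfsg.Agent.Unitary.coe_toSU hP hdet]; exact mulVec_diagonal _ _ _
  have hsq : (toPSU s) ^ 2 = 1 := by
    rw [← map_pow, show s ^ 2 = 1 from Cfsg.Agent.Unitary.ap_ext fun x => funext fun i => by
      rw [pow_two, Cfsg.Agent.Unitary.ap_mul, hap, hap, Cfsg.Agent.Unitary.ap_one]
      by_cases hi : (i : ℕ) < 2 <;> simp only [d, if_pos, if_neg, hi, if_true, if_false] <;> ring, map_one]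
  have hne : toPSU s ≠ 1 := by
    intro h
    rw [← MonoidHom.mem_ker, Cfsg.Agent.Unitary.ker_toPSU] at h
    obtain ⟨l, hl⟩ := Cfsg.Agent.Unitary.eq_smul_of_mem_center hF (by omega) h
    have h0 : ∀ i, d i = l := fun i => by
      have := congrFun (hl (Pi.single i 1)) i
      simpa [hap] using this
    have := (h0 ⟨0, by omega⟩).trans (h0 ⟨2, by omega⟩).symm
    simp only [d] at this
    norm_num at this
    exact h2 (by linear_combination -this)
  haveI := Fact.mk Nat.prime_two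
  exact orderOf_eq_prime hsq hne ▸ orderOf_dvd_natCard _

/-- `SU_n(q) → Aut PSL_n(q²)`. -/
noncomputable def suι : Cfsg.SU n F q →* MulAut (PSLn n F) :=
  glAut.comp ((Matrix.SpecialLinearGroup.toGL (n := Fin n) (R := F)).comp (Cfsg.SU n F q).subtype)

theorem ker_suι (hF : Fintype.card F = q ^ 2) (hn : 2 ≤ n) :
    (suι (n := n) (F := F) (q := q)).ker = Subgroup.center (Cfsg.SU n F q) := by
  ext s
  rw [MonoidHom.mem_ker, suι, MonoidHom.comp_apply, glAut_eq_one_iff hn]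
  constructor
  · rintro ⟨c, hc⟩
    refine Cfsg.Agent.Unitary.smul_mem_center (l := (c : F)) fun x => funext fun i => ?_
    have h' := congrArg (fun M : GL (Fin n) F => ((M : Matrix (Fin n) (Fin n) F) *ᵥ x) i) hc
    simp only [GeneralLinearGroup.coe_scalar, Matrix.scalar_apply, mulVec_diagonal] at h'
    exact h'
  · intro h
    obtain ⟨l, hl⟩ := Cfsg.Agent.Unitary.eq_smul_of_mem_center hF hn h
    refine ⟨Units.mk0 l fun h0 => ?_, FormCore.scalar_of_mulVec _ fun z => hl z⟩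
    have := FormCore.mulVec_injective' (Matrix.SpecialLinearGroup.toGL (s : SLn n F))
      ((hl (Pi.single ⟨0, by omega⟩ 1)).trans (by rw [h0, zero_smul]))
    simp at this

/-- `PSU_n(q) → Aut PSL_n(q²)`. -/
noncomputable def puι (hF : Fintype.card F = q ^ 2) (hn : 2 ≤ n) : Cfsg.PSU n F q →* MulAut (PSLn n F) :=
  QuotientGroup.lift _ suι (ker_suι hF hn).ge

theorem puι_toPSU (hF : Fintype.card F = q ^ 2) (hn : 2 ≤ n) (s : Cfsg.SU n F q) :
    puι hF hn (toPSU s) = glAut (Matrix.SpecialLinearGroup.toGL (s : SLn n F)) := rfl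

theorem puι_injective (hF : Fintype.card F = q ^ 2) (hn : 2 ≤ n) : Function.Injective (puι (n := n) hF hn) := by
  rw [injective_iff_map_eq_one]
  intro z hz
  obtain ⟨s, rfl⟩ := toPSU_surjective z
  rw [← MonoidHom.mem_ker, Cfsg.Agent.Unitary.ker_toPSU, ← ker_suι hF hn]
  exact hz

theorem puι_semiAut (hF : Fintype.card F = q ^ 2) (hn : 2 ≤ n) (g : Cfsg.GU n F q) (τ : F ≃+* F)
    (z : Cfsg.PSU n F q) :
    semiAut (g : GL (Fin n) F) τ * puι hF hn z * (semiAut (g : GL (Fin n) F) τ)⁻¹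
      = puι hF hn (Cfsg.Agent.Unitary.semiAut g τ z) := by
  obtain ⟨s, rfl⟩ := toPSU_surjective z
  rw [Cfsg.Agent.Unitary.semiAut_toPSU, puι_toPSU, puι_toPSU, semiAut_split,
    show Matrix.SpecialLinearGroup.toGL (Cfsg.Agent.Unitary.semiSU g τ s : SLn n F)
      = (g : GL (Fin n) F) * glMap τ (Matrix.SpecialLinearGroup.toGL (s : SLn n F)) * (g : GL (Fin n) F)⁻¹ from
      Units.ext rfl, map_mul, map_mul, map_inv, ← field_conj]
  group

theorem puι_range_le (hF : Fintype.card F = q ^ 2) (hn : 2 ≤ n) (hσ2 : orderOf σ = 2) (hσ : ∀ a, σ a = a ^ q) :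
    (puι (n := n) hF hn).range ≤ Cfsg.Inn (PSLn n F) ⊓ Subgroup.centralizer {semiAut 1 σ * invTAut} := by
  rintro _ ⟨z, rfl⟩
  obtain ⟨s, rfl⟩ := toPSU_surjective z
  rw [puι_toPSU]
  refine ⟨by rw [Inn_eq_map]; exact ⟨_, ⟨_, rfl⟩, rfl⟩, ?_⟩
  have h1 : glAut (Matrix.SpecialLinearGroup.toGL (s : SLn n F)) ∈
      Cfsg.inndiagPSL n F ⊓ Subgroup.centralizer {semiAut (1 : GL (Fin n) F) σ * invTAut} := by
    rw [PSLGraphField.centralizer_eq hn hσ2 hσ]
    exact ⟨_, s.2, rfl⟩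
  exact h1.2

theorem exists_of_mem_gf (hn : 2 ≤ n) (hσ2 : orderOf σ = 2) (hσ : ∀ a, σ a = a ^ q) {x : MulAut (PSLn n F)}
    (hx : x ∈ Cfsg.inndiagPSL n F) (hc : x ∈ Subgroup.centralizer {semiAut (1 : GL (Fin n) F) σ * invTAut}) :
    ∃ g : Cfsg.GU n F q, x = glAut (g : GL (Fin n) F) := by
  have h1 : x ∈ Cfsg.inndiagPSL n F ⊓ Subgroup.centralizer {semiAut (1 : GL (Fin n) F) σ * invTAut} := ⟨hx, hc⟩
  rw [PSLGraphField.centralizer_eq hn hσ2 hσ] at h1
  obtain ⟨g, hg, rfl⟩ := h1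
  exact ⟨⟨g, hg⟩, rfl⟩

theorem glAut_eq_one_of_commute (hF : Fintype.card F = q ^ 2) (hn : 3 ≤ n) {g : Cfsg.GU n F q} {τ : F ≃+* F}
    (h : ∀ z, semiAut (g : GL (Fin n) F) τ * puι hF (by omega) z = puι hF (by omega) z * semiAut (g : GL (Fin n) F) τ) :
    semiAut (g : GL (Fin n) F) τ = 1 := by
  have h1 : Cfsg.Agent.Unitary.semiAut g τ = 1 := MulEquiv.ext fun z => puι_injective hF (by omega : 2 ≤ n) (by
    rw [← puι_semiAut hF (by omega) g τ z, h z, mul_inv_cancel_right]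
    rfl)
  obtain ⟨rfl, c, hc⟩ := Cfsg.Agent.Unitary.eq_of_semiAut_eq_one hF hn h1
  have hc0 : c ≠ 0 := fun h0 => by
    have := FormCore.mulVec_injective' (g : GL (Fin n) F) ((hc (Pi.single ⟨0, by omega⟩ 1)).trans (by rw [h0, zero_smul]))
    simp at this
  rw [FormCore.scalar_of_mulVec hc0 hc]
  exact semiAut_scalar _

theorem gf_noPrimeSub (hF : Fintype.card F = q ^ 2) (hn : 3 ≤ n) (h2 : (2 : F) ≠ 0) (hσ2 : orderOf σ = 2)
    (hσ : ∀ a, σ a = a ^ q) :
    NoPrimeSub (Cfsg.Inn (PSLn n F)) 2 (semiAut (1 : GL (Fin n) F) σ * invTAut) := by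
  have hn2 : 2 ≤ n := by omega
  have hqne : q ≠ 2 := fun hq => h2 (by
    have := Cfsg.Agent.Unitary.natCast_q_eq_zero (F := F) hF
    rw [hq] at this; exact_mod_cast this)
  have := Cfsg.Agent.Unitary.isSimpleGroup_PSU (n := n) hF hn (fun h => hqne h.2)
  haveI := Fact.mk Nat.prime_two
  refine noPrimeSub_of (S := (puι (n := n) hF hn2).range) (puι_range_le hF hn2 hσ2 hσ) ?_ ?_ ?_
  · intro g hg x hx
    obtain ⟨B, rfl⟩ := exists_of_mem_gf hn2 hσ2 hσ (Inn_le_inndiag hg.1) hg.2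
    obtain ⟨z, rfl⟩ := hx
    refine ⟨Cfsg.Agent.Unitary.semiAut B (RingEquiv.refl F) z, ?_⟩
    rw [← puι_semiAut hF hn2]
    rfl
  · exact sub_of_hom _ (puι_injective hF hn2) (simple_normal (invol_PSU hF hn h2))
  · intro x hx hs
    obtain ⟨B, rfl⟩ := exists_of_mem_gf hn2 hσ2 hσ (Inn_le_inndiag hx.1) hx.2
    exact glAut_eq_one_of_commute hF hn fun z => hs _ ⟨z, rfl⟩

theorem gf_selfCent (hF : Fintype.card F = q ^ 2) (hn : 3 ≤ n) (hσ2 : orderOf σ = 2)
    (hσ : ∀ a, σ a = a ^ q) :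
    SelfCent (Cfsg.Inn (PSLn n F)) (semiAut (1 : GL (Fin n) F) σ * invTAut) := by
  have hn2 : 2 ≤ n := by omega
  intro y hy hc
  set ψ : MulAut (PSLn n F) := semiAut (1 : GL (Fin n) F) σ * invTAut with hψ
  have hψτ : ∀ τ : F ≃+* F, semiAut (1 : GL (Fin n) F) τ ∈ Subgroup.centralizer {ψ} := by
    intro τ
    have hcomm : τ * σ = σ * τ :=
      mul_inv_eq_iff_eq_mul.mp (PSLGraphField.eq_of_orderOf_two hσ2 (show orderOf (τ * σ * τ⁻¹) = 2 by
        rw [orderOf_conj, hσ2]))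
    rw [Subgroup.mem_centralizer_singleton_iff, hψ, ← mul_assoc, mul_assoc (semiAut 1 σ), invTAut_mul_field,
      ← mul_assoc, semiAut_mul, semiAut_mul, map_one, map_one]
    exact congrArg (fun t => semiAut _ t * invTAut) hcomm
  have key : ∀ (g : GL (Fin n) F) (τ : F ≃+* F), semiAut g τ ∈ Subgroup.centralizer {ψ} →
      (∀ z, semiAut g τ * puι hF hn2 z = puι hF hn2 z * semiAut g τ) → semiAut g τ = 1 := by
    intro g τ hψg hz
    rw [semiAut_split, Subgroup.mul_mem_cancel_right _ (hψτ τ)] at hψg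
    obtain ⟨g₀, hg₀⟩ := exists_of_mem_gf hn2 hσ2 hσ (by rw [inndiag_eq]; exact ⟨g, rfl⟩) hψg
    have e : semiAut g τ = semiAut (g₀ : GL (Fin n) F) τ := by rw [semiAut_split, hg₀, ← semiAut_split]
    rw [e] at hz ⊢
    exact glAut_eq_one_of_commute hF hn hz
  obtain ⟨g, τ, rfl | ⟨-, rfl⟩⟩ := exists_decomp hn2 y
  · rw [key g τ hy fun z => hc _ (puι_range_le hF hn2 hσ2 hσ ⟨z, rfl⟩)]; exact one_mem _
  · have e : semiAut g τ * invTAut * ψ = semiAut (g * glMap τ 1) (σ.trans τ) := by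
      rw [hψ, ← invTAut_mul_field, mul_assoc, ← mul_assoc invTAut invTAut, invTAut_mul_self, one_mul, semiAut_mul]
    have h1 := key (g * glMap τ 1) (σ.trans τ) (by
        rw [← e]; exact Subgroup.mul_mem _ hy (Subgroup.mem_centralizer_singleton_iff.2 rfl)) fun z => by
      have hz := puι_range_le hF hn2 hσ2 hσ ⟨z, rfl⟩
      rw [← e, mul_assoc, ← Subgroup.mem_centralizer_singleton_iff.1 hz.2, ← mul_assoc, hc _ hz, mul_assoc]
    rw [← e, mul_eq_one_iff_eq_inv] at h1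
    rw [h1]
    exact Subgroup.inv_mem _ (Subgroup.mem_zpowers _)

end GraphField

end Cfsg.Agent.H58.PSLGraphBalance
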