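import Mathlib
import Cfsg.Agent.H58.PSLGraphField
import Cfsg.Agent.H58.SumSquares

/-! The centraliser of inverse-transpose in `Inndiag(PSL_n)`. -/

set_option autoImplicit false

namespace Cfsg.Agent.H58.PSLInvTranspose

open Matrix Cfsg.Agent.H56 Cfsg.Agent.H58.PSLAut Cfsg.Agent.H58.Twist Cfsg.Agent.H58.PSLTwist
  Cfsg.Agent.H58.PSLCentralizer Cfsg.Agent.H58.SumSquares

variable {F : Type*} [Field F] {n : ℕ}

theorem sumSq_mulVec (M : Matrix (Fin n) (Fin n) F) (v : Fin n → F) :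
    sumSq (M *ᵥ v) = v ⬝ᵥ (Mᵀ * M) *ᵥ v := by
  rw [← mulVec_mulVec, dotProduct_mulVec, vecMul_transpose]
  exact Finset.sum_congr rfl fun i _ => pow_two _

theorem contraHom_eq_iff (g : GL (Fin n) F) (c : Fˣ) :
    contraHom g = GeneralLinearGroup.scalar (Fin n) c * g ↔
      ((g : Matrix (Fin n) (Fin n) F)ᵀ * (g : Matrix (Fin n) (Fin n) F)) = ((c⁻¹ : Fˣ) : F) • (1 : Matrix (Fin n) (Fin n) F) := by
  rw [Units.ext_iff, Units.val_mul, contraHom_coe, GeneralLinearGroup.coe_scalar, Matrix.scalar_apply,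
    ← Matrix.smul_eq_diagonal_mul, Units.val_inv_eq_inv_val]
  have e : (g : Matrix (Fin n) (Fin n) F)ᵀ * ((g⁻¹ : GL (Fin n) F) : Matrix (Fin n) (Fin n) F)ᵀ = 1 := by
    rw [← transpose_mul, ← Units.val_mul, inv_mul_cancel, Units.val_one, transpose_one]
  constructor
  · intro h
    rw [h, Algebra.mul_smul_comm] at e
    conv_rhs => rw [← e, smul_smul, inv_mul_cancel₀ c.ne_zero, one_smul]
  · intro h
    have e2 : ((c : F) • (g : Matrix (Fin n) (Fin n) F)) = _ :=
      (left_inv_eq_right_inv (a := (g : Matrix (Fin n) (Fin n) F)ᵀ) (b := ((g⁻¹ : GL (Fin n) F) : Matrix (Fin n) (Fin n) F)ᵀ)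
        (c := (c : F) • (g : Matrix (Fin n) (Fin n) F)) (mul_eq_one_comm.mp e)
        (by rw [Algebra.mul_smul_comm, h, smul_smul, mul_inv_cancel₀ c.ne_zero, one_smul])).symm
    exact e2.symm

theorem mem_sim_iff (h2 : (2 : F) ≠ 0) (g : GL (Fin n) F) :
    g ∈ Cfsg.Geo.quadSimilarityGroup (F := F) (sumSq (ι := Fin n)) ↔
      ∃ c : Fˣ, contraHom g = GeneralLinearGroup.scalar (Fin n) c * g := by
  constructor
  · rintro ⟨c, hc⟩
    refine ⟨c⁻¹, (contraHom_eq_iff g c⁻¹).mpr ?_⟩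
    rw [inv_inv]
    obtain ⟨M, hM⟩ : ∃ M : Matrix (Fin n) (Fin n) F, M = (g : Matrix (Fin n) (Fin n) F)ᵀ * (g : Matrix (Fin n) (Fin n) F) :=
      ⟨_, rfl⟩
    have hsymm : Mᵀ = M := by rw [hM, transpose_mul, transpose_transpose]
    have hv : ∀ v : Fin n → F, v ⬝ᵥ M *ᵥ v = c * sumSq v := fun v => by rw [hM, ← sumSq_mulVec]; exact hc v
    have hd : ∀ i, M i i = c := fun i => by
      have := hv (Pi.single i 1)
      simpa [sumSq, Pi.single_apply, dotProduct, mulVec] using this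
    rw [← hM]
    ext i j
    rcases eq_or_ne i j with rfl | hij
    · simp [hd]
    · have := hv (Pi.single i 1 + Pi.single j 1)
      have hsq : sumSq (Pi.single i (1 : F) + Pi.single j 1 : Fin n → F) = 2 := by
        simp [sumSq, Pi.single_apply, add_sq, Finset.sum_add_distrib, hij, Ne.symm hij]
        norm_num
      rw [hsq, add_dotProduct, mulVec_add, dotProduct_add, dotProduct_add] at this
      simp [mulVec_single, hd] at this
      have hji : M j i = M i j := congrFun (congrFun hsymm i) j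
      rw [Matrix.smul_apply, Matrix.one_apply_ne hij, smul_zero]
      refine (mul_eq_zero.mp (show (2 : F) * M i j = 0 from ?_)).resolve_left h2
      linear_combination this - hji
  · rintro ⟨c, hc⟩
    refine ⟨c⁻¹, fun v => ?_⟩
    rw [sumSq_mulVec, (contraHom_eq_iff g c).mp hc, smul_mulVec, one_mulVec, dotProduct_smul, smul_eq_mul]
    congr 1
    exact Finset.sum_congr rfl fun i _ => (pow_two _).symm

variable [Fintype F]

theorem centralizer_iso (hn : 2 ≤ n) (h2 : (2 : F) ≠ 0) {κ : Type} [Fintype κ] [DecidableEq κ] {Q : (κ → F) → F}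
    (E : (κ → F) ≃ₗ[F] (κ → F)) (hE : ∀ x, sumSq (E x) = (1 : F) * Q x) (hcard : Fintype.card κ = n) :
    Nonempty (↥(Cfsg.inndiagPSL n F ⊓ Subgroup.centralizer {(invTAut : MulAut (PSLn n F))}) ≃* Cfsg.PGO F Q) := by
  have hconj : ∀ A : GL (Fin n) F, invTAut * glAut A * invTAut⁻¹ = glAut (contraHom A) := fun A => by
    rw [invTAut_mul_glAut, mul_inv_cancel_right]
  have hC : Cfsg.inndiagPSL n F ⊓ Subgroup.centralizer {(invTAut : MulAut (PSLn n F))}
      = (Cfsg.Geo.quadSimilarityGroup (F := F) (sumSq (ι := Fin n))).map glAut := by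
    rw [inndiag_eq]
    exact range_inf_centralizer glAut contraHom _ hconj _ fun B => by rw [mem_sim_iff h2, glAut_eq_iff hn]
  rw [hC]
  obtain ⟨i⟩ := nonempty_map_glAut_iso hn (Cfsg.Geo.quadSimilarityGroup (F := F) (sumSq (ι := Fin n)))
  let e : Fin n ≃ κ := (Fintype.equivFinOfCardEq hcard).symm
  obtain ⟨j⟩ := SimIso.nonempty_PGO_iso (LinearEquiv.funCongrLeft F F e) (Q := sumSq (ι := Fin n)) (Q' := sumSq (ι := κ))
    one_ne_zero fun x => by rw [one_mul]; exact sumSq_comp e x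
  obtain ⟨k⟩ := SimIso.nonempty_PGO_iso E one_ne_zero hE
  exact ⟨(i.trans j).trans k⟩

end Cfsg.Agent.H58.PSLInvTranspose
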