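import Cfsg.Agent.Linear.Order
import Mathlib.GroupTheory.Sylow

/-!
Subgroups of order three of `PSL(3, 4)` form one class.
-/

set_option autoImplicit false

namespace Cfsg.Agent.H58.PSL34

open Matrix

variable {F : Type*} [Field F] [Fintype F]

theorem zpow_toNat {G : Type*} [Group G] {a : G} (h : a ^ 3 = 1) (b : ℤ) : a ^ b = a ^ (b % 3).toNat := by
  rw [← zpow_natCast, Int.toNat_of_nonneg (Int.emod_nonneg b (by norm_num))]
  conv_lhs => rw [← Int.emod_add_mul_ediv b 3, _root_.zpow_add, _root_.zpow_mul, zpow_ofNat, h, _root_.one_zpow, mul_one]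

theorem exists_omega (hF : Fintype.card F = 4) : ∃ w : F, w ^ 2 = w + 1 ∧ (2 : F) = 0 := by
  classical
  have h4 : ((4 : ℕ) : F) = 0 := by rw [← hF]; exact FiniteField.cast_card_eq_zero F
  have h2 : (2 : F) = 0 := by
    have : (2 : F) * 2 = 0 := by norm_num at h4 ⊢; exact h4
    exact mul_self_eq_zero.1 this
  obtain ⟨w, hw0, hw1⟩ : ∃ w : F, w ≠ 0 ∧ w ≠ 1 := by
    by_contra h
    push Not at h
    have hsub : (Finset.univ : Finset F) ⊆ {0, 1} := by
      intro x _
      rcases eq_or_ne x 0 with rfl | hx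
      · simp
      · simp [h x hx]
    have := (Finset.card_le_card hsub).trans Finset.card_le_two
    rw [Finset.card_univ, hF] at this
    omega
  have h3 : w ^ 3 = 1 := by
    have := FiniteField.pow_card_sub_one_eq_one w hw0
    rwa [hF] at this
  have : (w - 1) * (w ^ 2 + w + 1) = 0 := by linear_combination h3
  rcases mul_eq_zero.1 this with h | h
  · exact absurd (sub_eq_zero.1 h) hw1
  · exact ⟨w, by linear_combination h - (w + 1) * h2, h2⟩

set_option maxHeartbeats 2000000 in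
theorem one_class (hF : Fintype.card F = 4)
    (X : Subgroup (Matrix.ProjectiveSpecialLinearGroup (Fin 3) F)) (hX : Nat.card ↥X = 3)
    (Y : Subgroup (Matrix.ProjectiveSpecialLinearGroup (Fin 3) F)) (hY : Nat.card ↥Y = 3) :
    ∃ g : Matrix.ProjectiveSpecialLinearGroup (Fin 3) F, X.map (MulAut.conj g).toMonoidHom = Y := by
  classical
  obtain ⟨w, hw, h2⟩ := exists_omega hF
  have h3 : w ^ 3 = 1 := by linear_combination (w + 1) * hw + w * h2
  let d : SpecialLinearGroup (Fin 3) F := ⟨!![1, 0, 0; 0, w, 0; 0, 0, w ^ 2], by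
    simp [Matrix.det_fin_three]; linear_combination h3⟩
  let c : SpecialLinearGroup (Fin 3) F := ⟨!![0, 0, 1; 1, 0, 0; 0, 1, 0], by simp [Matrix.det_fin_three]⟩
  let F0 : SpecialLinearGroup (Fin 3) F := ⟨!![1, 1, 1; 1, w, w ^ 2; 1, w ^ 2, w], by
    simp [Matrix.det_fin_three]; grind⟩
  let F1 : SpecialLinearGroup (Fin 3) F := ⟨!![1, 1, w ^ 2; 1, w, w; w, 1, w], by
    simp [Matrix.det_fin_three]; grind⟩
  let F2 : SpecialLinearGroup (Fin 3) F := ⟨!![1, 1, w; 1, w, 1; w ^ 2, w, w], by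
    simp [Matrix.det_fin_three]; grind⟩
  have dmul : ∀ A B : SpecialLinearGroup (Fin 3) F,
      ((A * B : SpecialLinearGroup (Fin 3) F) : Matrix (Fin 3) (Fin 3) F) = A.1 * B.1 := fun _ _ => rfl
  have e0 : F0 * d = c * c * F0 := by
    apply Subtype.ext
    rw [dmul, dmul, dmul]
    ext i j; fin_cases i <;> fin_cases j <;> simp [d, c, F0] <;> grind
  have e1 : F1 * d = c * d * (c * d) * F1 := by
    apply Subtype.ext
    rw [dmul, dmul, dmul, dmul]
    ext i j; fin_cases i <;> fin_cases j <;> simp [d, c, F1] <;> grind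
  have e2 : F2 * d = c * (d * d) * (c * (d * d)) * F2 := by
    apply Subtype.ext
    rw [dmul, dmul, dmul, dmul, dmul]
    ext i j; fin_cases i <;> fin_cases j <;> simp [d, c, F2] <;> grind
  let q := QuotientGroup.mk' (Subgroup.center (SpecialLinearGroup (Fin 3) F))
  set D := q d with hD
  set C := q c with hC
  have hD3 : D ^ 3 = 1 := by
    rw [hD, ← map_pow]
    convert map_one q
    apply Subtype.ext
    show ((d ^ 3 : SpecialLinearGroup (Fin 3) F) : Matrix (Fin 3) (Fin 3) F) = 1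
    rw [show d ^ 3 = d * d * d by rw [pow_succ, pow_two], dmul, dmul]
    ext i j; fin_cases i <;> fin_cases j <;> simp [d] <;> grind
  have hC3 : C ^ 3 = 1 := by
    rw [hC, ← map_pow]
    convert map_one q
    apply Subtype.ext
    show ((c ^ 3 : SpecialLinearGroup (Fin 3) F) : Matrix (Fin 3) (Fin 3) F) = 1
    rw [show c ^ 3 = c * c * c by rw [pow_succ, pow_two], dmul, dmul]
    ext i j; fin_cases i <;> fin_cases j <;> simp [c]
  let z : SpecialLinearGroup (Fin 3) F := ⟨!![w ^ 2, 0, 0; 0, w ^ 2, 0; 0, 0, w ^ 2], by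
    simp [Matrix.det_fin_three]; grind⟩
  have hzc : z ∈ Subgroup.center (SpecialLinearGroup (Fin 3) F) := by
    rw [Subgroup.mem_center_iff]
    intro g
    apply Subtype.ext
    rw [dmul, dmul]
    ext i j; fin_cases i <;> fin_cases j <;> simp [z, Matrix.mul_apply, Fin.sum_univ_three] <;> ring
  have hCD : Commute C D := by
    show q c * q d = q d * q c
    have : c * d = z * (d * c) := by
      apply Subtype.ext
      rw [dmul, dmul, dmul]
      ext i j; fin_cases i <;> fin_cases j <;> simp [d, c, z] <;> grind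
    rw [← map_mul, this, map_mul, map_mul,
      show q z = 1 from (QuotientGroup.eq_one_iff z).2 hzc, one_mul]
  have hq : ∀ A : SpecialLinearGroup (Fin 3) F, q A = 1 →
      A.1 0 1 = 0 ∧ A.1 1 0 = 0 ∧ A.1 0 0 = A.1 1 1 := by
    intro A hA
    have hA' : A ∈ Subgroup.center (SpecialLinearGroup (Fin 3) F) := (QuotientGroup.eq_one_iff A).1 hA
    obtain ⟨r, -, hr⟩ := Matrix.SpecialLinearGroup.mem_center_iff.1 hA'
    rw [← hr]
    simp [Matrix.scalar_apply]
  have hwne : (1 : F) ≠ w := by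
    intro h; rw [← h] at hw; exact one_ne_zero (α := F) (by linear_combination -hw)
  have hD1 : D ≠ 1 := fun h => hwne (by simpa [d] using (hq d h).2.2)
  have hnot : C ∉ Subgroup.zpowers D := by
    rintro ⟨i, hi⟩
    have hdiag : ∀ n : ℕ, ((d ^ n : SpecialLinearGroup (Fin 3) F) : Matrix (Fin 3) (Fin 3) F) 1 1 = w ^ n ∧
        ((d ^ n : SpecialLinearGroup (Fin 3) F) : Matrix (Fin 3) (Fin 3) F) 1 0 = 0 ∧
        ((d ^ n : SpecialLinearGroup (Fin 3) F) : Matrix (Fin 3) (Fin 3) F) 1 2 = 0 := by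
      intro n
      induction n with
      | zero => simp
      | succ n ih =>
          rw [pow_succ d, dmul]
          refine ⟨?_, ?_, ?_⟩ <;> rw [Matrix.mul_apply, Fin.sum_univ_three, ih.1, ih.2.1, ih.2.2] <;>
            simp [d, pow_succ]
    have hi' : D ^ i = C := hi
    rw [zpow_toNat hD3] at hi'
    set n := (i % 3).toNat
    have h := (hq (c⁻¹ * d ^ n) (by rw [map_mul, map_inv, map_pow, ← hC, ← hD, hi', inv_mul_cancel])).1
    have hc : ((c⁻¹ : SpecialLinearGroup (Fin 3) F) : Matrix (Fin 3) (Fin 3) F) =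
        !![0, 1, 0; 0, 0, 1; 1, 0, 0] := by
      have hcc : c⁻¹ = c * c := inv_eq_of_mul_eq_one_right (by
        apply Subtype.ext
        rw [dmul, dmul]
        ext i j; fin_cases i <;> fin_cases j <;> simp [c])
      rw [hcc, dmul]
      ext i j; fin_cases i <;> fin_cases j <;> simp [c]
    rw [dmul, hc, Matrix.mul_apply, Fin.sum_univ_three, (hdiag n).1] at h
    have hw0 : w ≠ 0 := fun h => by simp [h] at h3
    exact pow_ne_zero n hw0 (by simpa using h)
  have hord : ∀ {x : Matrix.ProjectiveSpecialLinearGroup (Fin 3) F}, x ^ 3 = 1 →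
      Subgroup.zpowers (x ^ 2) = Subgroup.zpowers x := by
    intro x hx
    refine le_antisymm (Subgroup.zpowers_le.2 (Subgroup.pow_mem _ (Subgroup.mem_zpowers _) 2))
      (Subgroup.zpowers_le.2 ⟨2, ?_⟩)
    show (x ^ 2) ^ (2 : ℤ) = x
    rw [show (2 : ℤ) = ((2 : ℕ) : ℤ) from rfl, zpow_natCast, ← pow_mul, pow_succ, hx, one_mul]
  set L := Subgroup.zpowers D with hL
  let conjTo := fun (S : Subgroup (Matrix.ProjectiveSpecialLinearGroup (Fin 3) F)) =>
    ∃ g, L.map (MulAut.conj g).toMonoidHom = S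
  have hbase : ∀ k : ℕ, k < 3 → conjTo (Subgroup.zpowers (C * D ^ k)) := by
    intro k hk
    have hx : (C * D ^ k) ^ 3 = 1 := by
      rw [(hCD.pow_right k).mul_pow, hC3, one_mul, ← pow_mul, mul_comm, pow_mul, hD3, one_pow]
    obtain ⟨g, hg⟩ : ∃ g : SpecialLinearGroup (Fin 3) F, q g * D * (q g)⁻¹ = (C * D ^ k) ^ 2 := by
      interval_cases k
      · refine ⟨F0, ?_⟩
        rw [← map_mul, e0]; simp [map_mul, ← hC, pow_two]
      · refine ⟨F1, ?_⟩
        rw [← map_mul, e1]; simp [map_mul, ← hC, ← hD, pow_two]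
      · refine ⟨F2, ?_⟩
        rw [← map_mul, e2]; simp [map_mul, ← hC, ← hD, pow_two]
    refine ⟨q g, ?_⟩
    rw [hL, MonoidHom.map_zpowers, ← hord hx, ← hg]
    rfl
  have hall : ∀ x ∈ Subgroup.zpowers C ⊔ Subgroup.zpowers D, x ≠ 1 → conjTo (Subgroup.zpowers x) := by
    intro x hx hx1
    have hnorm : Subgroup.zpowers D ≤ Subgroup.normalizer (Subgroup.zpowers C : Set _) := by
      rw [Subgroup.zpowers_le]
      exact Subgroup.centralizer_le_normalizer _ (Subgroup.mem_centralizer_iff.2 (by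
        rintro _ ⟨j, rfl⟩; exact (hCD.zpow_left j).eq))
    rw [← SetLike.mem_coe, Subgroup.coe_mul_of_right_le_normalizer_left _ _ hnorm] at hx
    obtain ⟨_, ⟨a, rfl⟩, _, ⟨b, rfl⟩, rfl⟩ := hx
    obtain ⟨k, hk, hk'⟩ : ∃ k : ℕ, k < 3 ∧ D ^ b = D ^ k :=
      ⟨(b % 3).toNat, by omega, zpow_toNat hD3 b⟩
    obtain ⟨l, hl, hl'⟩ : ∃ l : ℕ, l < 3 ∧ C ^ a = C ^ l :=
      ⟨(a % 3).toNat, by omega, zpow_toNat hC3 a⟩
    simp only [hk', hl'] at hx1 ⊢
    interval_cases l
    · rw [pow_zero, one_mul] at hx1 ⊢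
      refine ⟨1, ?_⟩
      interval_cases k
      · exact absurd (pow_zero D) hx1
      · ext; simp [hL]
      · rw [hord hD3]; ext; simp [hL]
    · rw [pow_one]; exact hbase k hk
    · have he : C ^ 2 * D ^ k = (C * D ^ (2 * k % 3)) ^ 2 := by
        rw [(hCD.pow_right _).mul_pow, ← pow_mul]
        congr 1
        rw [← pow_mod_orderOf D (2 * k % 3 * 2), ← pow_mod_orderOf D k,
          orderOf_eq_prime (hp := ⟨Nat.prime_three⟩) hD3 hD1]
        congr 1
        omega
      rw [he, hord]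
      · exact hbase _ (Nat.mod_lt _ (by norm_num))
      · rw [(hCD.pow_right _).mul_pow, hC3, one_mul, ← pow_mul, mul_comm, pow_mul, hD3, one_pow]
  have : Fact (Nat.Prime 3) := ⟨Nat.prime_three⟩
  set P := Subgroup.zpowers C ⊔ Subgroup.zpowers D with hP
  have hPp : IsPGroup 3 ↥P := by
    rintro ⟨x, hx⟩
    refine ⟨1, Subtype.ext ?_⟩
    rw [Subgroup.coe_pow, Subgroup.coe_one, pow_one]
    have hnorm : Subgroup.zpowers D ≤ Subgroup.normalizer (Subgroup.zpowers C : Set _) := by
      rw [Subgroup.zpowers_le]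
      exact Subgroup.centralizer_le_normalizer _ (Subgroup.mem_centralizer_iff.2 (by
        rintro _ ⟨j, rfl⟩; exact (hCD.zpow_left j).eq))
    rw [← SetLike.mem_coe, hP, Subgroup.coe_mul_of_right_le_normalizer_left _ _ hnorm] at hx
    obtain ⟨_, ⟨a, rfl⟩, _, ⟨b, rfl⟩, rfl⟩ := hx
    show (C ^ a * D ^ b) ^ 3 = 1
    have hcc : Commute (C ^ a) (D ^ b) := (hCD.zpow_left a).zpow_right b
    rw [hcc.mul_pow, ← zpow_natCast, ← zpow_natCast, ← _root_.zpow_mul, ← _root_.zpow_mul, mul_comm a, mul_comm b,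
      _root_.zpow_mul, _root_.zpow_mul, zpow_natCast, zpow_natCast, hC3, hD3, _root_.one_zpow, _root_.one_zpow, one_mul]
  obtain ⟨S, hPS⟩ := hPp.exists_le_sylow
  have hScard : Nat.card S = 9 := by
    rw [Sylow.card_eq_multiplicity]
    have h1 := Linear.card_center_mul_card_PSL (ι := Fin 3) (F := F)
    rw [Linear.card_center_SL, Linear.card_SL_three, Fintype.card_fin, hF] at h1
    rw [show Nat.gcd 3 (4 - 1) = 3 from rfl,
      show (4 ^ 3 * (4 ^ 3 - 1) * (4 ^ 2 - 1) : ℕ) = 60480 from rfl] at h1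
    have h20 : Nat.card (Matrix.SpecialLinearGroup (Fin 3) F ⧸
        Subgroup.center (Matrix.SpecialLinearGroup (Fin 3) F)) = 20160 := by
      have h1' : 3 * Nat.card (Matrix.SpecialLinearGroup (Fin 3) F ⧸
        Subgroup.center (Matrix.SpecialLinearGroup (Fin 3) F)) = 60480 := h1
      omega
    rw [h20, show (20160 : ℕ).factorization 3 = 2 from ?_]
    · norm_num
    · have a2 : 2 ≤ (20160 : ℕ).factorization 3 :=
        (Nat.prime_three.pow_dvd_iff_le_factorization (by norm_num)).1 (by norm_num)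
      have a3 : ¬ 3 ≤ (20160 : ℕ).factorization 3 := fun hle =>
        absurd ((Nat.prime_three.pow_dvd_iff_le_factorization (k := 3) (by norm_num)).2 hle) (by norm_num)
      omega
  have hPS' : P = (S : Subgroup _) := by
    refine Subgroup.eq_of_le_of_card_ge hPS ?_
    have hlt : L < P := by
      refine lt_of_le_of_ne le_sup_right fun h => hnot ?_
      show C ∈ L
      rw [h]; exact Subgroup.mem_sup_left (Subgroup.mem_zpowers C)
    have hL3 : Nat.card L = 3 := by
      rw [hL, Nat.card_zpowers, orderOf_eq_prime hD3 hD1]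
    have hlt' : Nat.card L < Nat.card P := by
      by_contra hc
      exact hlt.ne (Subgroup.eq_of_le_of_card_ge hlt.le (not_lt.1 hc))
    obtain ⟨n, hn⟩ := IsPGroup.iff_card.1 hPp
    rw [hn, hL3] at hlt'
    have : 3 ^ 2 ≤ 3 ^ n := by
      apply Nat.pow_le_pow_right (by norm_num)
      by_contra h2'
      have : 3 ^ n ≤ 3 ^ 1 := Nat.pow_le_pow_right (by norm_num) (by omega)
      omega
    rw [hn]
    exact le_of_eq_of_le hScard (by simpa using this)
  have one : ∀ X : Subgroup (Matrix.ProjectiveSpecialLinearGroup (Fin 3) F), Nat.card ↥X = 3 → conjTo X := by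
    intro X hX
    obtain ⟨S', hS'⟩ := (IsPGroup.of_card (p := 3) (n := 1) (by rw [hX, pow_one]) : IsPGroup 3 ↥X).exists_le_sylow
    obtain ⟨g, hg⟩ := MulAction.exists_smul_eq (Matrix.ProjectiveSpecialLinearGroup (Fin 3) F) S' S
    have hsub : X.map (MulAut.conj g).toMonoidHom ≤ P := by
      rw [hPS', ← hg, Sylow.coe_subgroup_smul]
      exact Subgroup.map_mono hS'
    have hcard : Nat.card (X.map (MulAut.conj g).toMonoidHom : Subgroup _) = 3 := by
      rw [Subgroup.card_map_of_injective (MulAut.conj g).injective, hX]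
    obtain ⟨x, hx, hx1⟩ : ∃ x ∈ X.map (MulAut.conj g).toMonoidHom, x ≠ 1 := by
      by_contra h
      push Not at h
      rw [(Subgroup.eq_bot_iff_forall _).2 h, Subgroup.card_bot] at hcard
      norm_num at hcard
    have hzx : Subgroup.zpowers x = X.map (MulAut.conj g).toMonoidHom := by
      refine Subgroup.eq_of_le_of_card_ge (Subgroup.zpowers_le.2 hx) ?_
      rw [hcard, Nat.card_zpowers]
      have hd := Subgroup.orderOf_dvd_natCard _ hx
      rw [hcard] at hd
      exact ((Nat.prime_three.eq_one_or_self_of_dvd _ hd).resolve_left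
        (fun h => hx1 (orderOf_eq_one_iff.1 h))).ge
    obtain ⟨a, ha⟩ := hall x (hsub hx) hx1
    refine ⟨g⁻¹ * a, ?_⟩
    rw [hzx] at ha
    have := congrArg (fun S : Subgroup _ => S.map (MulAut.conj g⁻¹).toMonoidHom) ha
    simp only [Subgroup.map_map] at this
    convert this using 1
    · congr 1; ext y; simp [mul_assoc]
    · ext y; simp [mul_assoc]
  obtain ⟨a, ha⟩ := one X hX
  obtain ⟨b, hb⟩ := one Y hY
  refine ⟨b * a⁻¹, ?_⟩
  rw [← ha, ← hb, Subgroup.map_map]
  congr 1
  ext y; simp [mul_assoc]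

end Cfsg.Agent.H58.PSL34
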