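import Mathlib
import Cfsg.Agent.H58.LocalBalance
import Cfsg.Agent.H58.UnitaryTwist
import Cfsg.Agent.Unitary.Simple
import Cfsg.Agent.Unitary.Count
import Cfsg.Agent.S0282

/-!
# Field automorphisms of odd order of `PSU_n` and local balance
-/

set_option autoImplicit false
set_option linter.unusedSectionVars false

namespace Cfsg.Agent.H58.PSUFieldBalance

open Matrix Cfsg.Agent.H58.Twist Cfsg.Agent.H58.Descent Cfsg.Agent.Unitary Cfsg.Agent.H58.UnitaryTwist
  Cfsg.Agent.H58.LocalBalance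
open Cfsg.Agent.H56 (glMap glMap_coe)

section Small

variable {F : Type*} [Field F] [Fintype F] {n q : ℕ}

theorem card_isoPoint_three_two (hF : Fintype.card F = 2 ^ 2) : Nat.card (IsoPoint 3 F 2) = 9 := by
  let S := {u : Fin 3 → F // Cfsg.hermForm 3 F 2 u u = 0 ∧ u ≠ 0}
  have h1 : Nat.card S + 1 = 28 := by
    have h2 : normCount 3 2 (0 : F) = 28 := by
      rw [normCount_zero_vec_nat hF]; simp [Nat.even_iff]
    rw [← h2, normCount]
    classical
    rw [Nat.card_eq_fintype_card, Nat.card_eq_fintype_card, Fintype.card_subtype, Fintype.card_subtype,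
      ← Finset.card_insert_of_notMem (a := (0 : Fin 3 → F)) (by simp)]
    congr 1
    ext u
    rcases eq_or_ne u 0 with rfl | hu
    · simp [herm_zero_left]
    · simp [hu]
  choose u hu0 hu hL using fun L : IsoPoint 3 F 2 => exists_isoPt L
  let f : IsoPoint 3 F 2 × Fˣ → S := fun x =>
    ⟨(x.2 : F) • u x.1, by rw [herm_smul_left, herm_smul_right, hu, mul_zero, mul_zero],
      smul_ne_zero x.2.ne_zero (hu0 _)⟩
  have hf : Function.Bijective f := by
    constructor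
    · rintro ⟨L, c⟩ ⟨M, d⟩ h
      have h' : (c : F) • u L = (d : F) • u M := congrArg Subtype.val h
      have hLM : L = M := by
        rw [hL L, hL M]
        refine isoPt_congr (hu0 L) (hu L) (hu0 M) (hu M) (c := (c : F)⁻¹ * d) ?_
        rw [mul_smul, ← h', inv_smul_smul₀ c.ne_zero]
      subst hLM
      rw [Units.ext (smul_left_injective F (hu0 L) h')]
    · rintro ⟨v, hv, hv0⟩
      set L := isoPt (n := 3) hv0 hv
      have hmem : v ∈ Submodule.span F {u L} := by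
        rw [show Submodule.span F {u L} = L.1 from (congrArg Subtype.val (hL L)).symm]
        exact Submodule.mem_span_singleton_self v
      obtain ⟨c, hc⟩ := Submodule.mem_span_singleton.1 hmem
      have hc0 : c ≠ 0 := fun h0 => hv0 (by rw [← hc, h0, zero_smul])
      exact ⟨(L, Units.mk0 c hc0), Subtype.ext hc⟩
  have h3 : Nat.card Fˣ = 3 := by rw [card_units hF]
  have := Nat.card_eq_of_bijective f hf
  rw [Nat.card_prod, h3] at this
  omega

/-- `PSU_n(q)` has no non-trivial normal subgroup of order prime to a prime divisor of its order, other than the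
characteristic. -/
theorem psu_no_sub {p : ℕ} [hp : Fact p.Prime] (hF : Fintype.card F = q ^ 2) (hn : 3 ≤ n) (hr : ¬ p ∣ q)
    (hd : p ∣ Nat.card (Cfsg.PSU n F q)) (N : Subgroup (Cfsg.PSU n F q)) (hN : N.Normal)
    (hco : (Nat.card N).Coprime p) : N = ⊥ := by
  by_cases hs : n = 3 ∧ q = 2
  · obtain ⟨rfl, rfl⟩ := hs
    have hc : Nat.card (Cfsg.PSU 3 F 2) = 72 := (Cfsg.Agent.S0282.result hF).1
    have hp3 : p = 3 := by
      rw [hc, show 72 = 2 ^ 3 * 3 ^ 2 from rfl] at hd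
      rcases hp.out.dvd_mul.1 hd with h | h
      · exact absurd (hp.out.dvd_of_dvd_pow h) hr
      · exact (Nat.prime_dvd_prime_iff_eq hp.out Nat.prime_three).1 (hp.out.dvd_of_dvd_pow h)
    subst hp3
    have := Fact.mk Nat.prime_two
    have h8 : Nat.card N ∣ 2 ^ 3 := by
      have h : Nat.card N ∣ 2 ^ 3 * 3 ^ 2 := by
        have := Subgroup.card_subgroup_dvd_card N
        rwa [hc] at this
      exact (hco.pow_right 2).dvd_of_dvd_mul_right h
    obtain ⟨k, -, hk⟩ := (Nat.dvd_prime_pow Nat.prime_two).1 h8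
    have hP : IsPGroup 2 N := IsPGroup.of_card hk
    have : Finite (IsoPoint 3 F 2) := Finite.of_injective (fun L => (L.1 : Submodule F (Fin 3 → F))) Subtype.val_injective
    have hker : Subgroup.center (Cfsg.SU 3 F 2) ≤ (MulAction.toPermHom (Cfsg.SU 3 F 2) (IsoPoint 3 F 2)).ker := by
      intro z hz
      refine MonoidHom.mem_ker.2 (Equiv.ext fun L => ?_)
      obtain ⟨u, hu0, hu, rfl⟩ := exists_isoPt L
      obtain ⟨l, hl⟩ := eq_smul_of_mem_center hF (by omega) hz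
      exact smul_isoPt_eq hu0 hu hu0 hu (fun h0 => hu0 (ap_injective z (by rw [hl, h0, zero_smul, ap_zero]))) (hl u)
    let ρ := QuotientGroup.lift _ (MulAction.toPermHom (Cfsg.SU 3 F 2) (IsoPoint 3 F 2)) hker
    have hnd : ¬ 2 ∣ Nat.card (IsoPoint 3 F 2) := by rw [card_isoPoint_three_two hF]; norm_num
    obtain ⟨x₀, hx₀⟩ := (hP.map ρ).nonempty_fixed_point_of_prime_not_dvd_card (IsoPoint 3 F 2) hnd
    rw [Subgroup.eq_bot_iff_forall]
    intro x hx
    obtain ⟨A, rfl⟩ := toPSU_surjective x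
    rw [← MonoidHom.mem_ker, ker_toPSU]
    refine mem_center_of_fix hF hn fun L => ?_
    obtain ⟨g, rfl⟩ := exists_smul_isoPt hF hn x₀ L
    have h := hx₀ ⟨ρ (toPSU (g⁻¹ * A * g)), _, by
      show toPSU (g⁻¹ * A * g) ∈ N
      have := hN.conj_mem _ hx (toPSU g⁻¹)
      simpa only [map_mul, map_inv, inv_inv] using this, rfl⟩
    have h' : (g⁻¹ * A * g) • x₀ = x₀ := h
    rwa [mul_smul, mul_smul, inv_smul_eq_iff] at h'
  · have := isSimpleGroup_PSU (n := n) hF hn hs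
    exact simple_normal hd N hN hco

/-- A prime dividing `|PGU_n(q)|` divides `|PSU_n(q)|`. -/
theorem dvd_card_PSU {p : ℕ} [hp : Fact p.Prime] (hF : Fintype.card F = q ^ 2) (hn : 3 ≤ n)
    (hd : p ∣ Nat.card (diagHom (n := n) hF).range) : p ∣ Nat.card (Cfsg.PSU n F q) := by
  rw [card_range_diagHom hF hn] at hd
  refine (hp.out.dvd_mul.1 hd).elim (fun h => ?_) id
  have h1 : p ∣ q + 1 := h.trans (Nat.gcd_dvd_right _ _)
  obtain ⟨ω, hω⟩ := exists_prime_orderOf_dvd_card' (G := (powMonoidHom (q + 1) : Fˣ →* Fˣ).ker) p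
    (by rw [card_ker_pow hF]; exact h1)
  let i : Fin n := ⟨0, by omega⟩
  let j : Fin n := ⟨1, by omega⟩
  let d : Fin n → Fˣ := Pi.mulSingle i (ω : Fˣ) * Pi.mulSingle j (ω : Fˣ)⁻¹
  have hω1 : (ω : Fˣ) ^ (q + 1) = 1 := ω.2
  have hdq : ∀ a, d a ^ (q + 1) = 1 := fun a => by
    simp only [d, Pi.mul_apply, mul_pow, Pi.mulSingle_apply]
    split_ifs <;> simp [inv_pow, hω1]
  have hP : Preserves q (Matrix.diagonal fun a => (d a : F)) :=
    preserves_diagonal fun a => by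
      have := congrArg Units.val (hdq a)
      simpa [pow_succ'] using this
  have hdet : (Matrix.diagonal fun a => (d a : F)).det = 1 := by
    rw [Matrix.det_diagonal, ← Units.coe_prod]
    simp [d, Finset.prod_mul_distrib]
  let s : Cfsg.SU n F q := toSU hP hdet
  have hap : ∀ x, ap s x = fun a => (d a : F) * x a := fun x => by
    rw [ap_def, show mat s = Matrix.diagonal fun a => (d a : F) from coe_toSU hP hdet]
    funext a
    exact mulVec_diagonal _ _ _
  have hωp : (ω : Fˣ) ^ p = 1 := by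
    have := congrArg Subtype.val (pow_orderOf_eq_one ω)
    rwa [hω] at this
  suffices hy : orderOf (toPSU s) = p by exact hy ▸ orderOf_dvd_natCard _
  refine orderOf_eq_prime ?_ ?_
  · rw [← map_pow]
    refine (congrArg toPSU (Subtype.ext (Subtype.ext ?_) : s ^ p = 1)).trans (map_one _)
    rw [SubmonoidClass.coe_pow, Matrix.SpecialLinearGroup.coe_pow]
    show (Matrix.diagonal fun a => (d a : F)) ^ p = 1
    rw [Matrix.diagonal_pow, ← Matrix.diagonal_one]
    congr 1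
    funext a
    have hd1 : d a ^ p = 1 := by
      simp only [d, Pi.mul_apply, mul_pow, Pi.mulSingle_apply]
      split_ifs <;> simp [inv_pow, hωp]
    simpa using congrArg Units.val hd1
  · intro h0
    rw [← MonoidHom.mem_ker, ker_toPSU] at h0
    obtain ⟨l, hl⟩ := eq_smul_of_mem_center hF (by omega) h0
    have e : ∀ a, (d a : F) = l := fun a => by
      have := congrFun (hl (Pi.single a 1)) a
      simpa [hap] using this
    have h2 : (d i : F) = d ⟨2, by omega⟩ := (e i).trans (e _).symm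
    have hne : (ω : Fˣ) = 1 := by
      refine Units.ext ?_
      simpa [d, i, j, Pi.mulSingle_apply, Fin.ext_iff] using h2
    have : ω = 1 := Subtype.ext hne
    rw [this, orderOf_one] at hω
    exact hp.out.one_lt.ne hω

end Small

section Field

variable {F : Type*} [Field F] [Fintype F] {n q : ℕ} (hF : Fintype.card F = q ^ 2) {σ : F ≃+* F}
  {F₀ : Type*} [Field F₀] [Fintype F₀] {q₀ : ℕ} (hF₀ : Fintype.card F₀ = q₀ ^ 2) (e : F₀ →+* F)
  (hpow : ∀ x, e x ^ q = e (x ^ q₀)) (he : ∀ x, σ (e x) = e x) (he' : ∀ a, σ a = a → ∃ x, e x = a)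

/-- `SU_n(q₀) → Aut PSU_n(q)`. -/
noncomputable def suι : Cfsg.SU n F₀ q₀ →* MulAut (Cfsg.PSU n F q) :=
  MonoidHom.mk' (fun a => diagHom hF (psi hF hF₀ e hpow (suGU hF₀ a))) fun a b => by
    rw [← map_mul, ← map_mul]
    congr 2
    exact Subtype.ext (Units.ext rfl)

include hF hF₀ hpow in
theorem diag_psi_eq_one (hn : 3 ≤ n) (g : Cfsg.GU n F₀ q₀) :
    diagHom hF (psi hF hF₀ e hpow g) = 1 ↔ diagHom hF₀ g = 1 := by
  rw [diag_eq_one_iff hF hn, diag_eq_one_iff hF₀ hn, coe_psi]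
  constructor
  · rintro ⟨c, hc⟩
    have hentry : ∀ i j, e (((g : GL (Fin n) F₀) : Matrix (Fin n) (Fin n) F₀) i j) = if i = j then (c : F) else 0 := by
      intro i j
      have := congrArg (fun M : GL (Fin n) F => (M : Matrix (Fin n) (Fin n) F) i j) hc
      rw [GeneralLinearGroup.coe_scalar, Matrix.scalar_apply, Matrix.diagonal_apply] at this
      exact this
    let i₀ : Fin n := ⟨0, by omega⟩
    have hd : ((g : GL (Fin n) F₀) : Matrix (Fin n) (Fin n) F₀) i₀ i₀ ≠ 0 := fun h0 => by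
      have := hentry i₀ i₀
      rw [h0, map_zero, if_pos rfl] at this
      exact c.ne_zero this.symm
    refine ⟨Units.mk0 _ hd, Units.ext (Matrix.ext fun i j => e.injective ?_)⟩
    rw [GeneralLinearGroup.coe_scalar, Matrix.scalar_apply, Matrix.diagonal_apply, hentry, apply_ite e, map_zero,
      Units.val_mk0, hentry, if_pos rfl]
  · rintro ⟨d, hd⟩
    exact ⟨Units.map e.toMonoidHom d, by rw [hd]; exact GeneralLinearGroup.map_scalar e d⟩

theorem ker_suι (hn : 3 ≤ n) :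
    (suι (n := n) hF hF₀ e hpow).ker = Subgroup.center (Cfsg.SU n F₀ q₀) := by
  ext a
  rw [MonoidHom.mem_ker]
  refine Iff.trans ?_ (SetLike.ext_iff.1 (ker_toPSU (n := n) (F := F₀) (q := q₀)) a)
  rw [MonoidHom.mem_ker]
  show diagHom hF (psi hF hF₀ e hpow (suGU hF₀ a)) = 1 ↔ _
  rw [diag_psi_eq_one hF hF₀ e hpow hn, diagHom_apply, semiAut_suGU hF₀]
  constructor
  · intro h
    have hcen : ∀ y, toPSU a * y = y * toPSU a := fun y => by
      have := MulEquiv.congr_fun h y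
      rw [MulAut.conj_apply, MulAut.one_apply, mul_inv_eq_iff_eq_mul] at this
      exact this
    obtain ⟨-, c, hc⟩ := eq_of_semiAut_eq_one hF₀ hn ((semiAut_suGU hF₀ a).trans h)
    rw [← MonoidHom.mem_ker, ker_toPSU]
    exact smul_mem_center fun x => (gap_suGU hF₀ a x).symm.trans (hc x)
  · intro h
    rw [h, map_one]

/-- `PSU_n(q₀) → Aut PSU_n(q)`. -/
noncomputable def ι (hn : 3 ≤ n) : Cfsg.PSU n F₀ q₀ →* MulAut (Cfsg.PSU n F q) :=
  QuotientGroup.lift _ (suι hF hF₀ e hpow) (ker_suι hF hF₀ e hpow hn).ge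

theorem ι_toPSU (hn : 3 ≤ n) (a : Cfsg.SU n F₀ q₀) :
    ι hF hF₀ e hpow hn (toPSU a) = diagHom hF (psi hF hF₀ e hpow (suGU hF₀ a)) := rfl

theorem ι_injective (hn : 3 ≤ n) : Function.Injective (ι hF hF₀ e hpow hn) := by
  rw [injective_iff_map_eq_one]
  intro z hz
  obtain ⟨s, rfl⟩ := toPSU_surjective z
  rw [← MonoidHom.mem_ker, ker_toPSU, ← ker_suι hF hF₀ e hpow hn]
  exact hz

theorem ι_semiAut (hn : 3 ≤ n) (g : Cfsg.GU n F₀ q₀) {τ : F ≃+* F} {τ₀ : F₀ ≃+* F₀} (hτ : ∀ x, τ (e x) = e (τ₀ x))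
    (z : Cfsg.PSU n F₀ q₀) :
    diagHom hF (psi hF hF₀ e hpow g) * semiAut 1 τ * ι hF hF₀ e hpow hn z
        * (diagHom hF (psi hF hF₀ e hpow g) * semiAut 1 τ)⁻¹
      = ι hF hF₀ e hpow hn (semiAut g τ₀ z) := by
  obtain ⟨s, rfl⟩ := toPSU_surjective z
  rw [semiAut_toPSU, ι_toPSU, ι_toPSU,
    show psi hF hF₀ e hpow (suGU hF₀ (semiSU g τ₀ s))
      = psi hF hF₀ e hpow g * theta hF τ (psi hF hF₀ e hpow (suGU hF₀ s)) * (psi hF hF₀ e hpow g)⁻¹ by
        refine Subtype.ext ?_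
        rw [Subgroup.coe_mul, Subgroup.coe_mul, Subgroup.coe_inv, coe_theta, coe_psi, coe_psi, coe_psi,
          show glMap τ (GeneralLinearGroup.map e (suGU hF₀ s : GL (Fin n) F₀))
            = GeneralLinearGroup.map e (glMap τ₀ (suGU hF₀ s : GL (Fin n) F₀)) from
              Units.ext (Matrix.ext fun i j => hτ _), ← map_inv, ← map_mul, ← map_mul]
        exact congrArg (GeneralLinearGroup.map e) (Units.ext rfl),
    map_mul, map_mul, map_inv, ← field_conj]
  group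

include hF hF₀ hpow he in
theorem range_ι_le (hn : 3 ≤ n) :
    (ι (n := n) hF hF₀ e hpow hn).range ≤
      Cfsg.Inn (Cfsg.PSU n F q) ⊓ Subgroup.centralizer {semiAut (1 : Cfsg.GU n F q) σ} := by
  rintro _ ⟨z, rfl⟩
  obtain ⟨s, rfl⟩ := toPSU_surjective z
  rw [ι_toPSU]
  refine ⟨?_, (commutes_iff (diagHom hF) (theta hF σ) _ (field_conj hF σ) _).2 (congrArg _ (Subtype.ext ?_))⟩
  · rw [Inn_eq_map hF (by omega)]
    refine ⟨_, MonoidHom.mem_ker.2 (Subtype.ext (Units.ext ?_)), rfl⟩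
    rw [detU_coe, coe_psi]
    show ((mat s).map e).det = 1
    rw [← RingHom.mapMatrix_apply, ← RingHom.map_det,
      show (mat s).det = 1 from (s : Matrix.SpecialLinearGroup (Fin n) F₀).2, map_one]
  · rw [coe_theta, coe_psi]
    exact Units.ext (Matrix.ext fun i j => he _)

include hF hF₀ hpow he he' in
theorem exists_of_mem (hn : 3 ≤ n) {x : MulAut (Cfsg.PSU n F q)} (hx : x ∈ Cfsg.inndiagPSU n F q)
    (hc : x ∈ Subgroup.centralizer {semiAut (1 : Cfsg.GU n F q) σ}) :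
    ∃ B : Cfsg.GU n F₀ q₀, x = diagHom hF (psi hF hF₀ e hpow B) := by
  have h : x ∈ Cfsg.inndiagPSU n F q ⊓ Subgroup.centralizer {semiAut (1 : Cfsg.GU n F q) σ} := ⟨hx, hc⟩
  rw [field_centralizer hF hF₀ e hpow he he' hn] at h
  obtain ⟨B, rfl⟩ := h
  exact ⟨B, rfl⟩

include hF in
theorem Inn_le_inndiag (hn : 0 < n) : Cfsg.Inn (Cfsg.PSU n F q) ≤ Cfsg.inndiagPSU n F q := by
  rw [inndiagPSU_eq hF, Inn_eq_map hF hn]
  exact MonoidHom.range_eq_map (diagHom (n := n) hF) ▸ Subgroup.map_mono le_top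

theorem conj_eq_semi (hn : 3 ≤ n) (B : Cfsg.GU n F₀ q₀) (z : Cfsg.PSU n F₀ q₀) :
    diagHom hF (psi hF hF₀ e hpow B) * ι hF hF₀ e hpow hn z * (diagHom hF (psi hF hF₀ e hpow B))⁻¹
      = ι hF hF₀ e hpow hn (semiAut B (RingEquiv.refl F₀) z) := by
  rw [← ι_semiAut hF hF₀ e hpow hn B (τ := RingEquiv.refl F) (fun _ => rfl) z,
    show semiAut (1 : Cfsg.GU n F q) (RingEquiv.refl F) = 1 from semiAut_one, mul_one]

include hF hF₀ hpow he he' in
theorem noPrimeSub (hn : 3 ≤ n) {p : ℕ} [hp : Fact p.Prime] (hr : ¬ p ∣ q₀)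
    (hd : p ∣ Nat.card ↥(Cfsg.Inn (Cfsg.PSU n F q) ⊓ Subgroup.centralizer {semiAut (1 : Cfsg.GU n F q) σ})) :
    NoPrimeSub (Cfsg.Inn (Cfsg.PSU n F q)) p (semiAut (1 : Cfsg.GU n F q) σ) := by
  have hmem : ∀ x ∈ Cfsg.Inn (Cfsg.PSU n F q) ⊓ Subgroup.centralizer {semiAut (1 : Cfsg.GU n F q) σ},
      ∃ B : Cfsg.GU n F₀ q₀, x = diagHom hF (psi hF hF₀ e hpow B) := fun x hx =>
    exists_of_mem hF hF₀ e hpow he he' hn (Inn_le_inndiag hF (by omega) hx.1) hx.2
  have hdS : p ∣ Nat.card (Cfsg.PSU n F₀ q₀) := by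
    refine dvd_card_PSU hF₀ hn (hd.trans ?_)
    let f : Cfsg.GU n F₀ q₀ →* MulAut (Cfsg.PSU n F q) := (diagHom hF).comp (psi hF hF₀ e hpow)
    refine (Subgroup.card_dvd_of_le (K := f.range) fun x hx => ?_).trans (dvd_of_eq ?_)
    · obtain ⟨B, rfl⟩ := hmem x hx
      exact ⟨B, rfl⟩
    · have hk : f.ker = (diagHom (n := n) hF₀).ker := by
        ext g
        exact diag_psi_eq_one hF hF₀ e hpow hn g
      rw [← Subgroup.index_ker, ← Subgroup.index_ker, hk]
  refine noPrimeSub_of (S := (ι hF hF₀ e hpow hn).range) (range_ι_le hF hF₀ e hpow he hn) ?_ ?_ ?_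
  · intro g hg x hx
    obtain ⟨B, rfl⟩ := hmem g hg
    obtain ⟨z, rfl⟩ := hx
    exact ⟨_, (conj_eq_semi hF hF₀ e hpow hn B z).symm⟩
  · exact sub_of_hom _ (ι_injective hF hF₀ e hpow hn) fun N hN hco => psu_no_sub hF₀ hn hr hdS N hN hco
  · intro x hx hs
    obtain ⟨B, rfl⟩ := hmem x hx
    have h1 : semiAut B (RingEquiv.refl F₀) = 1 := MulEquiv.ext fun z => ι_injective hF hF₀ e hpow hn (by
      rw [← conj_eq_semi hF hF₀ e hpow hn B z, hs _ ⟨z, rfl⟩, mul_inv_cancel_right]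
      rfl)
    exact (diag_psi_eq_one hF hF₀ e hpow hn B).2 h1

include hF hF₀ hpow he he' in
theorem selfCent (hn : 3 ≤ n) (h32 : ¬ (n = 3 ∧ q = 2)) :
    SelfCent (Cfsg.Inn (Cfsg.PSU n F q)) (semiAut (1 : Cfsg.GU n F q) σ) := by
  intro y hy hc
  obtain ⟨g, τ, rfl⟩ := exists_semiAut hF hn h32 y
  have hcomm : ∀ x, σ (τ x) = τ (σ x) := by
    have h := Subgroup.mem_centralizer_singleton_iff.1 hy
    rw [semiAut_mul hF, semiAut_mul hF] at h
    intro x
    exact (RingEquiv.congr_fun (semiAut_inj_field hF hn h) x).symm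
  have hx : ∀ x, ∃ x', e x' = τ (e x) := fun x => he' _ (by rw [hcomm, he])
  choose f hf using hx
  let f' : F₀ →+* F₀ :=
    { toFun := f
      map_one' := e.injective (by rw [hf, map_one, map_one])
      map_zero' := e.injective (by rw [hf, map_zero, map_zero])
      map_mul' := fun a b => e.injective (by rw [hf, map_mul, map_mul, map_mul, hf, hf])
      map_add' := fun a b => e.injective (by rw [hf, map_add, map_add, map_add, hf, hf]) }
  let τ₀ : F₀ ≃+* F₀ := RingEquiv.ofBijective f' ⟨f'.injective, Finite.surjective_of_injective f'.injective⟩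
  have hτ₀ : ∀ x, τ (e x) = e (τ₀ x) := fun x => (hf x).symm
  have hsplit : semiAut g τ = diagHom hF g * semiAut 1 τ := by
    rw [Unitary.semiAut_split hF, diagHom_apply]
  have hτc : semiAut (1 : Cfsg.GU n F q) τ ∈ Subgroup.centralizer {semiAut (1 : Cfsg.GU n F q) σ} := by
    rw [Subgroup.mem_centralizer_singleton_iff]
    show (fieldHom hF τ : MulAut (Cfsg.PSU n F q)) * fieldHom hF σ = fieldHom hF σ * fieldHom hF τ
    rw [← map_mul, ← map_mul]
    exact congrArg _ (RingEquiv.ext fun x => (hcomm x).symm)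
  rw [hsplit, Subgroup.mul_mem_cancel_right _ hτc] at hy
  obtain ⟨g₀, hg₀⟩ := exists_of_mem hF hF₀ e hpow he he' hn (by rw [inndiagPSU_eq hF]; exact ⟨g, rfl⟩) hy
  rw [hsplit, hg₀] at hc ⊢
  have h1 : semiAut g₀ τ₀ = 1 := MulEquiv.ext fun z => ι_injective hF hF₀ e hpow hn (by
    rw [← ι_semiAut hF hF₀ e hpow hn g₀ hτ₀ z, hc _ (range_ι_le hF hF₀ e hpow he hn ⟨z, rfl⟩), mul_inv_cancel_right]
    rfl)
  obtain ⟨hτ1, -⟩ := eq_of_semiAut_eq_one hF₀ hn h1
  rw [(diag_psi_eq_one hF hF₀ e hpow hn g₀).2 (by rw [diagHom_apply, ← hτ1]; exact h1), one_mul]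
  have hfix : ∀ a : F, σ a = a → τ a = a := fun a ha => by
    obtain ⟨x, rfl⟩ := he' a ha
    rw [hτ₀, hτ1, RingEquiv.refl_apply]
  have := finite_ringEquiv (F := F)
  obtain ⟨⟨_, k, rfl⟩, hg⟩ := FixedPoints.toAlgAut_surjective (Subgroup.zpowers σ) F
    (AlgEquiv.ofRingEquiv (f := τ) fun x : FixedPoints.subfield (Subgroup.zpowers σ) F =>
      hfix _ ((mem_fixedField σ).1 x.2))
  have hτk : σ ^ k = τ := RingEquiv.ext fun a => DFunLike.congr_fun hg a
  exact ⟨k, (map_zpow (fieldHom hF) σ k).symm.trans (congrArg (fieldHom hF) hτk)⟩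

include hF he hF₀ hpow in
theorem inf_ne_bot (hn : 3 ≤ n) :
    Cfsg.Inn (Cfsg.PSU n F q) ⊓ Subgroup.centralizer {semiAut (1 : Cfsg.GU n F q) σ} ≠ ⊥ := by
  intro h
  have hbot : (ι hF hF₀ e hpow hn).range = ⊥ := le_bot_iff.1 ((range_ι_le hF hF₀ e hpow he hn).trans h.le)
  obtain ⟨H⟩ := exists_hpair (n := n) hF₀ (by omega)
  obtain ⟨x, -, y, -, hxy⟩ := exists_noncommuting hF₀ hn H
  refine hxy (ι_injective hF hF₀ e hpow hn ?_)
  rw [Subgroup.mem_bot.1 (hbot ▸ ⟨_, rfl⟩ : ι hF hF₀ e hpow hn (x * y) ∈ (⊥ : Subgroup _)),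
    Subgroup.mem_bot.1 (hbot ▸ ⟨_, rfl⟩ : ι hF hF₀ e hpow hn (y * x) ∈ (⊥ : Subgroup _))]

end Field

end Cfsg.Agent.H58.PSUFieldBalance
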