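import Mathlib
import Cfsg.Agent.H58.LocalBalance
import Cfsg.Agent.H58.GraphPSU
import Cfsg.Agent.H58.FormCore

/-!
# Graph automorphisms of `PSU_n` and local balance
-/

set_option autoImplicit false
set_option linter.unusedSectionVars false
set_option linter.unusedSimpArgs false

namespace Cfsg.Agent.H58.PSUGraphBalance

open Matrix Cfsg.Agent.H58.PSLTwist Cfsg.Agent.H58.Descent Cfsg.Agent.H58.Twist Cfsg.Agent.H58.FormSim
  Cfsg.Agent.H58.FormInvariants Cfsg.Agent.H58.GraphGeneric Cfsg.Agent.H58.UnitaryTwist Cfsg.Agent.H58.GLScalar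
  Cfsg.Agent.H58.GraphPSU Cfsg.Agent.H58.LocalBalance
open Cfsg.Agent.H56 (glMap glMap_coe)
open Cfsg.Agent.Unitary (diagHom diagHom_apply semiAut semiAut_inj_field inndiagPSU_eq exists_semiAut)

variable {F : Type*} [Field F] [Fintype F] {F₀ : Type*} [Field F₀] [Fintype F₀] {n q : ℕ}

/-- In dimension at least three a non-singular symmetric or alternating form has a non-scalar isometry of
determinant one. -/
theorem exists_isometry {K : Type*} [Field K] [Fintype K] {m : ℕ} (hm : 3 ≤ m) (h2 : (2 : K) ≠ 0)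
    {H : Matrix (Fin m) (Fin m) K} (hG : Good H) :
    ∃ s : Matrix (Fin m) (Fin m) K, Sims H s 1 ∧ s.det = 1 ∧ ∀ c : K, s ≠ c • 1 := by
  by_contra hc
  push Not at hc
  let i : Fin m := ⟨0, by omega⟩
  let j : Fin m := ⟨1, by omega⟩
  have hij : i ≠ j := by simp [i, j, Fin.ext_iff]
  let g := Matrix.SpecialLinearGroup.toGL (Matrix.SpecialLinearGroup.transvection hij (1 : K))
  obtain ⟨-, c, hcg⟩ := FormCore.rigid hm h2 hG g (RingEquiv.refl K) fun s h1 hd => by
    obtain ⟨c, rfl⟩ := hc s h1 hd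
    refine ⟨1, ?_⟩
    rw [one_smul, Matrix.smul_mul, Matrix.one_mul,
      show (c • (1 : Matrix (Fin m) (Fin m) K)).map (RingEquiv.refl K) = c • 1 from rfl, Matrix.mul_smul, Matrix.mul_one]
  have := congrArg (fun M : GL (Fin m) K => (M : Matrix (Fin m) (Fin m) K) i j) hcg
  simp [g, Matrix.SpecialLinearGroup.transvection_coe, Matrix.transvection, hij] at this

variable (P : Frame F F₀ n q)

local notation "K" => contraHom

include P in
theorem noPrimeSub_selfCent (h32 : ¬ (n = 3 ∧ q = 2)) (h2 : (2 : F₀) ≠ 0) {γ : MulAut (Cfsg.PSU n F q)}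
    {h : GL (Fin n) F₀} (hR : P.Rep γ h) :
    NoPrimeSub (Cfsg.Inn (Cfsg.PSU n F q)) 2 γ ∧ SelfCent (Cfsg.Inn (Cfsg.PSU n F q)) γ ∧
      Cfsg.Inn (Cfsg.PSU n F q) ⊓ Subgroup.centralizer {γ} ≠ ⊥ := by
  have hG := P.good_of_rep hR
  obtain ⟨B, k, s, A, hB, hA, rfl⟩ := hR
  set γ := diagHom P.hF A * semiAut (1 : Cfsg.GU n F q) P.σ with hγ
  let Γ := sim (h : Matrix (Fin n) (Fin n) F₀)
  have hlift : ∀ Y : Γ, ∃ (a : Fˣ) (C : Cfsg.GU n F q),
      (C : GL (Fin n) F) = a • (B * P.E (Y : GL (Fin n) F₀) * B⁻¹) := fun Y => by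
    obtain ⟨l, hl⟩ := GraphPSL.mem_sim_gl.1 Y.2
    rw [map_inv, zmul] at hl
    obtain ⟨a, ha⟩ := P.exists_norm (c := (P.u l)⁻¹) (by rw [map_inv, P.fixed_units])
    refine ⟨a, ⟨_, (P.transporter_mem (a := a) hB hB).2 ?_⟩, rfl⟩
    rw [ha, hl, P.E_smul]
    congr 1
    simp [mul_comm]
  choose a C hC using hlift
  have huniq : ∀ (Y : Γ) (D : Cfsg.GU n F q) (t : Fˣ),
      (D : GL (Fin n) F) = t • (B * P.E (Y : GL (Fin n) F₀) * B⁻¹) → diagHom P.hF D = diagHom P.hF (C Y) := by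
    intro Y D t hD
    refine (diag_eq_iff P.hF P.hn _ _).2 ⟨t * (a Y)⁻¹, ?_⟩
    rw [hC, hD, zmul, smul_smul, inv_mul_cancel_right]
  let π : Γ →* MulAut (Cfsg.PSU n F q) :=
    MonoidHom.mk' (fun Y => diagHom P.hF (C Y)) fun Y W => by
      rw [← map_mul]
      refine (huniq (Y * W) (C Y * C W) (a Y * a W) ?_).symm
      rw [Subgroup.coe_mul, Subgroup.coe_mul, hC, hC, map_mul]
      simp only [gsmul_mul, gmul_smul, smul_smul, mul_assoc, inv_mul_cancel_left]
      congr 1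
      exact mul_comm _ _
  have hrange : Cfsg.inndiagPSU n F q ⊓ Subgroup.centralizer {γ} = π.range := by
    rw [inndiagPSU_eq P.hF]
    ext y
    constructor
    · rintro ⟨⟨D, rfl⟩, hy⟩
      obtain ⟨t, Y, hD⟩ := (P.transporter (C := D) hA hA).1
        (mul_inv_eq_iff_eq_mul.2 (Subgroup.mem_centralizer_singleton_iff.1 hy)).symm
      obtain ⟨l, -, hl⟩ := P.descend ((P.transporter_mem hB hB).1 (hD ▸ D.2))
      have hY : Y ∈ Γ := GraphPSL.mem_sim_gl.2 ⟨l, by rw [map_inv, zmul]; exact hl⟩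
      refine ⟨⟨Y, hY⟩, ?_⟩
      show diagHom P.hF (C ⟨Y, hY⟩) = _
      exact (huniq ⟨Y, hY⟩ D t hD).symm
    · rintro ⟨Y, rfl⟩
      refine ⟨⟨_, rfl⟩, Subgroup.mem_centralizer_singleton_iff.2 ?_⟩
      exact mul_inv_eq_iff_eq_mul.1 ((P.transporter (C := C Y) hA hA).2 ⟨a Y, _, hC Y⟩).symm
  have hker : ∀ Y : Γ, π Y = 1 ↔ ∃ c : F₀ˣ, (Y : GL (Fin n) F₀) = GeneralLinearGroup.scalar (Fin n) c := by
    intro Y
    show diagHom P.hF (C Y) = 1 ↔ _
    rw [diag_eq_one_iff P.hF P.hn]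
    constructor
    · rintro ⟨c, hc⟩
      rw [hC, zone] at hc
      have h2 := congrArg (fun x => (a Y)⁻¹ • (B⁻¹ * (x * B))) hc
      simp only [gsmul_mul, gmul_smul, smul_smul, mul_assoc, inv_mul_cancel_left, inv_mul_cancel, one_smul, mul_one,
        one_mul] at h2
      obtain ⟨d, -, hd⟩ := P.descend (y := 1) (h2.trans (by rw [map_one]))
      exact ⟨d, by rw [hd, ← zone]⟩
    · rintro ⟨d, hd⟩
      refine ⟨a Y * P.u d, ?_⟩
      rw [hC, hd, zone, P.E_smul, map_one, zone]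
      simp only [gsmul_mul, gmul_smul, smul_smul, mul_one, mul_inv_cancel]
  -- isometries of determinant one give inner automorphisms
  have hinn : ∀ Y : Γ, Sims (h : Matrix (Fin n) (Fin n) F₀) ((Y : GL (Fin n) F₀) : Matrix (Fin n) (Fin n) F₀) 1 →
      ((Y : GL (Fin n) F₀) : Matrix (Fin n) (Fin n) F₀).det = 1 →
      π Y ∈ Cfsg.Inn (Cfsg.PSU n F q) ⊓ Subgroup.centralizer {γ} := by
    intro Y h1 hdet
    have hmem : π Y ∈ Cfsg.inndiagPSU n F q ⊓ Subgroup.centralizer {γ} := by rw [hrange]; exact ⟨Y, rfl⟩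
    refine ⟨?_, hmem.2⟩
    have hiso : (K (Y : GL (Fin n) F₀))⁻¹ * h * (Y : GL (Fin n) F₀) = (1 : F₀ˣ) • h := by
      rw [one_smul]
      refine Units.ext ?_
      rw [Units.val_mul, Units.val_mul, ← map_inv, GraphPSL.contraHom_inv_coe]
      exact h1.trans (one_smul _ _)
    have hD : B * P.E (Y : GL (Fin n) F₀) * B⁻¹ ∈ Cfsg.GU n F q := by
      have h3 := (P.transporter_mem (a := 1) (Y := (Y : GL (Fin n) F₀)) hB hB).2 (by
        rw [hiso, P.E_smul, map_one]
        congr 1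
        simp)
      rwa [one_smul] at h3
    rw [Inn_eq_map P.hF P.n_pos]
    refine ⟨⟨_, hD⟩, MonoidHom.mem_ker.2 (Subtype.ext (Units.ext ?_)), huniq Y ⟨_, hD⟩ 1 (one_smul _ _).symm⟩
    rw [detU_coe, Units.val_mul, Units.val_mul, det_mul, det_mul, mul_right_comm, ← det_mul, ← Units.val_mul,
      mul_inv_cancel, Units.val_one, det_one, one_mul]
    show ((((Y : GL (Fin n) F₀) : Matrix (Fin n) (Fin n) F₀)).map P.e).det = 1
    rw [← RingHom.mapMatrix_apply, ← RingHom.map_det, hdet, map_one]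
  have hInnle : Cfsg.Inn (Cfsg.PSU n F q) ≤ Cfsg.inndiagPSU n F q := by
    rw [inndiagPSU_eq P.hF, Inn_eq_map P.hF P.n_pos]
    exact MonoidHom.range_eq_map (diagHom (n := n) P.hF) ▸ Subgroup.map_mono le_top
  have hiso' : ∀ g : GL (Fin n) F₀, Sims (h : Matrix (Fin n) (Fin n) F₀) (g : Matrix (Fin n) (Fin n) F₀) 1 →
      (g : Matrix (Fin n) (Fin n) F₀).det = 1 → g ∈ Γ :=
    fun g hg _ => mem_sim_iff.2 ⟨1, by rw [Units.val_one]; exact hg⟩
  refine ⟨?_, ?_, ?_⟩
  · intro M hM hn' hco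
    refine FormCore.odd_eq_bot (H := (h : Matrix (Fin n) (Fin n) F₀)) (Γ := Γ) π P.hn h2 hG
      (fun g hg => mem_sim_iff.1 hg) hiso' hker M ?_ (Nat.coprime_two_right.1 hco)
      fun Y hY hdet _ x hx => hn' _ (hinn Y hY hdet) x hx
    rw [← hrange]
    exact fun x hx => ⟨hInnle (hM hx).1, (hM hx).2⟩
  · intro y hy hc
    obtain ⟨g, τ, rfl⟩ := exists_semiAut P.hF P.hn h32 y
    have hy' := Subgroup.mem_centralizer_singleton_iff.1 hy
    have hγs : γ = semiAut A P.σ := by rw [hγ, Unitary.semiAut_split P.hF A P.σ, diagHom_apply]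
    have hys : semiAut g τ = diagHom P.hF g * semiAut 1 τ := by rw [Unitary.semiAut_split P.hF, diagHom_apply]
    have hστ : ∀ x, P.σ (τ x) = τ (P.σ x) := fun x => by rw [P.hσ, P.hσ, map_pow]
    have hSS : ∀ x : GL (Fin n) F, glMap τ (P.S x) = P.S (glMap τ x) := fun x =>
      Units.ext (Matrix.ext fun i j => (hστ _).symm)
    -- the matrix relating `y` to the descended data
    set D : GL (Fin n) F := B⁻¹ * (g : GL (Fin n) F) * glMap τ B with hD
    have hSD : ∃ c : Fˣ, P.S D = c • D := by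
      rw [hγs, Unitary.semiAut_mul P.hF, Unitary.semiAut_mul P.hF] at hy'
      have hf := semiAut_inj_field P.hF P.hn hy'
      rw [← hf, Unitary.semiAut_split P.hF, Unitary.semiAut_split P.hF (A * _), mul_left_inj,
        ← diagHom_apply P.hF, ← diagHom_apply P.hF, diag_eq_iff P.hF P.hn, Subgroup.coe_mul, Subgroup.coe_mul,
        show ((Unitary.guMap P.hF τ A : Cfsg.GU n F q) : GL (Fin n) F) = glMap τ (A : GL (Fin n) F) from coe_theta P.hF τ A,
        show ((Unitary.guMap P.hF P.σ g : Cfsg.GU n F q) : GL (Fin n) F) = P.S (g : GL (Fin n) F) from coe_theta P.hF P.σ g]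
        at hy'
      obtain ⟨c, hc'⟩ := hy'
      simp only [hA, zmul, glMap_smul, map_mul, map_inv, hSS, gsmul_mul, gmul_smul, smul_smul] at hc'
      refine ⟨(c * s)⁻¹ * umap τ s, ?_⟩
      have h3 := congrArg (fun x => (c * s)⁻¹ • (B⁻¹ * (x * P.S (glMap τ B)))) hc'
      simp only [gsmul_mul, gmul_smul, smul_smul, mul_assoc, inv_mul_cancel_left, inv_mul_cancel, one_smul,
        mul_one] at h3
      rw [hD]
      simp only [map_mul, map_inv, mul_assoc]
      rw [mul_comm s c, inv_mul_cancel, one_smul] at h3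
      exact h3.symm
    obtain ⟨c, hc'⟩ := hSD
    obtain ⟨b, g₀, hg₀⟩ := P.exists_E hc'
    -- the field part over the fixed field
    have hx : ∀ x, ∃ x', P.e x' = τ (P.e x) := fun x => P.he' _ (by rw [hστ, P.he])
    choose f hf using hx
    let f' : F₀ →+* F₀ :=
      { toFun := f
        map_one' := P.e.injective (by rw [hf, map_one, map_one])
        map_zero' := P.e.injective (by rw [hf, map_zero, map_zero])
        map_mul' := fun a b => P.e.injective (by rw [hf, map_mul, map_mul, map_mul, hf, hf])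
        map_add' := fun a b => P.e.injective (by rw [hf, map_add, map_add, map_add, hf, hf]) }
    let τ₀ : F₀ ≃+* F₀ := RingEquiv.ofBijective f' ⟨f'.injective, Finite.surjective_of_injective f'.injective⟩
    have hEτ : ∀ Y : GL (Fin n) F₀, glMap τ (P.E Y) = P.E (glMap τ₀ Y) := fun Y =>
      Units.ext (Matrix.ext fun i j => (hf _).symm)
    have hgB : (g : GL (Fin n) F) = b • (B * P.E g₀ * (glMap τ B)⁻¹) := by
      have h3 := congrArg (fun x => B * (x * (glMap τ B)⁻¹)) hg₀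
      simp only [hD, gsmul_mul, gmul_smul, mul_assoc, mul_inv_cancel_left, mul_inv_cancel, mul_one] at h3
      rw [mul_assoc]; exact h3
    obtain ⟨hτ₀, d, hd⟩ := FormCore.rigid P.hn h2 hG g₀ τ₀ fun S h1 hdet => by
      let Y : Γ := ⟨Matrix.SpecialLinearGroup.toGL ⟨S, hdet⟩, hiso' _ h1 hdet⟩
      have h3 := hc _ (hinn Y h1 hdet)
      rw [hys] at h3
      have h4 : diagHom P.hF (g * theta P.hF τ (C Y)) = diagHom P.hF (C Y * g) := by
        rw [map_mul, map_mul, ← UnitaryTwist.field_conj]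
        have h5 := congrArg (fun z => z * (semiAut (1 : Cfsg.GU n F q) τ)⁻¹) h3
        simp only [mul_assoc, mul_inv_cancel, mul_one] at h5
        exact h5
      rw [diag_eq_iff P.hF P.hn, Subgroup.coe_mul, Subgroup.coe_mul, coe_theta] at h4
      obtain ⟨e, he⟩ := h4
      simp only [hgB, hC, zmul, glMap_smul, map_mul, map_inv, hEτ, gsmul_mul, gmul_smul, smul_smul, mul_assoc,
        inv_mul_cancel_left] at he
      have h6 : ∃ t : Fˣ, P.E (g₀ * glMap τ₀ (Y : GL (Fin n) F₀)) = t • P.E ((Y : GL (Fin n) F₀) * g₀) := by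
        have h7 := congrArg (fun x => B⁻¹ * (x * glMap τ B)) he
        simp only [gsmul_mul, gmul_smul, mul_assoc, inv_mul_cancel_left, inv_mul_cancel, mul_one] at h7
        rw [map_mul, map_mul]
        exact ⟨_, (smul_left_cancel _ (by rw [smul_smul, mul_inv_cancel_left]; exact h7))⟩
      obtain ⟨t, ht⟩ := h6
      obtain ⟨t₀, -, ht₀⟩ := P.descend ht
      exact ⟨(t₀ : F₀), congrArg Units.val ht₀⟩
    have hfix : ∀ x, P.σ x = x → τ x = x := fun x hx => by
      obtain ⟨x₀, rfl⟩ := P.he' x hx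
      exact (hf x₀).symm.trans (congrArg P.e (RingEquiv.congr_fun hτ₀ x₀))
    have hor : τ = RingEquiv.refl F ∨ τ = P.σ := by
      have := finite_ringEquiv (F := F)
      obtain ⟨⟨_, k, rfl⟩, hg'⟩ := FixedPoints.toAlgAut_surjective (Subgroup.zpowers P.σ) F
        (AlgEquiv.ofRingEquiv (f := τ) fun x : FixedPoints.subfield (Subgroup.zpowers P.σ) F =>
          hfix _ ((mem_fixedField P.σ).1 x.2))
      have hτk : P.σ ^ k = τ := RingEquiv.ext fun a => DFunLike.congr_fun hg' a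
      rw [← hτk, ← zpow_mod_orderOf, P.hσ2]
      rcases Int.emod_two_eq_zero_or_one k with h | h
      · rw [Nat.cast_ofNat, h, zpow_zero]; exact Or.inl rfl
      · rw [Nat.cast_ofNat, h, zpow_one]; exact Or.inr rfl
    rw [hd, zone, P.E_smul, map_one] at hgB
    simp only [gsmul_mul, gmul_smul, smul_smul, mul_one] at hgB
    rcases hor with rfl | rfl
    · have h1 : diagHom P.hF g = 1 := (diag_eq_one_iff P.hF P.hn g).2 ⟨b * P.u d, by
        rw [hgB, zone, show glMap (RingEquiv.refl F) B = B from Units.ext (Matrix.map_id _), mul_inv_cancel]⟩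
      rw [← diagHom_apply P.hF, h1]
      exact one_mem _
    · have h1 : diagHom P.hF g = diagHom P.hF A := (diag_eq_iff P.hF P.hn g A).2 ⟨b * P.u d * s⁻¹, by
        rw [hgB, hA, zmul, smul_smul, inv_mul_cancel_right]⟩
      rw [hys, h1, ← hγ]
      exact Subgroup.mem_zpowers _
  · intro hbot
    obtain ⟨S, h1, hdet, hS⟩ := exists_isometry P.hn h2 hG
    let Y : Γ := ⟨Matrix.SpecialLinearGroup.toGL ⟨S, hdet⟩, hiso' _ h1 hdet⟩
    have h3 := hinn Y h1 hdet
    rw [hbot, Subgroup.mem_bot, hker] at h3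
    obtain ⟨d, hd⟩ := h3
    rw [zone] at hd
    exact hS d (congrArg Units.val hd)

end Cfsg.Agent.H58.PSUGraphBalance
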