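import Mathlib
import Cfsg.Agent.H58.LocalBalance
import Cfsg.Agent.H58.PSLTwist
import Cfsg.Agent.H99.SympField
import Cfsg.Agent.Symplectic.AutGraph
import Cfsg.Agent.Symplectic.Order

/-!
# Field automorphisms of `PSp` and local balance
-/

set_option autoImplicit false
set_option linter.unusedSectionVars false

namespace Cfsg.Agent.H58.PSpFieldBalance

open Matrix Cfsg.Agent.Symplectic Cfsg.Agent.H99.SympField Cfsg.Agent.H58.LocalBalance
open scoped LinearAlgebra.Projectivization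

section Small

variable {F : Type*} [Field F] [Fintype F] {m : ℕ}

/-- `PSp_{2m}(q)`, `m ≥ 2`, has no non-trivial normal subgroup of order prime to a prime divisor of its order other
than the characteristic. -/
theorem psp_no_sub {p : ℕ} [hp : Fact p.Prime] (hm : 2 ≤ m) (hr : ¬ p ∣ Fintype.card F)
    (hd : p ∣ Nat.card (Cfsg.PSp m F)) (N : Subgroup (Cfsg.PSp m F)) (hN : N.Normal)
    (hco : (Nat.card N).Coprime p) : N = ⊥ := by
  by_cases hs : 3 ≤ m ∨ (m = 2 ∧ 3 ≤ Fintype.card F) ∨ 4 ≤ Fintype.card F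
  · have := isSimpleGroup_psp m (by omega : 1 ≤ m) hs
    exact simple_normal hd N hN hco
  · have h1 := Fintype.one_lt_card (α := F)
    obtain ⟨rfl, hq⟩ : m = 2 ∧ Fintype.card F = 2 := by omega
    have hc : Nat.card (Cfsg.PSp 2 F) = 2 ^ 4 * (3 * (3 * 5)) := by
      have h := card_psp_mul 2 F (by norm_num)
      rw [hq] at h
      simpa [Finset.prod_range_succ] using h
    have hp35 : p ∣ 3 * 5 := by
      rw [hc] at hd
      rcases hp.out.dvd_mul.1 hd with h | h
      · exact absurd (hp.out.dvd_of_dvd_pow h) (hq ▸ hr)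
      · rcases hp.out.dvd_mul.1 h with h | h
        · exact h.trans (by norm_num)
        · exact h
    have hcard : Nat.card (ℙ F (Fin 2 ⊕ Fin 2 → F)) = 3 * 5 := by
      rw [Projectivization.card_of_finrank F _ (n := 4) (by simp [Module.finrank_fintype_fun_eq_card]),
        Nat.card_eq_fintype_card, hq]
      decide
    have hpre := preprimitive 2 F
    set M := N.comap (QuotientGroup.mk' (Subgroup.center (Matrix.symplecticGroup (Fin 2) F))) with hM
    have : M.Normal := hN.comap _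
    by_cases hfix : MulAction.fixedPoints M (ℙ F (Fin 2 ⊕ Fin 2 → F)) = Set.univ
    · rw [← Subgroup.map_comap_eq_self_of_surjective (QuotientGroup.mk'_surjective _) N, Subgroup.map_eq_bot_iff,
        QuotientGroup.ker_mk']
      exact fun g hg => center_eq_fixed g fun P => Set.eq_univ_iff_forall.1 hfix P ⟨g, hg⟩
    · exfalso
      have htr : MulAction.IsPretransitive M (ℙ F (Fin 2 ⊕ Fin 2 → F)) :=
        MulAction.IsQuasiPreprimitive.isPretransitive_of_normal hfix
      obtain ⟨P⟩ : Nonempty (ℙ F (Fin 2 ⊕ Fin 2 → F)) :=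
        ⟨Projectivization.mk F _ (ev_ne_zero (F := F) (0 : Fin 2))⟩
      have h2 : Nat.card (ℙ F (Fin 2 ⊕ Fin 2 → F)) ∣ Nat.card M := by
        rw [← MulAction.index_stabilizer_of_transitive M P]
        exact Subgroup.index_dvd_card _
      have h3 : Nat.card M = Nat.card N := by
        have hz : Nat.card (Subgroup.center (Matrix.symplecticGroup (Fin 2) F)) = 1 := by
          rw [card_center (by norm_num), hq]; rfl
        have e := Subgroup.card_mul_index ((QuotientGroup.mk' (Subgroup.center (Matrix.symplecticGroup (Fin 2) F))).ker.subgroupOf M)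
        have hinj : Function.Injective (QuotientGroup.mk' (Subgroup.center (Matrix.symplecticGroup (Fin 2) F))) := by
          rw [← MonoidHom.ker_eq_bot_iff, QuotientGroup.ker_mk', ← Subgroup.card_eq_one, hz]
        rw [← Subgroup.card_map_of_injective hinj, hM,
          Subgroup.map_comap_eq_self_of_surjective (QuotientGroup.mk'_surjective _) N]
      rw [hcard, h3] at h2
      exact hp.out.not_dvd_one (hco.gcd_eq_one ▸ Nat.dvd_gcd (hp35.trans h2) dvd_rfl)

/-- A prime dividing `|Inndiag PSp|` divides `|PSp|`. -/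
theorem dvd_card_psp {p : ℕ} [hp : Fact p.Prime] {r : ℕ} [Fact r.Prime] [CharP F r] (hm : 2 ≤ m)
    (hr : ¬ p ∣ Fintype.card F) (hd : p ∣ Nat.card (jAut (m := m) (F := F)).range) :
    p ∣ Nat.card (Cfsg.PSp m F) := by
  by_cases hp2 : p = 2
  · subst hp2
    have hodd : Odd (Fintype.card F) := Nat.not_even_iff_odd.1 fun h => hr (even_iff_two_dvd.1 h)
    have h4 : (4 : ℕ) ∣ Nat.card (Cfsg.PSp m F) * Nat.gcd 2 (Fintype.card F - 1) := by
      rw [card_psp_mul m F (by omega)]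
      refine (Dvd.dvd.trans ?_ (Finset.dvd_prod_of_mem _ (Finset.mem_range.2 (by omega : 0 < m)))).mul_left _
      obtain ⟨k, hk⟩ := hodd
      rw [hk]
      exact ⟨k * k + k, by
        have : (2 * k + 1) ^ (2 * (0 + 1)) = 4 * (k * k + k) + 1 := by ring
        omega⟩
    have hg : Nat.gcd 2 (Fintype.card F - 1) = 2 := Nat.gcd_eq_left (by
      obtain ⟨k, hk⟩ := hodd
      exact ⟨k, by omega⟩)
    rw [hg] at h4
    omega
  · -- the image of `PSp` has index at most two
    have hinj : Function.Injective (MulAut.conj : Cfsg.PSp m F →* MulAut (Cfsg.PSp m F)) := by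
      rw [injective_iff_map_eq_one]
      intro k hk
      obtain ⟨s, rfl⟩ := psp_surjective k
      rw [conj_psp, jAut_eq_one_iff (p := r) (by omega)] at hk
      obtain ⟨c, hc⟩ := hk
      refine psp_eq_one.2 ((Symplectic.mem_center_iff s).2 ⟨c, fun v => ?_⟩)
      rw [← scalar_mulVec c v, ← ofSp_coe s, hc, sc_coe]
    have hI : Nat.card (Cfsg.Inn (Cfsg.PSp m F)) = Nat.card (Cfsg.PSp m F) :=
      (Nat.card_congr (MonoidHom.ofInjective hinj).toEquiv).symm
    rw [← hI, Inn_eq_map (by omega)]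
    have hsq : ∀ g : Cfsg.GSp m F, jAut g ^ 2 ∈ (mu (show 1 ≤ m by omega)).ker.map jAut := by
      intro g
      refine ⟨sc (mu (show 1 ≤ m by omega) g)⁻¹ * g ^ 2, ?_, by rw [map_mul, jAut_sc, one_mul, map_pow]⟩
      rw [SetLike.mem_coe, MonoidHom.mem_ker, map_mul, mu_sc, map_pow, inv_pow, inv_mul_cancel]
    obtain ⟨⟨_, g, rfl⟩, hy⟩ := exists_prime_orderOf_dvd_card' p hd
    rw [← Subgroup.orderOf_coe] at hy
    have hmem : jAut g ∈ (mu (show 1 ≤ m by omega)).ker.map jAut := by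
      obtain ⟨k, hk⟩ := hp.out.odd_of_ne_two hp2
      have e : jAut g = (jAut g ^ 2) ^ (k + 1) := by
        rw [← pow_mul, show 2 * (k + 1) = p + 1 by omega, pow_succ, ← hy, pow_orderOf_eq_one, one_mul]
      rw [e]
      exact Subgroup.pow_mem _ (hsq g) _
    exact hy ▸ Subgroup.orderOf_dvd_natCard _ hmem

end Small

section Aut

variable {F : Type*} [Field F] [Fintype F] {m : ℕ}

/-- An automorphism of odd order, or any automorphism outside `Sp₄` in characteristic two, is semilinear. -/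
theorem exists_semiPSp_of_odd {r : ℕ} [hr : Fact r.Prime] [CharP F r] (hm : 2 ≤ m) (φ : MulAut (Cfsg.PSp m F))
    (h : (m = 2 → r ≠ 2) ∨ Odd (orderOf φ)) : ∃ g σ, φ = semiPSp g σ := by
  by_cases h4 : m = 2 → r ≠ 2
  · exact exists_semiPSp (p := r) hm (isTr_map (p := r) hm h4 φ)
  · push Not at h4
    obtain ⟨rfl, rfl⟩ := h4
    obtain ⟨k, hk⟩ := h.resolve_left (fun h => h rfl rfl)
    set y := φ ^ (k + 1) with hy
    have hφ : φ = y * y := by
      rw [hy, ← pow_add, show k + 1 + (k + 1) = orderOf φ + 1 by omega, pow_succ, pow_orderOf_eq_one, one_mul]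
    rcases Graph.exists_decomp y with hd | hd
    · obtain ⟨⟨g, σ⟩, hgs⟩ := hd
      change semiPSp g σ = y at hgs
      exact ⟨g * gspMap σ g, σ.trans σ, by rw [hφ, ← hgs, semiPSp_mul]⟩
    · obtain ⟨⟨g, σ⟩, hgs⟩ := hd
      change semiPSp g σ = Graph.tauP⁻¹ * y at hgs
      rw [eq_inv_mul_iff_mul_eq] at hgs
      rcases Graph.exists_decomp ((Graph.tauP : MulAut (Cfsg.PSp 2 F))⁻¹ * semiPSp g σ * Graph.tauP) with hd | hd
      · obtain ⟨⟨a, τ⟩, hat⟩ := hd
        change semiPSp a τ = _ at hat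
        refine ⟨_, _, show φ = semiPSp (1 * gspMap (Graph.fr F) a * gspMap (τ.trans (Graph.fr F)) g)
          (σ.trans (τ.trans (Graph.fr F))) from ?_⟩
        rw [← semiPSp_mul, ← semiPSp_mul, ← Graph.tauP_sq, hat, hφ, ← hgs]
        group
      · obtain ⟨⟨a, τ⟩, hat⟩ := hd
        change semiPSp a τ = _ at hat
        exfalso
        have e : (Graph.tauP : MulAut (Cfsg.PSp 2 F))
            = (semiPSp g σ)⁻¹ * (semiPSp 1 (Graph.fr F) * semiPSp a τ) := by
          rw [← Graph.tauP_sq, hat]; group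
        rw [semiPSp_inv, semiPSp_mul, semiPSp_mul] at e
        refine Graph.not_isTr_tau (F := F) ?_
        rw [e]
        exact Graph.pres_semiPSp _ _ _ ⟨Graph.e0, 1, Graph.e0_ne, one_ne_zero, rfl⟩

/-- An automorphism fixing a transvection is semilinear. -/
theorem exists_semiPSp_of_fix {r : ℕ} [hr : Fact r.Prime] [CharP F r] (hm : 2 ≤ m) (φ : MulAut (Cfsg.PSp m F))
    {v : Fin m ⊕ Fin m → F} {c : F} (hv : v ≠ 0) (hc : c ≠ 0) (hfix : φ (psp (T v c)) = psp (T v c)) :
    ∃ g σ, φ = semiPSp g σ := by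
  by_cases h4 : m = 2 → r ≠ 2
  · exact exists_semiPSp (p := r) hm (isTr_map (p := r) hm h4 φ)
  · push Not at h4
    obtain ⟨rfl, rfl⟩ := h4
    rcases Graph.exists_decomp φ with ⟨⟨g, σ⟩, h⟩ | ⟨⟨g, σ⟩, h⟩
    · exact ⟨g, σ, h.symm⟩
    · exfalso
      change semiPSp g σ = Graph.tauP⁻¹ * φ at h
      rw [eq_inv_mul_iff_mul_eq] at h
      rw [← h, MulAut.mul_apply] at hfix
      set z := semiPSp g σ (psp (T v c)) with hz
      have hzT : IsTr z := Graph.pres_semiPSp g σ _ ⟨v, c, hv, hc, rfl⟩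
      have hτz : IsTr (Graph.tauP z) := by rw [hfix]; exact ⟨v, c, hv, hc, rfl⟩
      exact Graph.not_isTr_tau (F := F) (Graph.isTr_conj hτz ((Graph.tauP : Cfsg.PSp 2 F ≃* Cfsg.PSp 2 F).toMonoidHom.map_isConj
        (Graph.isTr_isConj hzT ⟨Graph.e0, 1, Graph.e0_ne, one_ne_zero, rfl⟩)))

end Aut

section Field

variable {F : Type*} [Field F] [Fintype F] {m : ℕ} {r : ℕ} [hr : Fact r.Prime] [hch : CharP F r] {σ : F ≃+* F}
  {F₀ : Type*} [Field F₀] [Fintype F₀] [hch₀ : CharP F₀ r] (e : F₀ →+* F)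
  (he : ∀ x, σ (e x) = e x) (he' : ∀ a, σ a = a → ∃ x, e x = a)

theorem psi_sc (c : F₀ˣ) : psi e (sc c : Cfsg.GSp m F₀) = sc (Units.map e.toMonoidHom c) :=
  Subtype.ext (GeneralLinearGroup.map_scalar e c)

include hch hch₀ in
theorem jAut_psi_eq_one (hm : 1 ≤ m) (g : Cfsg.GSp m F₀) : jAut (psi e g) = 1 ↔ jAut g = 1 := by
  rw [jAut_eq_one_iff (p := r) hm, jAut_eq_one_iff (p := r) hm]
  constructor
  · rintro ⟨c, hc⟩
    have hentry : ∀ i j, e ((g.1 : Matrix (Fin m ⊕ Fin m) (Fin m ⊕ Fin m) F₀) i j) = if i = j then (c : F) else 0 := by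
      intro i j
      have := congrArg (fun M : Cfsg.GSp m F => (M.1 : Matrix (Fin m ⊕ Fin m) (Fin m ⊕ Fin m) F) i j) hc
      rw [sc_coe, GeneralLinearGroup.coe_scalar, Matrix.scalar_apply, Matrix.diagonal_apply] at this
      exact this
    let i₀ : Fin m ⊕ Fin m := Sum.inl ⟨0, hm⟩
    have hd : (g.1 : Matrix (Fin m ⊕ Fin m) (Fin m ⊕ Fin m) F₀) i₀ i₀ ≠ 0 := fun h0 => by
      have := hentry i₀ i₀
      rw [h0, map_zero, if_pos rfl] at this
      exact c.ne_zero this.symm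
    refine ⟨Units.mk0 _ hd, Subtype.ext (Units.ext (Matrix.ext fun i j => e.injective ?_))⟩
    rw [sc_coe, GeneralLinearGroup.coe_scalar, Matrix.scalar_apply, Matrix.diagonal_apply, hentry, apply_ite e,
      map_zero, Units.val_mk0, hentry, if_pos rfl]
  · rintro ⟨d, rfl⟩
    exact ⟨_, psi_sc e d⟩

/-- `Sp_{2m}(F₀) → Aut PSp_{2m}(F)`. -/
noncomputable def spι : Matrix.symplecticGroup (Fin m) F₀ →* MulAut (Cfsg.PSp m F) :=
  jAut.comp ((psi e).comp ofSp)

include hch hch₀ in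
theorem ker_spι (hm : 1 ≤ m) : (spι (m := m) e).ker = Subgroup.center (Matrix.symplecticGroup (Fin m) F₀) := by
  ext s
  rw [MonoidHom.mem_ker, spι, MonoidHom.comp_apply, MonoidHom.comp_apply, jAut_psi_eq_one (r := r) e hm,
    jAut_eq_one_iff (p := r) hm, Symplectic.mem_center_iff]
  constructor
  · rintro ⟨c, hc⟩
    exact ⟨c, fun v => by rw [← ofSp_coe s, hc, sc_coe, scalar_mulVec]⟩
  · rintro ⟨c, hc⟩
    have hc0 : c ≠ 0 := fun h0 => by
      have h1 := hc (Pi.single (Sum.inl ⟨0, hm⟩) 1)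
      rw [h0, zero_smul] at h1
      exact sp_mulVec_ne_zero s (by simp) h1
    refine ⟨Units.mk0 c hc0, Subtype.ext (Units.ext (Matrix.ext_of_mulVec_single fun i => ?_))⟩
    rw [ofSp_coe, hc, sc_coe, scalar_mulVec, Units.val_mk0]

/-- `PSp_{2m}(F₀) → Aut PSp_{2m}(F)`. -/
noncomputable def ι (hm : 1 ≤ m) (hr : ∀ s ∈ Subgroup.center (Matrix.symplecticGroup (Fin m) F₀), spι (m := m) e s = 1) :
    Cfsg.PSp m F₀ →* MulAut (Cfsg.PSp m F) :=
  QuotientGroup.lift _ (spι e) fun s hs => hr s hs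

include hch hch₀ in
theorem center_le (hm : 1 ≤ m) :
    ∀ s ∈ Subgroup.center (Matrix.symplecticGroup (Fin m) F₀), spι (m := m) e s = 1 := fun s hs =>
  MonoidHom.mem_ker.1 ((ker_spι (r := r) e hm).ge hs)

variable (hm : 1 ≤ m) (hc : ∀ s ∈ Subgroup.center (Matrix.symplecticGroup (Fin m) F₀), spι (m := m) e s = 1)

theorem ι_psp (s : Matrix.symplecticGroup (Fin m) F₀) : ι e hm hc (psp s) = jAut (psi e (ofSp s)) := rfl

include hch hch₀ in
theorem ι_injective : Function.Injective (ι e hm hc) := by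
  rw [injective_iff_map_eq_one]
  intro z hz
  obtain ⟨s, rfl⟩ := psp_surjective z
  rw [psp_eq_one, ← ker_spι (r := r) e hm]
  exact hz

theorem ι_semi (g : Cfsg.GSp m F₀) {τ : F ≃+* F} {τ₀ : F₀ ≃+* F₀} (hτ : ∀ x, τ (e x) = e (τ₀ x))
    (z : Cfsg.PSp m F₀) :
    jAut (psi e g) * fld τ * ι e hm hc z * (jAut (psi e g) * fld τ)⁻¹ = ι e hm hc (semiPSp g τ₀ z) := by
  obtain ⟨s, rfl⟩ := psp_surjective z
  rw [semiPSp_psp, ι_psp, ι_psp,
    show psi e (ofSp (semiSp g τ₀ s)) = psi e g * th τ (psi e (ofSp s)) * (psi e g)⁻¹ by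
      refine Subtype.ext ?_
      rw [Subgroup.coe_mul, Subgroup.coe_mul, Subgroup.coe_inv,
        show ((th τ (psi e (ofSp s))).1 : GL (Fin m ⊕ Fin m) F)
          = GeneralLinearGroup.map e (Units.map (τ₀.mapMatrix : Matrix (Fin m ⊕ Fin m) (Fin m ⊕ Fin m) F₀ ≃+* _).toMonoidHom
              (ofSp s).1) from Units.ext (Matrix.ext fun i j => hτ _)]
      show GeneralLinearGroup.map e _ = GeneralLinearGroup.map e g.1 * _ * (GeneralLinearGroup.map e g.1)⁻¹
      rw [← map_inv, ← map_mul, ← map_mul]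
      exact congrArg (GeneralLinearGroup.map e) (Units.ext rfl),
    map_mul, map_mul, map_inv, ← fld_conj]
  group

theorem conj_eq_semi (B : Cfsg.GSp m F₀) (z : Cfsg.PSp m F₀) :
    jAut (psi e B) * ι e hm hc z * (jAut (psi e B))⁻¹ = ι e hm hc (semiPSp B (RingEquiv.refl F₀) z) := by
  rw [← ι_semi e hm hc B (τ := RingEquiv.refl F) (fun _ => rfl) z,
    show fld (m := m) (RingEquiv.refl F) = 1 from map_one fld, mul_one]

include he in
theorem range_ι_le : (ι e hm hc).range ≤ Cfsg.Inn (Cfsg.PSp m F) ⊓ Subgroup.centralizer {fld σ} := by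
  rintro _ ⟨z, rfl⟩
  obtain ⟨s, rfl⟩ := psp_surjective z
  rw [ι_psp]
  refine ⟨?_, (Twist.commutes_iff jAut (th σ) (fld σ) (fld_conj σ) _).2
    (congrArg _ (Subtype.ext (Units.ext (Matrix.ext fun i j => he _))))⟩
  rw [Inn_eq_map hm]
  refine ⟨_, MonoidHom.mem_ker.2 (Units.ext (mu_eq hm fun u v => ?_)), rfl⟩
  have h : ((s : Matrix (Fin m ⊕ Fin m) (Fin m ⊕ Fin m) F₀).map e)ᵀ * Matrix.J (Fin m) F *
      ((s : Matrix (Fin m ⊕ Fin m) (Fin m ⊕ Fin m) F₀).map e) = Matrix.J (Fin m) F := by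
    have h1 := congrArg (fun M => M.map e) (SymplecticGroup.mem_iff'.1 s.2)
    rw [Matrix.map_mul, Matrix.map_mul, Matrix.transpose_map, show (Matrix.J (Fin m) F₀).map e = Matrix.J (Fin m) F
      from Matrix.ext fun i j => J_entry e i j] at h1
    exact h1
  rw [psi_coe, ofSp_coe, sf_mulVec, h, Units.val_one, one_mul]
  rfl

include hch he he' in
theorem exists_of_mem {x : MulAut (Cfsg.PSp m F)} (hm : 1 ≤ m) (hx : x ∈ Cfsg.inndiagPSp m F)
    (hcx : x ∈ Subgroup.centralizer {fld σ}) : ∃ B : Cfsg.GSp m F₀, x = jAut (psi e B) := by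
  have h : x ∈ Cfsg.inndiagPSp m F ⊓ Subgroup.centralizer {fld σ} := ⟨hx, hcx⟩
  rw [field_centralizer e hm (p := r) he he'] at h
  obtain ⟨_, ⟨B, rfl⟩, rfl⟩ := h
  exact ⟨B, rfl⟩

include hch hch₀ he he' in
theorem noPrimeSub (hm : 2 ≤ m) {p : ℕ} [hp : Fact p.Prime] (hrp : ¬ p ∣ Fintype.card F₀)
    (hd : p ∣ Nat.card ↥(Cfsg.Inn (Cfsg.PSp m F) ⊓ Subgroup.centralizer {fld σ})) :
    NoPrimeSub (Cfsg.Inn (Cfsg.PSp m F)) p (fld σ) := by
  have hm1 : 1 ≤ m := by omega
  have hc := center_le (r := r) (F := F) e hm1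
  have hmem : ∀ x ∈ Cfsg.Inn (Cfsg.PSp m F) ⊓ Subgroup.centralizer {fld σ},
      ∃ B : Cfsg.GSp m F₀, x = jAut (psi e B) := fun x hx =>
    exists_of_mem (r := r) e he he' hm1 (Inn_le_inndiag hm1 hx.1) hx.2
  have hdS : p ∣ Nat.card (Cfsg.PSp m F₀) := by
    refine dvd_card_psp (r := r) hm hrp (hd.trans ?_)
    let f : Cfsg.GSp m F₀ →* MulAut (Cfsg.PSp m F) := jAut.comp (psi e)
    refine (Subgroup.card_dvd_of_le (K := f.range) fun x hx => ?_).trans (dvd_of_eq ?_)
    · obtain ⟨B, rfl⟩ := hmem x hx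
      exact ⟨B, rfl⟩
    · have hk : f.ker = (jAut (m := m) (F := F₀)).ker := by
        ext g
        exact jAut_psi_eq_one (r := r) e hm1 g
      rw [← Subgroup.index_ker, ← Subgroup.index_ker, hk]
  refine noPrimeSub_of (S := (ι e hm1 hc).range) (range_ι_le e he hm1 hc) ?_ ?_ ?_
  · intro g hg x hx
    obtain ⟨B, rfl⟩ := hmem g hg
    obtain ⟨z, rfl⟩ := hx
    exact ⟨_, (conj_eq_semi e hm1 hc B z).symm⟩
  · exact sub_of_hom _ (ι_injective (r := r) e hm1 hc) fun N hN hco => psp_no_sub hm hrp hdS N hN hco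
  · intro x hx hs
    obtain ⟨B, rfl⟩ := hmem x hx
    have h1 : semiPSp B (RingEquiv.refl F₀) = 1 := MulEquiv.ext fun z => ι_injective (r := r) e hm1 hc (by
      rw [← conj_eq_semi e hm1 hc B z, hs _ ⟨z, rfl⟩, mul_inv_cancel_right]
      rfl)
    exact (jAut_psi_eq_one (r := r) e hm1 B).2 h1

include hch hch₀ he he' in
theorem selfCent (hm : 2 ≤ m) : SelfCent (Cfsg.Inn (Cfsg.PSp m F)) (fld σ) := by
  have hm1 : 1 ≤ m := by omega
  have hc := center_le (r := r) (F := F) e hm1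
  intro y hy hcy
  -- `y` fixes a transvection defined over the fixed field
  let v₀ : Fin m ⊕ Fin m → F₀ := Pi.single (Sum.inl ⟨0, hm1⟩) 1
  let v : Fin m ⊕ Fin m → F := Pi.single (Sum.inl ⟨0, hm1⟩) 1
  have hv : (e : F₀ → F) ∘ v₀ = v := funext fun i => by simp [v₀, v, Pi.single_apply, apply_ite e]
  have hTmap : psi e (ofSp (T v₀ (1 : F₀))) = ofSp (T v (1 : F)) := by
    refine Subtype.ext (Units.ext (Matrix.ext_of_mulVec_single fun i => ?_))
    rw [psi_coe, ofSp_coe, ofSp_coe, T_mulVec]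
    have h1 : (Pi.single i 1 : Fin m ⊕ Fin m → F) = (e : F₀ → F) ∘ (Pi.single i 1 : Fin m ⊕ Fin m → F₀) :=
      funext fun k => by simp [Pi.single_apply, apply_ite e]
    have hsf : Cfsg.sympForm m F (Pi.single i 1) v = e (Cfsg.sympForm m F₀ (Pi.single i 1) v₀) := by
      rw [h1, ← hv, Cfsg.sympForm, Cfsg.sympForm, RingHom.map_dotProduct]
      congr 1
      funext k
      rw [Function.comp_apply, RingHom.map_mulVec,
        show (Matrix.J (Fin m) F₀).map e = Matrix.J (Fin m) F from Matrix.ext fun i j => J_entry e i j]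
    funext k
    rw [h1, ← RingHom.map_mulVec, T_mulVec, ← h1, hsf, ← hv]
    simp [Pi.single_apply, apply_ite e]
  have hfix : y (psp (T v 1)) = psp (T v 1) := by
    have h1 := hcy _ (range_ι_le e he hm1 hc ⟨psp (T v₀ (1 : F₀)), rfl⟩)
    rw [ι_psp, hTmap, ← conj_psp] at h1
    have hinj : Function.Injective (MulAut.conj : Cfsg.PSp m F →* MulAut (Cfsg.PSp m F)) := by
      rw [injective_iff_map_eq_one]
      intro k hk
      obtain ⟨s, rfl⟩ := psp_surjective k
      rw [conj_psp, jAut_eq_one_iff (p := r) hm1] at hk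
      obtain ⟨c, hc⟩ := hk
      exact psp_eq_one.2 ((Symplectic.mem_center_iff s).2
        ⟨c, fun w => by rw [← scalar_mulVec c w, ← ofSp_coe s, hc, sc_coe]⟩)
    refine hinj ?_
    rw [show MulAut.conj (y (psp (T v 1))) = y * MulAut.conj (psp (T v 1)) * y⁻¹ from
      MulEquiv.ext fun z => by simp [MulAut.inv_def], h1, mul_inv_cancel_right]
  obtain ⟨g, τ, rfl⟩ := exists_semiPSp_of_fix (r := r) hm y (by simp [v]) one_ne_zero hfix
  have hsplit : semiPSp g τ = jAut g * fld τ := by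
    rw [jAut_apply, fld_apply, semiPSp_mul]
    congr 1
    rw [show gspMap (RingEquiv.refl F) (1 : Cfsg.GSp m F) = 1 from Subtype.ext (Units.ext (Matrix.map_id _)),
      mul_one]
  have hy' := Subgroup.mem_centralizer_singleton_iff.1 hy
  have hcomm : ∀ x, σ (τ x) = τ (σ x) := by
    rw [fld_apply, semiPSp_mul, semiPSp_mul] at hy'
    have h2 : (semiPSp (1 * gspMap σ g) (τ.trans σ))⁻¹ * semiPSp (g * gspMap τ 1) (σ.trans τ) = 1 := by
      rw [hy', inv_mul_cancel]
    rw [semiPSp_inv, semiPSp_mul] at h2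
    obtain ⟨h3, -⟩ := H99.SympField.eq_of_semiPSp_eq_one (p := r) hm1 h2
    intro x
    have := RingEquiv.congr_fun h3 x
    simp only [RingEquiv.trans_apply, RingEquiv.refl_apply] at this
    have h4 := congrArg (τ.trans σ) this
    rw [RingEquiv.apply_symm_apply] at h4
    exact h4.symm
  have hx : ∀ x, ∃ x', e x' = τ (e x) := fun x => he' _ (by rw [hcomm, he])
  choose f hf using hx
  let f' : F₀ →+* F₀ :=
    { toFun := f
      map_one' := e.injective (by rw [hf, map_one, map_one])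
      map_zero' := e.injective (by rw [hf, map_zero, map_zero])
      map_mul' := fun a b => e.injective (by rw [hf, map_mul, map_mul, map_mul, hf, hf])
      map_add' := fun a b => e.injective (by rw [hf, map_add, map_add, map_add, hf, hf]) }
  let τ₀ : F₀ ≃+* F₀ := RingEquiv.ofBijective f' ⟨f'.injective, Finite.surjective_of_injective f'.injective⟩
  have hτ₀ : ∀ x, τ (e x) = e (τ₀ x) := fun x => (hf x).symm
  have hτc : fld (m := m) τ ∈ Subgroup.centralizer {fld σ} := by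
    rw [Subgroup.mem_centralizer_singleton_iff, ← map_mul, ← map_mul]
    exact congrArg _ (RingEquiv.ext fun x => (hcomm x).symm)
  rw [hsplit, Subgroup.mul_mem_cancel_right _ hτc] at hy
  obtain ⟨g₀, hg₀⟩ := exists_of_mem (r := r) e he he' hm1 (by rw [inndiag_eq]; exact ⟨g, rfl⟩) hy
  rw [hsplit, hg₀] at hcy ⊢
  have h1 : semiPSp g₀ τ₀ = 1 := MulEquiv.ext fun z => ι_injective (r := r) e hm1 hc (by
    rw [← ι_semi e hm1 hc g₀ hτ₀ z, hcy _ (range_ι_le e he hm1 hc ⟨z, rfl⟩), mul_inv_cancel_right]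
    rfl)
  obtain ⟨hτ1, c, hgc⟩ := H99.SympField.eq_of_semiPSp_eq_one (p := r) hm1 h1
  rw [(jAut_psi_eq_one (r := r) e hm1 g₀).2 (by rw [hgc, jAut_sc]), one_mul]
  have hfixτ : ∀ a : F, σ a = a → τ a = a := fun a ha => by
    obtain ⟨x, rfl⟩ := he' a ha
    rw [hτ₀, hτ1, RingEquiv.refl_apply]
  have := Descent.finite_ringEquiv (F := F)
  obtain ⟨⟨_, k, rfl⟩, hg⟩ := FixedPoints.toAlgAut_surjective (Subgroup.zpowers σ) F
    (AlgEquiv.ofRingEquiv (f := τ) fun x : FixedPoints.subfield (Subgroup.zpowers σ) F =>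
      hfixτ _ ((Descent.mem_fixedField σ).1 x.2))
  have hτk : σ ^ k = τ := RingEquiv.ext fun a => DFunLike.congr_fun hg a
  exact ⟨k, (map_zpow (fld (m := m)) σ k).symm.trans (congrArg _ hτk)⟩

include hch hch₀ he in
theorem inf_ne_bot (hm : 1 ≤ m) : Cfsg.Inn (Cfsg.PSp m F) ⊓ Subgroup.centralizer {fld σ} ≠ ⊥ := by
  intro h
  have hc := center_le (r := r) (F := F) e hm
  have hbot : (ι e hm hc).range = ⊥ := le_bot_iff.1 ((range_ι_le e he hm hc).trans h.le)
  refine psp_T_ne_one (v := (Pi.single (Sum.inl ⟨0, hm⟩) 1 : Fin m ⊕ Fin m → F₀)) (c := 1) (by simp) one_ne_zero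
    (ι_injective (r := r) e hm hc ?_)
  rw [map_one]
  exact Subgroup.mem_bot.1 (hbot ▸ ⟨_, rfl⟩)

end Field

end Cfsg.Agent.H58.PSpFieldBalance
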